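import Cfsg.Agent.NFS.RkA

/-!
# Two rank one data over the same `J`
-/

set_option autoImplicit false
set_option linter.unusedSectionVars false

namespace Cfsg.Agent.NFS

open Cfsg.Agent.PLocal hiding centralizer_anti
open Subgroup Cfsg Cfsg.Agent.PLocal.Amb Cfsg.Agent.PLocal.TV
open Cfsg.Agent.PLocal.SL2Nat Cfsg.Agent.PLocal.Bk
open Cfsg.Agent.PLocal.CP (IsCharP MinOver ncl secCent)
open Cfsg.Agent.Solv.Ext (Inv)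
open Cfsg.Agent.QT.Qrc (P2)
open scoped commutatorElement MatrixGroups Cfsg.Agent.PLocal.CP

variable {G : Type*} [Group G] [Finite G] {J W L W' L' W'' L'' X : Subgroup G} {q : ℕ}

theorem rkb_comm {W A B K : Subgroup G} (hA : A ≤ K) (hB : B ≤ 𝐂[W])
    (h : ∀ x ∈ K, ∃ a ∈ A, ∃ b ∈ B, x = a * b) : ⁅W, K⁆ = ⁅W, A⁆ := by
  refine le_antisymm (commutator_le.2 fun w hw x hx => ?_) (commutator_mono le_rfl hA)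
  obtain ⟨a, ha, b, hb, rfl⟩ := h x hx
  have e := mem_centralizer_iff.1 (hB hb) w hw
  have : ⁅w, a * b⁆ = ⁅w, a⁆ := by
    simp only [commutatorElement_def]
    calc _ = w * a * w⁻¹ * (w * b) * w⁻¹ * b⁻¹ * a⁻¹ := by group
      _ = _ := by rw [e]; group
  rw [this]
  exact commutator_mem_commutator hw ha

theorem Rk.nQ (h : Rk J W L q) : J ≤ 𝐍[J ⊓ 𝐂[W]] :=
  le_normalizer_inf le_normalizer (le_normalizer_centralizer (h.JL.trans h.nW))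

theorem Rk.WQ (h : Rk J W L q) : W ≤ J ⊓ 𝐂[W] := le_inf h.WJ (isEA_le_centralizer h.ea)

theorem Rk.qq (h : Rk J W L q) : ⁅J ⊓ 𝐂[W], J ⊓ 𝐂[W]⁆ ≤ 𝐂[𝐎[2, L]] ∧
    ∀ x ∈ J ⊓ 𝐂[W], x * x ∈ 𝐂[𝐎[2, L]] := sq_comm_cent h.ea inf_le_right h.cm

theorem Rk.nc1 (h : Rk J W L q) (h' : Rk J W' L' q) (hn : ¬ W' ≤ 𝐂[W]) :
    W ⊔ (J ⊓ 𝐂[W']) = J := by
  obtain ⟨u, hu, hu'⟩ := SetLike.not_le_iff_exists.1 hn
  have e : 𝐂[W'] ⊓ W = 𝐂[J] ⊓ W := le_antisymm (fun w hw => ⟨h.cent_elt (h'.WJ hu) hu' hw.2 (by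
    rw [commutatorElement_eq_one_iff_mul_comm.2 (mem_centralizer_iff.1 hw.1 u hu)]
    exact one_mem _), hw.2⟩) (inf_le_inf_right _ (centralizer_anti h'.WJ))
  rw [inf_comm J]
  refine (Ex.sup_of_relIndex_le h.WJ ?_).symm
  rw [h'.idx.1, ← inf_relIndex_right, e, inf_relIndex_right, h.idx.2.1]

theorem Rk.zc (h : Rk J W L q) (h' : Rk J W' L' q) (hc : W' ≤ 𝐂[W]) {A : Subgroup G}
    (hA : A ∈ maxEA 2 J) (hn : ¬ A ≤ 𝐂[W]) (hW : A ≤ 𝐂[W']) : ⁅W', J⁆ ≤ 𝐂[𝐎[2, L]] := by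
  rw [rkb_comm (A := J ⊓ 𝐂[W]) (K := J) inf_le_left hW fun x hx =>
    (mem_sup_of_le_normalizer_left (hA.1.trans h.nQ)).1 (by rwa [sup_comm, (h.full hA hn).1])]
  exact (commutator_mono (le_inf h'.WJ hc) le_rfl).trans h.qq.1

theorem Rk.sle (h : Rk J W L q) (h' : Rk J W' L' q) (hc : W' ≤ 𝐂[W]) {A : Subgroup G}
    (hn : ¬ A ≤ 𝐂[W]) (hA : A ∈ maxEA 2 J) (e : A ⊓ 𝐂[W] = A ⊓ 𝐂[W']) :
    (A ⊓ 𝐂[W]) ⊔ W' ≤ (A ⊓ 𝐂[W]) ⊔ W :=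
  sup_le le_sup_left (le_of_mem_maxEA_of_centralizes (h.full hA hn).2.2.2.1 h'.WJ
    (isEA_iff.1 h'.ea).2 (by
      rw [Amb.centralizer_sup]
      exact le_inf (le_centralizer_iff.1 (e.le.trans inf_le_right)) hc))

/-- `C_W(W') = ℓ̂` (`cent_elt`), so `|W : C_W(W')| = q = |J : C_J(W')|`, i.e. `J = W Q₀'`; by symmetry
`J = W' Q₀`; `Z_W = [W, W' Q₀] = [W, W'] = Z_{W'}`. -/
theorem Rk.nc (h : Rk J W L q) (h' : Rk J W' L' q) (hn : ¬ W' ≤ 𝐂[W]) :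
    W' ⊔ (J ⊓ 𝐂[W]) = J ∧ ⁅W', J⁆ = ⁅W, J⁆ := by
  have hn' : ¬ W ≤ 𝐂[W'] := mt le_centralizer_iff.1 hn
  have e1 := h.nc1 h' hn
  have e2 := h'.nc1 h hn'
  refine ⟨e2, ?_⟩
  rw [rkb_comm h.WJ (inf_le_right : J ⊓ 𝐂[W'] ≤ _) fun x hx =>
      (mem_sup_of_le_normalizer_right (h.WJ.trans h'.nQ)).1 (e1.ge hx),
    rkb_comm h'.WJ (inf_le_right : J ⊓ 𝐂[W] ≤ _) fun x hx =>
      (mem_sup_of_le_normalizer_right (h'.WJ.trans h.nQ)).1 (e2.ge hx), commutator_comm]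

/-- Commuting case.  Let `A ∈ maxEA`, `A ≰ 𝐂[W]`, `A' = (A ⊓ 𝐂[W']) ⊔ W' ∈ maxEA` (`full`, or `A' = A`
if `A ≤ 𝐂[W']`).  If `A' ≰ 𝐂[W]`: `J = A' Q₀`, `[W', A'] = 1`, `[W', Q₀] ≤ [Q₀, Q₀] ≤ 𝐂[E]`
(`sq_comm_cent`), and `J` normalises `𝐂[E]`; so `Z_{W'} ≤ 𝐂[E]`.  Otherwise `A ⊓ 𝐂[W'] ≤ A ⊓ 𝐂[W]`,
`A ≰ 𝐂[W']`, both of index `q`, so they are equal to `A₀`; `A₀ W, A₀ W' ∈ maxEA` commute, so are equal. -/
theorem Rk.com (h : Rk J W L q) (h' : Rk J W' L' q) (hc : W' ≤ 𝐂[W]) :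
    ⁅W', J⁆ ≤ 𝐂[𝐎[2, L]] ∨ ∃ A ∈ maxEA 2 J, ¬ A ≤ 𝐂[W] ∧ ¬ A ≤ 𝐂[W'] ∧
      A ⊓ 𝐂[W] = A ⊓ 𝐂[W'] ∧ (A ⊓ 𝐂[W]) ⊔ W = (A ⊓ 𝐂[W]) ⊔ W' := by
  obtain ⟨A, hA, hn⟩ := h.exA
  by_cases c : A ≤ 𝐂[W']
  · exact .inl (h.zc h' hc hA hn c)
  have hA' := (h'.full hA c).2.2.2.1
  by_cases c' : (A ⊓ 𝐂[W']) ⊔ W' ≤ 𝐂[W]
  · have e : A ⊓ 𝐂[W] = A ⊓ 𝐂[W'] := by
      refine (PLocal.eq_of_le_of_card_le (le_inf inf_le_left (le_sup_left.trans c')) ?_).symm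
      have k1 := card_inf_mul_relIndex 𝐂[W] A
      have k2 := card_inf_mul_relIndex 𝐂[W'] A
      rw [(h.full hA hn).2.1, inf_comm] at k1
      rw [(h'.full hA c).2.1, inf_comm, ← k1] at k2
      exact (Nat.eq_of_mul_eq_mul_right (lt_of_lt_of_le two_pos h.two_le) k2).ge
    refine .inr ⟨A, hA, hn, c, e, le_antisymm ?_ (h.sle h' hc hn hA e)⟩
    rw [e]
    exact h'.sle h (le_centralizer_iff.1 hc) c hA e.symm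
  · exact .inl (h.zc h' hc hA' c' ((isEA_le_centralizer hA'.2.1).trans (centralizer_anti le_sup_right)))

/-- `nc`; `com`: in the second case `Z_W = [W, A] = [A₀ W, A] = [A₀ W', A] = Z_{W'}`. -/
theorem Rk.dich (h : Rk J W L q) (h' : Rk J W' L' q) :
    ⁅W', J⁆ = ⁅W, J⁆ ∨ (⁅W', J⁆ ≤ 𝐂[𝐎[2, L]] ∧ W' ≤ 𝐂[W]) := by
  by_cases hc : W' ≤ 𝐂[W]
  swap
  · exact .inl (h.nc h' hc).2
  rcases h.com h' hc with k | ⟨A, hA, n1, n2, e1, e2⟩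
  · exact .inr ⟨k, hc⟩
  have k0 : A ⊓ 𝐂[W] ≤ 𝐂[A] := inf_le_left.trans (isEA_le_centralizer hA.2.1)
  left
  rw [← (h.full hA n1).2.2.2.2, ← (h'.full hA n2).2.2.2.2, commutator_comm W', commutator_comm W,
    ← rkb_comm (K := (A ⊓ 𝐂[W]) ⊔ W) le_sup_right k0 fun x hx => (mem_sup_of_le_normalizer_left
      (inf_le_right.trans (centralizer_le_normalizer' W))).1 (by rwa [sup_comm]),
    ← rkb_comm (K := (A ⊓ 𝐂[W]) ⊔ W') le_sup_right k0 fun x hx => (mem_sup_of_le_normalizer_left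
      ((e1.le.trans inf_le_right).trans (centralizer_le_normalizer' W'))).1 (by rwa [sup_comm]), e2]

theorem Rk.same_le (h : Rk J W L q) (h' : Rk J W' L' q) (hc : W' ≤ 𝐂[W]) (hZ : ⁅W', J⁆ = ⁅W, J⁆) :
    J ⊓ 𝐂[W] ≤ J ⊓ 𝐂[W'] := by
  obtain ⟨A, hA, n1, n2, e1, e2⟩ := (h.com h' hc).resolve_left (hZ ▸ h.zw.2.1)
  refine fun u hu => ⟨hu.1, by_contra fun hu' => ?_⟩
  obtain ⟨a, ha, c, hc', rfl⟩ := (mem_sup_of_le_normalizer_right (hA.1.trans h'.nQ)).1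
    ((h'.full hA n2).1.ge hu.1)
  have a1 : a ∉ 𝐂[W] := fun k => hu' (mul_mem (e1.le ⟨ha, k⟩).2 hc'.2)
  refine a1 (le_centralizer_iff.1 (fun w hw => ?_ : W ≤ 𝐂[J]) (hA.1 ha))
  obtain ⟨w', hw', a₀, h0, e⟩ := (mem_sup_of_le_normalizer_left
    ((e1.le.trans inf_le_right).trans (centralizer_le_normalizer' W'))).1
    ((e2.trans (sup_comm _ _)).le (mem_sup_right hw))
  refine h.cent_elt (hA.1 ha) a1 hw ?_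
  have k1 := isEA_comm hA.2.1 ha h0.1
  have k2 := mem_centralizer_iff.1 hc'.2 w' hw'
  have : ⁅a, w⁆ = ⁅a * c, w'⁆ := by
    simp only [commutatorElement_def, e]
    calc _ = a * w' * a⁻¹ * (a * a₀) * a⁻¹ * a₀⁻¹ * w'⁻¹ := by group
      _ = a * (w' * c) * c⁻¹ * a⁻¹ * w'⁻¹ := by rw [k1]; group
      _ = _ := by rw [k2]; group
  rw [this]
  exact h.qq.1 (commutator_mem_commutator hu ⟨h'.WJ hw', hc hw'⟩)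

/-- By `zw` the second case of `com` holds.  Let `u ∈ Q₀ \ 𝐂[W']`; `u = a c`, `a ∈ A`, `c ∈ Q₀'`.
`a ∉ 𝐂[W']`, so `a ∉ A₀`, `a ∉ 𝐂[W]`.  For `w ∈ W` write `w = a₀ w'` (`a₀ ∈ A₀`, `w' ∈ W'`):
`⁅a, w⁆ = ⁅a, w'⁆ = ⁅u, w'⁆ ∈ [Q₀, Q₀] ≤ 𝐂[E]`, so `W ≤ 𝐂[J]` (`cent_elt`), absurd.  So `Q₀ ≤ Q₀'`, and
symmetrically. -/
theorem Rk.same (h : Rk J W L q) (h' : Rk J W' L' q) (hc : W' ≤ 𝐂[W]) (hZ : ⁅W', J⁆ = ⁅W, J⁆) :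
    J ⊓ 𝐂[W'] = J ⊓ 𝐂[W] := by
  exact le_antisymm (h'.same_le h (le_centralizer_iff.1 hc) hZ.symm) (h.same_le h' hc hZ)

/-- Let `x ∈ W'' \ 𝐂[W]`.  `x = w' u` (`J = W' Q₀`), `u = w u'` (`J = W Q₀'`), so `u' ∈ Q₀ ⊓ Q₀'`
commutes with `w, w'`; `1 = x² = (w' w)² u'² = ⁅w', w⁆ u'²`, `u'² ∈ 𝐂[E]` (`sq_comm_cent`); `w' ∉ 𝐂[W]`, so
`w ∈ 𝐂[J]` (`cent_elt`) and `x ∈ 𝐂[W']`.  `W''` is generated by `W'' \ 𝐂[W]`. -/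
theorem Rk.uniq (h : Rk J W L q) (h' : Rk J W' L' q) (h'' : Rk J W'' L'' q) (h1 : ¬ W' ≤ 𝐂[W])
    (h2 : ¬ W'' ≤ 𝐂[W]) : W'' ≤ 𝐂[W'] := by
  have key : ∀ x ∈ W'', x ∉ 𝐂[W] → x ∈ 𝐂[W'] := fun x hx hn => by
    obtain ⟨w', hw', u, hu, rfl⟩ := (mem_sup_of_le_normalizer_right (h'.WJ.trans h.nQ)).1
      ((h.nc h' h1).1.ge (h''.WJ hx))
    obtain ⟨w, hw, u', hu', e⟩ := (mem_sup_of_le_normalizer_right (h.WJ.trans h'.nQ)).1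
      ((h.nc1 h' h1).ge hu.1)
    have k0 : u' ∈ J ⊓ 𝐂[W] := (mul_mem_cancel_left (h.WQ hw)).1 (e ▸ hu)
    have k1 := mem_centralizer_iff.1 k0.2 w hw
    have k2 := mem_centralizer_iff.1 hu'.2 w' hw'
    have k3 := (isEA_iff.1 h''.ea).2 _ hx
    have k4 := (isEA_iff.1 h.ea).2 _ hw
    have k5 := (isEA_iff.1 h'.ea).2 _ hw'
    rw [pow_two] at k3 k4 k5
    have k6 : ⁅w', w⁆ * (u' * u') = 1 := by
      rw [commutatorElement_def, inv_eq_of_mul_eq_one_left k4, inv_eq_of_mul_eq_one_left k5, ← k3, e]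
      calc _ = w' * w * (w' * (w * u')) * u' := by group
        _ = w' * w * (w' * u') * w * u' := by rw [k1]; group
        _ = _ := by rw [k2]; group
    have k7 := h.cent_elt (h'.WJ hw') (fun c => hn (mul_mem c hu.2)) hw (by
      rw [eq_inv_of_mul_eq_one_left k6]
      exact inv_mem (h.qq.2 _ k0))
    rw [e]
    exact mul_mem (h'.WQ hw').2 (mul_mem (centralizer_anti h'.WJ k7) hu'.2)
  obtain ⟨y, hy, hy'⟩ := SetLike.not_le_iff_exists.1 h2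
  intro x hx
  by_cases c : x ∈ 𝐂[W]
  · exact (mul_mem_cancel_right (key y hy hy')).1
      (key _ (mul_mem hx hy) fun k => hy' ((mul_mem_cancel_left c).1 k))
  · exact key x hx c

/-- For `x ∈ X`, `cj(x, W)` has the same `Z`.  If `x, y ∉ 𝐍[Q₀]` then `cj(x, W), cj(y, W) ≰ 𝐂[W]`
(`same`), so they commute (`uniq`) and `cj(x, Q₀) = cj(y, Q₀)` (`same`): at most two cosets. -/
theorem Rk.two_types (h : Rk J W L q) (h1 : X ≤ 𝐍[J]) (h2 : X ≤ 𝐍[⁅W, J⁆]) :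
    (𝐍[J ⊓ 𝐂[W]]).relIndex X ≤ 2 ∧ 𝐎[2, X] ≤ 𝐍[J ⊓ 𝐂[W]] := by
  have e1 : ∀ x ∈ X, ⁅cj(x, W), J⁆ = ⁅W, J⁆ := fun x hx => by
    rw [← cj_of_mem_normalizer (h2 hx), ← commutator_cj, cj_of_mem_normalizer (h1 hx)]
  have e2 : ∀ x ∈ X, J ⊓ 𝐂[cj(x, W)] = cj(x, J ⊓ 𝐂[W]) := fun x hx => by
    rw [cj_inf, centralizer_cj, cj_of_mem_normalizer (h1 hx)]
  have e3 : ∀ x ∈ X, x ∉ 𝐍[J ⊓ 𝐂[W]] → ¬ cj(x, W) ≤ 𝐂[W] := fun x hx hn c =>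
    hn (cj_eq_iff.1 ((e2 x hx).symm.trans (h.same (h.cj (h1 hx)) c (e1 x hx))))
  have key : ∀ x ∈ X, ∀ y ∈ X, x ∉ 𝐍[J ⊓ 𝐂[W]] → y ∉ 𝐍[J ⊓ 𝐂[W]] → x⁻¹ * y ∈ 𝐍[J ⊓ 𝐂[W]] := by
    intro x hx y hy nx ny
    have := (h.cj (h1 hx)).same (h.cj (h1 hy))
      (h.uniq (h.cj (h1 hx)) (h.cj (h1 hy)) (e3 x hx nx) (e3 y hy ny))
      ((e1 y hy).trans (e1 x hx).symm)
    rw [e2 x hx, e2 y hy] at this
    rw [← cj_eq_iff, cj_mul, this, cj_inv_cj]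
  refine ⟨Nat.le_of_dvd two_pos (relIindex_dvd_two_iff'.2 ?_), pRes_le_iff.2 fun g hg ho => ?_⟩
  · by_cases c : X ≤ 𝐍[J ⊓ 𝐂[W]]
    · exact ⟨1, one_mem _, fun b hb => .inr (c hb)⟩
    · obtain ⟨x, hx, nx⟩ := SetLike.not_le_iff_exists.1 c
      exact ⟨x⁻¹, inv_mem hx, fun b hb => (em _).symm.imp_left (key x hx b hb nx)⟩
  · by_contra c
    have := key _ (inv_mem hg) g hg (mt inv_mem_iff.1 c) c
    rw [inv_inv, ← pow_two] at this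
    exact c (zpowers_le.2 this (mem_zpowers_pow_iff.2 ho.symm))

end Cfsg.Agent.NFS
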