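import Cfsg.Agent.NFS.Defs

/-!
# General API: `mx`, `nu`, product lemmas, orbit counting
-/

set_option autoImplicit false
set_option linter.unusedSectionVars false

namespace Cfsg.Agent.NFS

open Cfsg.Agent.PLocal hiding centralizer_anti
open Subgroup Cfsg Cfsg.Agent.PLocal.Amb Cfsg.Agent.PLocal.TV
open Cfsg.Agent.PLocal.SL2Nat Cfsg.Agent.PLocal.Bk
open Cfsg.Agent.PLocal.CP (IsCharP MinOver ncl secCent)
open Cfsg.Agent.Solv.Ext (Inv)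
open Cfsg.Agent.QT.Qrc (P2)
open scoped commutatorElement MatrixGroups Cfsg.Agent.PLocal.CP

variable {G : Type*} [Group G] [Finite G]

/-- `mx` is attained exactly by the members of `maxEA` (the set is finite and contains `⊥`;
`Nat.sSup_mem`, `le_csSup`). -/
theorem mx_eq {X A : Subgroup G} (hA : A ∈ maxEA 2 X) : Nat.card A = mx X := by
  symm
  refine IsGreatest.csSup_eq ⟨⟨A, ⟨hA.1, hA.2.1⟩, rfl⟩, ?_⟩
  rintro _ ⟨B, hB, rfl⟩
  exact hA.2.2 B hB.1 hB.2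

theorem card_le_mx {X A : Subgroup G} (h : A ≤ X) (hA : IsElementaryAbelian 2 A) :
    Nat.card A ≤ mx X := by
  obtain ⟨B, hB⟩ := maxEA_nonempty 2 X
  rw [← mx_eq hB]
  exact hB.2.2 A h hA

theorem mem_maxEA_of_mx {X A : Subgroup G} (h : A ≤ X) (hA : IsElementaryAbelian 2 A)
    (hc : mx X ≤ Nat.card A) : A ∈ maxEA 2 X := by
  exact ⟨h, hA, fun B h1 h2 => (card_le_mx h1 h2).trans hc⟩

theorem mx_mono {X Y : Subgroup G} (h : X ≤ Y) : mx X ≤ mx Y := by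
  obtain ⟨B, hB⟩ := maxEA_nonempty 2 X
  rw [← mx_eq hB]
  exact card_le_mx (hB.1.trans h) hB.2.1

theorem mx_map {G' : Type*} [Group G'] [Finite G'] {f : G →* G'} (hf : Function.Injective f)
    (X : Subgroup G) : mx (X.map f) = mx X := by
  obtain ⟨B, hB⟩ := maxEA_nonempty 2 X
  rw [← mx_eq hB, ← mx_eq (map_mem_maxEA hf hB), PLocal.card_map_of_injective _ hf]

theorem mx_cj (g : G) (X : Subgroup G) : mx cj(g, X) = mx X := by
  exact mx_map (MulAut.conj g).injective X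

theorem mx_J (X : Subgroup G) : mx 𝐉[2, X] = mx X := by
  obtain ⟨B, hB⟩ := maxEA_nonempty 2 X
  rw [← mx_eq hB]
  exact (mx_eq (mem_maxEA_of_le hB (le_thompsonSubgroupOf hB) (thompsonSubgroupOf_le X))).symm

/-- members of `maxEA X` are members of `maxEA Y` -/
theorem J_le_of_mx {X Y : Subgroup G} (h : X ≤ Y) (hm : mx Y ≤ mx X) : 𝐉[2, X] ≤ 𝐉[2, Y] := by
  refine thompsonSubgroupOf_le_iff.2 fun A hA => le_thompsonSubgroupOf ?_
  exact mem_maxEA_of_mx (hA.1.trans h) hA.2.1 (hm.trans (mx_eq hA).ge)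

theorem nu_lt_of_mx {X Y : Subgroup G} (h : mx X < mx Y) : nu X < nu Y := by
  have h1 : Nat.card 𝐉[2, X] ≤ Nat.card G := Subgroup.card_le_card_group _
  have h2 : 0 < Nat.card 𝐉[2, Y] := Nat.card_pos
  have h3 : Nat.card G * (mx X + 1) ≤ Nat.card G * mx Y := Nat.mul_le_mul_left _ h
  rw [mul_add, mul_one] at h3
  unfold nu
  omega

/-- `1 ≤ |J| ≤ |G|`, so `nu` is lexicographic -/
theorem nu_mono {X Y : Subgroup G} (h : X ≤ Y) : nu X ≤ nu Y := by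
  rcases lt_or_ge (mx X) (mx Y) with c | c
  · exact (nu_lt_of_mx c).le
  · exact Nat.add_le_add (Nat.mul_le_mul_left _ (mx_mono h))
      (PLocal.card_le_card_of_le (J_le_of_mx h c))

theorem nu_cj (g : G) (X : Subgroup G) : nu cj(g, X) = nu X := by
  unfold nu
  rw [mx_cj, ← map_thompsonSubgroupOf X (MulAut.conj g).injective, card_cj]

theorem nu_J (X : Subgroup G) : nu 𝐉[2, X] = nu X := by
  unfold nu
  rw [mx_J, thompsonSubgroupOf_eq_of_le le_rfl (thompsonSubgroupOf_le X)]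

theorem J_eq_of_nu {X Y : Subgroup G} (h : X ≤ Y) (hn : nu Y ≤ nu X) : 𝐉[2, Y] = 𝐉[2, X] := by
  have c : mx Y ≤ mx X := not_lt.1 fun c => (nu_lt_of_mx c).not_ge hn
  refine (PLocal.eq_of_le_of_card_le (J_le_of_mx h c) ?_).symm
  unfold nu at hn
  rw [le_antisymm c (mx_mono h)] at hn
  omega

/-- If `J(N_S(Y)) = Y` then `N_S(N_S(Y))` normalises `Y`, so `N_S(Y) = S` (normaliser condition in the
2-group `S`) and `Y = J(S)`. -/
theorem eq_J_of_J_norm {S Y : Subgroup G} (hS : IsPGroup 2 S) (h : 𝐉[2, S ⊓ 𝐍[Y]] = Y) :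
    𝐉[2, S] = Y := by
  have : S ⊓ 𝐍[Y] = S := eq_of_inf_normalizer_le hS inf_le_left (le_inf inf_le_left (by
    have := normalizer_le_normalizer_thompsonSubgroupOf (p := 2) (S ⊓ 𝐍[Y])
    rw [h] at this
    exact inf_le_right.trans this))
  rw [← h, this]

/-- PROD.  `π = ` the product of all members of `𝒱` (`Finset.noncommProd` over `𝒱.toFinset`).
An automorphism mapping `𝒱` into (hence onto) itself permutes the factors; `π = v₀ * (rest)` with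
`rest ∈ K`, so `π ∉ K`. -/
theorem prod_fix {𝒱 : Set G} (hc : ∀ v ∈ 𝒱, ∀ w ∈ 𝒱, v * w = w * v) {v₀ : G} (h0 : v₀ ∈ 𝒱)
    {K : Subgroup G} (hK : v₀ ∉ K) (hK' : ∀ v ∈ 𝒱, v ≠ v₀ → v ∈ K) :
    ∃ π ∈ closure 𝒱, π ≠ 1 ∧ ((∀ v ∈ 𝒱, v * v = 1) → π * π = 1) ∧
      ∀ φ : G ≃* G, (∀ v ∈ 𝒱, φ v ∈ 𝒱) → φ π = π := by
  classical
  have hA : IsMulCommutative (closure 𝒱) := isMulCommutative_closure hc
  let _ : CommGroup (closure 𝒱) := { (inferInstance : Group (closure 𝒱)) with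
    mul_comm := hA.is_comm.comm }
  have := Fintype.ofFinite 𝒱
  let f : 𝒱 → closure 𝒱 := fun v => ⟨v, subset_closure v.2⟩
  refine ⟨(∏ v, f v : closure 𝒱), SetLike.coe_mem _, fun e => hK ?_, fun h2 => ?_, fun φ hφ => ?_⟩
  · rw [← Finset.mul_prod_erase _ _ (Finset.mem_univ (⟨v₀, h0⟩ : 𝒱)), coe_mul] at e
    have : ∏ v ∈ Finset.univ.erase (⟨v₀, h0⟩ : 𝒱), f v ∈ K.subgroupOf (closure 𝒱) :=
      Subgroup.prod_mem _ fun v hv => hK' v v.2 fun c => Finset.ne_of_mem_erase hv (Subtype.ext c)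
    rw [show v₀ = _ from eq_inv_of_mul_eq_one_left e]
    exact inv_mem this
  · rw [← coe_mul, ← Finset.prod_mul_distrib, Finset.prod_eq_one, coe_one]
    exact fun v _ => Subtype.ext (h2 v v.2)
  · have hle : closure 𝒱 ≤ (closure 𝒱).comap φ.toMonoidHom :=
      (closure_le _).2 fun v hv => subset_closure (hφ v hv)
    let ψ : closure 𝒱 →* closure 𝒱 :=
      (φ.toMonoidHom.comp (closure 𝒱).subtype).codRestrict _ fun x => hle x.2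
    let σ : 𝒱 → 𝒱 := fun v => ⟨φ v, hφ v v.2⟩
    have hσ : Function.Bijective σ := Finite.injective_iff_bijective.1 fun a b e =>
      Subtype.ext (φ.injective (congrArg Subtype.val e))
    change ((ψ (∏ v, f v) : closure 𝒱) : G) = _
    rw [map_prod]
    exact congrArg _ (hσ.prod_comp f)

/-- PROD2.  Let `Θ` be the set of products `∏_{Y ∈ 𝒴} y Y` with `1 ≠ y Y ∈ Y` (commuting factors, all
in `Z₀`).  `1 ∉ Θ`: modulo `𝐂[H_Y]` the product is `y Y ∉ 𝐂[H_Y]`.  Any two members of `Θ` are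
conjugate under `N` (change one coordinate at a time: induction on the finset of coordinates where
the two choices differ; `h ∈ H_Y` fixes the other coordinates).  `φ` permutes the finite set `𝒴`
(`Y ↦ Y.map φ` is injective), so `φ Θ ⊆ Θ`. -/
theorem prod_class {𝒴 : Set (Subgroup G)} {Z₀ N : Subgroup G} (hZ : IsElementaryAbelian 2 Z₀)
    (hne : 𝒴.Nonempty) (hle : ∀ Y ∈ 𝒴, Y ≤ Z₀) (h1 : ∀ Y ∈ 𝒴, Y ≠ ⊥)
    (hH : ∀ Y ∈ 𝒴, ∃ H ≤ N, Y ⊓ 𝐂[H] = ⊥ ∧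
      (∀ y ∈ Y, y ≠ 1 → ∀ y' ∈ Y, y' ≠ 1 → ∃ h ∈ H, h * y * h⁻¹ = y') ∧
      ∀ Y' ∈ 𝒴, Y' ≠ Y → Y' ≤ 𝐂[H]) :
    ∃ x : G, x ≠ 1 ∧ x * x = 1 ∧ ∀ φ : G ≃* G, (∀ Y ∈ 𝒴, Y.map φ.toMonoidHom ∈ 𝒴) →
      ∃ n ∈ N, φ x = n * x * n⁻¹ := by
  classical
  have hAZ : sSup 𝒴 ≤ Z₀ := sSup_le hle
  let _ : CommGroup ↥(sSup 𝒴) := { (inferInstance : Group ↥(sSup 𝒴)) with
    mul_comm := fun a b => Subtype.ext (isEA_comm hZ (hAZ a.2) (hAZ b.2)) }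
  have := Fintype.ofFinite 𝒴
  have key : ∀ y y' : 𝒴 → ↥(sSup 𝒴), (∀ Y, (y Y : G) ∈ Y.1 ∧ (y Y : G) ≠ 1) →
      (∀ Y, (y' Y : G) ∈ Y.1 ∧ (y' Y : G) ≠ 1) → ∀ s : Finset 𝒴, ∃ n ∈ N,
        ((∏ Y ∈ s, y' Y : ↥(sSup 𝒴)) : G) = n * (∏ Y ∈ s, y Y : ↥(sSup 𝒴)) * n⁻¹ ∧
          ∀ Y : 𝒴, Y ∉ s → n ∈ 𝐂[Y.1] := by
    intro y y' hy hy' s
    induction s using Finset.induction_on with
    | empty => exact ⟨1, one_mem _, by simp, fun _ _ => one_mem _⟩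
    | insert Y₀ s hs ih =>
      obtain ⟨n, hn, e, hc⟩ := ih
      obtain ⟨H, hHN, -, htr, hcen⟩ := hH Y₀.1 Y₀.2
      obtain ⟨h, hh, e'⟩ := htr _ (hy Y₀).1 (hy Y₀).2 _ (hy' Y₀).1 (hy' Y₀).2
      have h2 : ∏ Y ∈ s, y' Y ∈ (𝐂[H]).subgroupOf (sSup 𝒴) := Subgroup.prod_mem _ fun Y hY =>
        hcen Y.1 Y.2 (fun c => hs (by rwa [← show Y = Y₀ from Subtype.ext c])) (hy' Y).1
      have h3 := mem_centralizer_iff.1 (mem_subgroupOf.1 h2) h hh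
      have h4 := mem_centralizer_iff.1 (hc Y₀ hs) _ (hy Y₀).1
      refine ⟨h * n, mul_mem (hHN hh) hn, ?_, fun Y hY => mul_mem ?_
        (hc Y fun c => hY (Finset.mem_insert_of_mem c))⟩
      · rw [Finset.prod_insert hs, Finset.prod_insert hs, coe_mul, coe_mul, ← e']
        calc _ = h * (y Y₀ : G) * (h⁻¹ * (h * (∏ Y ∈ s, y' Y : ↥(sSup 𝒴)))) * h⁻¹ := by
              rw [h3]; group
          _ = h * ((y Y₀ : G) * n) * (∏ Y ∈ s, y Y : ↥(sSup 𝒴)) * n⁻¹ * h⁻¹ := by rw [e]; group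
          _ = _ := by rw [h4]; group
      · exact le_centralizer_iff.1 (hcen Y.1 Y.2 fun c =>
          hY (by rw [show Y = Y₀ from Subtype.ext c]; exact Finset.mem_insert_self _ _)) hh
  have hex : ∀ Y : 𝒴, ∃ y : ↥(sSup 𝒴), (y : G) ∈ Y.1 ∧ (y : G) ≠ 1 := fun Y => by
    obtain ⟨⟨y, hy⟩, h⟩ := ne_bot_iff_exists_ne_one.1 (h1 Y.1 Y.2)
    exact ⟨⟨y, le_sSup Y.2 hy⟩, hy, fun c => h (Subtype.ext c)⟩
  choose y hy using hex
  refine ⟨(∏ Y, y Y : ↥(sSup 𝒴)), fun e => ?_, ?_, fun φ hφ => ?_⟩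
  · obtain ⟨Y₀, h0⟩ := hne
    obtain ⟨H, -, hb, -, hcen⟩ := hH Y₀ h0
    rw [← Finset.mul_prod_erase _ _ (Finset.mem_univ (⟨Y₀, h0⟩ : 𝒴)), coe_mul] at e
    have h2 : ∏ Y ∈ Finset.univ.erase (⟨Y₀, h0⟩ : 𝒴), y Y ∈ (𝐂[H]).subgroupOf (sSup 𝒴) :=
      Subgroup.prod_mem _ fun Y hY =>
        hcen Y.1 Y.2 (fun c => Finset.ne_of_mem_erase hY (Subtype.ext c)) (hy Y).1
    refine (hy ⟨Y₀, h0⟩).2 (mem_bot.1 (hb.le ⟨(hy ⟨Y₀, h0⟩).1, ?_⟩))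
    rw [eq_inv_of_mul_eq_one_left e]
    exact (𝐂[H]).inv_mem h2
  · rw [← pow_two]
    exact (isEA_iff.1 hZ).2 _ (hAZ (SetLike.coe_mem _))
  · have hle' : sSup 𝒴 ≤ (sSup 𝒴).comap φ.toMonoidHom :=
      sSup_le fun Y hY => map_le_iff_le_comap.1 (le_sSup (hφ Y hY))
    let ψ : ↥(sSup 𝒴) →* ↥(sSup 𝒴) :=
      (φ.toMonoidHom.comp (sSup 𝒴).subtype).codRestrict _ fun x => hle' x.2
    let σ : 𝒴 → 𝒴 := fun Y => ⟨Y.1.map φ.toMonoidHom, hφ Y.1 Y.2⟩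
    have hσ : Function.Bijective σ := Finite.injective_iff_bijective.1 fun a b e =>
      Subtype.ext (map_injective (f := φ.toMonoidHom) φ.injective (congrArg Subtype.val e))
    let τ := Equiv.ofBijective σ hσ
    obtain ⟨n, hn, e, -⟩ := key y (fun Y => ψ (y (τ.symm Y))) hy (fun Y => by
      obtain ⟨Y, rfl⟩ := τ.surjective Y
      rw [τ.symm_apply_apply]
      exact ⟨mem_map_of_mem φ.toMonoidHom (hy Y).1,
        fun c => (hy Y).2 (φ.map_eq_one_iff.1 c)⟩) Finset.univ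
    refine ⟨n, hn, Eq.trans ?_ e⟩
    change ((ψ (∏ Y, y Y) : ↥(sSup 𝒴)) : G) = _
    rw [map_prod]
    exact congrArg _ (τ.symm.prod_comp fun Y => ψ (y Y)).symm

/-- Layer one.  Fix `z ∈ Z \ K`.  Map the coset `x (A ∩ N(Z))` to the coset (mod `C = 𝐂[A]`) of
`x z x⁻¹` if `x ∉ N(Z)`, and of `1` otherwise (choose representatives; `Qrc.relIndex_le_of_map` or
`Nat.card_le_card_of_injective`).  Injective: an element `c ∈ C ∩ K` lies in every `cj(x, K)`,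
`x ∈ A`; and `cj(y, Z) ≤ cj(x, K)` whenever `x⁻¹ y ∉ N(Z)`.  If `c = (x z x⁻¹)⁻¹ (y z y⁻¹) ∈ C` with
`x, y, x⁻¹ y ∉ N(Z)` then `c ∈ K`, so `c ∈ cj(x, K)`, so `x z x⁻¹ ∈ cj(x, K)`, `z ∈ K`, absurd;
similarly if `x z x⁻¹ ∈ C`. -/
theorem lay1 {A Z K : Subgroup G} (h : ∀ x ∈ A, cj(x, Z) = Z ∨ cj(x, Z) ≤ K) (hK : ¬ Z ≤ K) :
    (𝐍[Z]).relIndex A ≤ (𝐂[A]).relIndex (ncl Z A) := by
  classical
  obtain ⟨z, hz, hzK⟩ := SetLike.not_le_iff_exists.1 hK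
  have h' : ∀ x ∈ A, x ∉ 𝐍[Z] → x * z * x⁻¹ ∈ K := fun x hx hn =>
    (h x hx).resolve_left (fun c => hn (cj_eq_iff.1 c)) (conj_mem_cj x hz)
  have h2 : ∀ x ∈ A, x ∉ 𝐍[Z] → x * z * x⁻¹ ∉ 𝐂[A] := fun x hx hn c => hzK (by
    have e := mem_centralizer_iff.1 c x hx
    have : z = x * z * x⁻¹ := mul_left_cancel (a := x) (by rw [e]; group)
    rw [this]
    exact h' x hx hn)
  refine QT.Qrc.relIndex_le_of_map (fun x => if x ∈ 𝐍[Z] then 1 else x * z * x⁻¹)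
    (fun x hx => ?_) fun a ha b hb c => ?_
  · split_ifs
    exacts [one_mem _, CP.cj_le_ncl Z hx (conj_mem_cj x hz)]
  · by_cases c1 : a ∈ 𝐍[Z] <;> by_cases c2 : b ∈ 𝐍[Z]
    · exact mul_mem (inv_mem c1) c2
    · rw [if_pos c1, if_neg c2, inv_one, one_mul] at c
      exact absurd c (h2 b hb c2)
    · rw [if_neg c1, if_pos c2, mul_one, inv_mem_iff] at c
      exact absurd c (h2 a ha c1)
    · rw [if_neg c1, if_neg c2] at c
      by_contra c3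
      have k1 := mul_mem (inv_mem (h' a ha c1)) (h' b hb c2)
      have k2 := h' _ (mul_mem (inv_mem ha) hb) c3
      have e := mem_centralizer_iff.1 c a ha
      have : z = (a⁻¹ * b * z * (a⁻¹ * b)⁻¹) * ((a * z * a⁻¹)⁻¹ * (b * z * b⁻¹))⁻¹ := by
        rw [eq_mul_inv_iff_mul_eq]
        refine mul_left_cancel (a := a * z⁻¹) ?_
        rw [mul_assoc, inv_mul_cancel_left, e]
        group
      exact hzK (by rw [this]; exact mul_mem k2 (inv_mem k1))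

/-- Two layers: `|Y : C_Y| = |Y : Y' C_Y| · |Y' : C_{Y'}|` for abelian `Y`, and `lay1`. -/
theorem lay2 {A Z K Y Y' : Subgroup G} (h : ∀ x ∈ A, cj(x, Z) = Z ∨ cj(x, Z) ≤ K) (hK : ¬ Z ≤ K)
    (hY : Y ≤ 𝐂[Y]) (h1 : ncl Z A ≤ Y') (h2 : Y' ≤ Y) :
    (𝐍[Z]).relIndex A * (Y' ⊔ (Y ⊓ 𝐂[A])).relIndex Y ≤ (𝐂[A]).relIndex Y := by
  have _ := hY
  have e := relIndex_mul_relIndex (Y ⊓ 𝐂[A]) (Y' ⊔ (Y ⊓ 𝐂[A])) Y le_sup_right
    (sup_le h2 inf_le_left)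
  rw [inf_comm Y, inf_relIndex_right, inf_comm _ Y] at e
  rw [← e]
  refine Nat.mul_le_mul_right _ ((lay1 h hK).trans ?_)
  exact QT.Qrc.relIndex_le_of_map id (fun x hx => mem_sup_left (h1 hx)) fun a _ b _ c => c.2

/-- `x ↦ (e ↦ ⁅x, e⁆)` is a homomorphism into an elementary abelian group:
`⁅x y, e⁆ = x ⁅y, e⁆ x⁻¹ ⁅x, e⁆ = ⁅y, e⁆ ⁅x, e⁆` as `x` centralises `W`. -/
theorem sq_comm_cent {Q W E : Subgroup G} (hW : IsElementaryAbelian 2 W) (hQ : Q ≤ 𝐂[W])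
    (h : ⁅Q, E⁆ ≤ W) : ⁅Q, Q⁆ ≤ 𝐂[E] ∧ ∀ x ∈ Q, x * x ∈ 𝐂[E] := by
  have hc : ∀ x ∈ Q, ∀ e ∈ E, x * e * x⁻¹ * e⁻¹ ∈ W := fun x hx e he =>
    h (commutator_mem_commutator hx he)
  have key : ∀ x ∈ Q, ∀ y ∈ Q, ∀ e ∈ E,
      y * x * e * (y * x)⁻¹ = (x * e * x⁻¹ * e⁻¹) * (y * e * y⁻¹ * e⁻¹) * e := fun x hx y hy e he => by
    have := mem_centralizer_iff.1 (hQ hy) _ (hc x hx e he)
    calc _ = y * (x * e * x⁻¹ * e⁻¹) * e * y⁻¹ := by group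
      _ = _ := by rw [← this]; group
  refine ⟨commutator_le.2 fun a ha b hb => mem_centralizer_iff.2 fun e he => ?_,
    fun x hx => mem_centralizer_iff.2 fun e he => ?_⟩
  · have k1 := key _ (inv_mem hb) _ (inv_mem ha) e he
    have k2 := key _ (inv_mem ha) _ (inv_mem hb) e he
    rw [isEA_comm hW (hc _ (inv_mem ha) e he) (hc _ (inv_mem hb) e he), ← k1] at k2
    rw [commutatorElement_def]
    calc _ = a * b * (b⁻¹ * a⁻¹ * e * (b⁻¹ * a⁻¹)⁻¹) * a⁻¹ * b⁻¹ := by group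
      _ = _ := by rw [k2]; group
  · have k := key x hx x hx e he
    rw [← pow_two (x * e * x⁻¹ * e⁻¹), (isEA_iff.1 hW).2 _ (hc x hx e he), one_mul] at k
    exact (mul_inv_eq_iff_eq_mul.1 k).symm

end Cfsg.Agent.NFS
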