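import Cfsg.Agent.NFS.S1a
import Cfsg.Agent.PLocal.PSolvHall

/-!
# `V` is normal
-/

set_option autoImplicit false
set_option linter.unusedSectionVars false

namespace Cfsg.Agent.NFS

open Cfsg.Agent.PLocal hiding centralizer_anti
open Subgroup Cfsg Cfsg.Agent.PLocal.Amb Cfsg.Agent.PLocal.TV
open Cfsg.Agent.PLocal.SL2Nat Cfsg.Agent.PLocal.Bk
open Cfsg.Agent.PLocal.CP (IsCharP MinOver ncl secCent)
open Cfsg.Agent.Solv.Ext (Inv)
open Cfsg.Agent.QT.Qrc (P2)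
open scoped commutatorElement MatrixGroups Cfsg.Agent.PLocal.CP

variable {G : Type*} [Group G] [Finite G]

/-- a 2-subgroup of `K = O²(K)` lies in `K'` -/
theorem le_commutator_pRes {R L : Subgroup G} (hR : IsPGroup 2 R) (h : R ≤ 𝐎[2, L]) :
    R ≤ ⁅𝐎[2, L], 𝐎[2, L]⁆ := by
  set K := 𝐎[2, L] with hK
  set m := ordCompl[2] (Nat.card G) with hm
  have hm2 : m.Coprime 2 := (Nat.coprime_ordCompl Nat.prime_two Nat.card_pos.ne').symm
  let φ : K →* Abelianization K := (powMonoidHom m).comp Abelianization.of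
  have h1 : K ≤ φ.ker.map K.subtype := by
    refine pRes_le_iff.2 fun g hg hc => ⟨⟨g, mem_pRes hg hc⟩, ?_, rfl⟩
    have : g ^ m = 1 := orderOf_dvd_iff_pow_eq_one.1
      (Nat.dvd_ordCompl_of_dvd_not_dvd (orderOf_dvd_natCard g)
        ((Nat.Prime.coprime_iff_not_dvd Nat.prime_two).1 hc.symm))
    change (Abelianization.of (⟨g, mem_pRes hg hc⟩ : K)) ^ m = 1
    rw [← map_pow, show (⟨g, mem_pRes hg hc⟩ : K) ^ m = 1 from Subtype.ext this, map_one]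
  intro x hx
  obtain ⟨y, hy, rfl⟩ := h1 (h hx)
  have h2 : y ^ m ∈ commutator K := by
    rw [← Abelianization.ker_of, MonoidHom.mem_ker, map_pow]; exact hy
  have h3 : (y : G) ^ m ∈ ⁅K, K⁆ := by
    rw [← map_subtype_commutator]; exact ⟨_, h2, rfl⟩
  refine mem_of_pow_mem_of_coprime h3 ?_
  obtain ⟨k, hk⟩ := hR ⟨_, hx⟩
  have : orderOf (y : G) ∣ 2 ^ k := orderOf_dvd_of_pow_eq_one (congrArg Subtype.val hk)
  exact (hm2.symm.pow_left k).coprime_dvd_left this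

theorem exists_minOver {P M H : Subgroup G} (hP : IsSyl 2 P H) (hN : 𝐍[P] ≤ M) (hH : ¬ H ≤ M) :
    ∃ H₀, H₀ ≤ H ∧ IsSyl 2 P H₀ ∧ MinOver P (M ⊓ H₀) H₀ := by
  have : Fact (Nat.Prime 2) := ⟨Nat.prime_two⟩
  obtain ⟨K, ⟨h1, h2, h3⟩, hmin⟩ := (wellFounded_lt (α := Subgroup G)).has_min
    {K | P ≤ K ∧ K ≤ H ∧ ¬ K ≤ M} ⟨H, hP.le, le_rfl, hH⟩
  refine ⟨K, h2, hP.mono h1 h2, CP.minOver_of_isSyl (hP.mono h1 h2) (fun e => h3 (e.trans hN))
    (le_inf (le_normalizer.trans hN) h1) (inf_lt_right.2 h3) fun X k1 k2 => le_inf ?_ k2.le⟩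
  by_contra k
  exact hmin X ⟨k1, k2.le.trans h2, k⟩ k2

/-- Solvable minimal overgroups.  `Q = O₂(L)`, `D ≥ Q` with `D / Q = O_{2'}(L / Q)`.  Let `K ⊴ L` be
the preimage of `O₂(L / D)`, `T₁ = T ⊓ K` (Sylow in `K`, `K = D T₁`).  If `T D < L` then `D ≤ M`;
Frattini `L = K N_L(T₁) = D N_L(T₁)`, `T ≤ N_L(T₁)`, so `N_L(T₁) = L`, `T₁ ≤ Q`, `K = D`; so
`O₂(L / D) = 1 = O_{2'}(L / D)`-argument: `L / D` solvable with `O₂ = 1`; a minimal normal subgroup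
of `L / D` would be an odd `p`-group, contradicting the choice of `D`; so `L = D`, `T D = L`. -/
theorem minOver_odd {T M L : Subgroup G} (hs : Group.IsSolvable L) (hT : IsSyl 2 T L)
    (h : MinOver T M L) : ∃ D : Subgroup G, pCoreOf 2 L ≤ D ∧ D ≤ L ∧ L ≤ 𝐍[D] ∧
      IsSyl 2 (pCoreOf 2 L) D ∧ T ⊔ D = L := by
  have : Fact (Nat.Prime 2) := ⟨Nat.prime_two⟩
  set K := 𝐎[2, L] with hK
  have hKL : K ≤ L := pRes_le 2 L
  have nK : L ≤ 𝐍[K] := le_normalizer_pRes 2 L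
  have nK' : L ≤ 𝐍[⁅K, K⁆] := Solv.le_normalizer_commutator nK nK
  have hK'K : ⁅K, K⁆ ≤ K := WC.commutator_le_left_of le_normalizer
  have h1 : T ⊓ K ≤ pCoreOf 2 L := by
    rcases h.pRes_le_or hT.pgrp (hK'K.trans hKL) nK' with c | c
    · by_cases c0 : K = ⊥
      · rw [c0, inf_bot_eq]; exact bot_le
      · have := Grp.isSolvable_of_le hKL
        exact absurd c (Grp.commutator_lt_of_isSolvable c0).not_ge
    · have e : T ⊓ K = T ⊓ ⁅K, K⁆ := le_antisymm (le_inf inf_le_left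
        (le_commutator_pRes (hT.pgrp.to_le inf_le_left) inf_le_right)) (inf_le_inf_left _ hK'K)
      rw [e]
      exact le_pCoreOf (hT.pgrp.to_le inf_le_left) (inf_le_left.trans hT.le)
        (h.le_normalizer_inf_syl hT le_rfl c nK')
  have hO := hT.pCoreOf_le
  have nD : L ≤ 𝐍[pCoreOf 2 L ⊔ K] := le_normalizer_sup (le_normalizer_pCoreOf 2 L) nK
  have hD : pCoreOf 2 L ⊔ K ≤ L := sup_le (pCoreOf_le 2 L) hKL
  refine ⟨pCoreOf 2 L ⊔ K, le_sup_left, hD, nD, ?_, le_antisymm (sup_le hT.le hD) ?_⟩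
  · have h2 := hT.inf_of_le hD nD
    rwa [inf_comm, sup_inf_of_le_normalizer hO ((pCoreOf_le 2 L).trans nK), inf_comm,
      sup_eq_left.2 h1] at h2
  · exact hT.pRes_sup.ge.trans (sup_le (le_sup_right.trans le_sup_right) le_sup_left)

/-- Let `M = 𝐍[V] ≠ ⊤`, `J = 𝐉[2, T]`, `V ≤ O₂(G)` by `s1a`.  Take `L₀` minimal with `T ≤ L₀ ≰ M`:
`MinOver T (M ⊓ L₀) L₀` (`ncl T L₀ = L₀` by Frattini and `𝐍[T] ≤ 𝐍[J] ≤ M`; see `Baum.exists_min`).
`Q = O₂(L₀) ≥ O₂(G) ≥ V`, `𝐂[Q] ≤ 𝐂[O₂(G)] ≤ Q`.  `D` from `minOver_odd`; `D ≰ M`.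
`T₀ = J ⊔ Q` is Sylow in `L₁ = D ⊔ J` (order count: `D / Q` odd), `𝐉[2, T₀] = J`.  Take `L ≤ L₁` minimal
with `T₀ ≤ L ≰ M`: `MinOver T₀ (M ⊓ L) L` (again `𝐍[T₀] ≤ 𝐍[J] ≤ M`).  `Q ≤ O₂(L)`; `J ≰ O₂(L)` (else
`J = J(O₂(L)) ⊴ L`); `L = O²(L) T₀`.  `QT.Qrc.core` (with `S := J`, `P2.mono`) gives
`L ⊓ 𝐂[𝐙[T₀]] ≤ M`.  But `K = 𝐎[2, L₀]` centralises `U = 𝐙[Q] ≥ 𝐙[T₀]`: `K ≤ D` acts on `U` through
the odd group `D / Q`, so `[U, K] ⊓ 𝐂[K] = ⊥` (coprime action; e.g. write `D = Q X` with `X` of odd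
order by Schur-Zassenhaus and use `[U, D] = [U, X]`), while `[U, K] ≠ ⊥` is `T`-invariant and would
contain an involution of `Z(T)`, which lies in `𝐙[T] ≤ Z(G)`.  So `O²(L) ≤ K` and `T₀` centralise
`𝐙[T₀]`, `L ≤ M`, absurd. -/
theorem s1b {T V : Subgroup G} (hs : Group.IsSolvable G) (hG : IsCharP 2 (⊤ : Subgroup G))
    (hT : IsSyl 2 T ⊤) (hV : IsElementaryAbelian 2 V) (h1 : V ≤ 𝐉[2, T]) (h2 : 𝐉[2, T] ≤ 𝐂[V])
    (h3 : 𝐍[𝐉[2, T]] ≤ 𝐍[V]) (hP : P2 V T) (h4 : P4 V T) (hZ : 𝐙[T] ≤ center G) :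
    (⊤ : Subgroup G) ≤ 𝐍[V] := by
  have : Fact (Nat.Prime 2) := ⟨Nat.prime_two⟩
  by_contra hM
  have hVO := s1a hs hG hT hV h1 h2 h3 h4
  have nT : 𝐍[T] ≤ 𝐍[V] := (normalizer_le_normalizer_thompsonSubgroupOf T).trans h3
  have hJT : 𝐉[2, T] ≤ T := thompsonSubgroupOf_le T
  obtain ⟨L₀, -, s0, m0⟩ := exists_minOver hT nT hM
  obtain ⟨D, d1, d2, d3, d4, d5⟩ := minOver_odd inferInstance s0 m0
  set Q := pCoreOf 2 L₀ with hQ
  have hQT : Q ≤ T := s0.pCoreOf_le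
  have nQ : L₀ ≤ 𝐍[Q] := le_normalizer_pCoreOf 2 L₀
  have hOQ : pCoreOf 2 (⊤ : Subgroup G) ≤ Q := pCoreOf_le_of_le le_top (hT.pCoreOf_le.trans s0.le)
  have hCQ : 𝐂[Q] ≤ Q :=
    ((centralizer_anti hOQ).trans ((le_inf le_top le_rfl).trans hG)).trans hOQ
  have hDM : ¬ D ≤ 𝐍[V] := fun k => m0.lt.not_ge
    (le_inf (d5.ge.trans (sup_le (le_normalizer.trans nT) k)) le_rfl)
  have hJD : 𝐉[2, T] ≤ 𝐍[D] := hJT.trans (s0.le.trans d3)
  have s1 : IsSyl 2 (𝐉[2, T] ⊔ Q) (𝐉[2, T] ⊔ D) := by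
    have n1 : T ≤ 𝐍[𝐉[2, T] ⊔ D] :=
      le_normalizer_sup (le_normalizer_thompsonSubgroupOf T) (s0.le.trans d3)
    have h5 := s0.inf_of_le (sup_le (hJT.trans s0.le) d2)
      (d5.ge.trans (sup_le n1 (le_sup_right.trans le_normalizer)))
    rwa [inf_comm, sup_inf_of_le_normalizer hJT hJD,
      d4.eq (hT.pgrp.to_le inf_le_right) (le_inf d1 hQT) inf_le_left] at h5
  set T₀ := 𝐉[2, T] ⊔ Q with hT₀
  have hT₀T : T₀ ≤ T := sup_le hJT hQT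
  have eJ : 𝐉[2, T₀] = 𝐉[2, T] := thompsonSubgroupOf_eq_of_le le_sup_left hT₀T
  have nT₀ : 𝐍[T₀] ≤ 𝐍[V] := (normalizer_le_normalizer_thompsonSubgroupOf T₀).trans (eJ ▸ h3)
  obtain ⟨L, l1, s2, m2⟩ := exists_minOver s1 nT₀ fun k => hDM (le_sup_right.trans k)
  have hLM : ¬ L ≤ 𝐍[V] := fun k => m2.lt.not_ge (le_inf k le_rfl)
  have hLL : L ≤ L₀ := l1.trans (sup_le (hJT.trans s0.le) d2)
  have hQL : Q ≤ pCoreOf 2 L :=
    le_pCoreOf (isPGroup_pCoreOf 2 L₀) (le_sup_right.trans s2.le) (hLL.trans nQ)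
  have hJ : ¬ 𝐉[2, T₀] ≤ pCoreOf 2 L := fun k => hLM (by
    have e := thompsonSubgroupOf_eq_of_le k s2.pCoreOf_le
    refine (le_normalizer_pCoreOf 2 L).trans
      ((normalizer_le_normalizer_thompsonSubgroupOf (p := 2) _).trans ?_)
    rw [e, eJ]; exact h3)
  have hc := QT.Qrc.core s2 m2 hV (le_normalizer.trans nT₀) (hVO.trans (hOQ.trans hQL)) hLM
    (hP.mono hT₀T) hJ h2 (le_antisymm
      (sup_le (sup_le (pRes_le 2 L) (le_sup_left.trans s2.le)) (pCoreOf_le 2 L))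
      (s2.pRes_sup.ge.trans (sup_le (le_sup_left.trans le_sup_left)
        (sup_le (le_sup_right.trans le_sup_left) (hQL.trans le_sup_right)))))
  set U := 𝐙[Q] with hU
  have hUe : IsElementaryAbelian 2 U := CP.omegaZ_isEA Q
  have nU : L₀ ≤ 𝐍[U] := nQ.trans (CP.normalizer_le_normalizer_omegaZ Q)
  have hcop : (Nat.card Q).Coprime (Q.relIndex D) :=
    by
      obtain ⟨n, hn⟩ := d4.pgrp.exists_card_eq
      rw [hn]
      exact Nat.Coprime.pow_left n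
        ((Nat.Prime.coprime_iff_not_dvd Nat.prime_two).2 d4.not_dvd_relIndex)
  obtain ⟨X, x1, x2, -, -, x3⟩ := exists_complement_of_le d1 (d2.trans nQ) hcop
  have hX : ¬ 2 ∣ Nat.card X := x3 ▸ d4.not_dvd_relIndex
  have hXU : X ≤ 𝐍[U] := x1.trans (d2.trans nU)
  have w1 : ⁅U, D⁆ ≤ U := WC.commutator_le_left_of (d2.trans nU)
  have w2 : ⁅U, D⁆ ≤ ⁅U, X⁆ := by
    rw [← x2]
    refine CommMod.commutator_sup_le' ?_ (Solv.le_normalizer_commutator_right U X) ?_ le_rfl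
    · exact ((CP.le_centralizer_omegaZ Q).trans (centralizer_anti
        (WC.commutator_le_left_of hXU))).trans (centralizer_le_normalizer' _)
    · rw [commutator_eq_bot_iff_le_centralizer.2 (CP.omegaZ_le_centralizer Q)]; exact bot_le
  have w3 : ⁅U, D⁆ = ⊥ := by
    by_contra k
    refine inf_centralizer_ne_bot hT.pgrp ((isEA_isPGroup hUe).to_le w1)
      (s0.le.trans (Solv.le_normalizer_commutator nU d3)) k ?_
    have := hUe.1
    rw [eq_bot_iff, ← Solv.coprime_centralizer_inf_commutator X U hXU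
      (Sig.ea_cop hUe hX).symm]
    refine le_inf (le_inf (inf_le_left.trans w1) ?_) (inf_le_left.trans w2)
    refine le_trans (CP.le_omegaZ (isEA_mono hUe (inf_le_left.trans w1))
      (inf_le_left.trans (w1.trans ((CP.omegaZ_le Q).trans hQT))) inf_le_right) (hZ.trans ?_)
    exact center_le_centralizer _
  have z1 : 𝐙[T₀] ≤ U := CP.omegaZ_le_omegaZ le_sup_right
    (((CP.omegaZ_le_centralizer T₀).trans (centralizer_anti le_sup_right)).trans hCQ)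
  refine m2.lt.not_ge (le_trans (le_inf le_rfl (l1.trans (sup_le ?_ ?_))) hc)
  · exact le_sup_left.trans (CP.le_centralizer_omegaZ T₀)
  · exact (WC.le_centralizer_comm.1 (commutator_eq_bot_iff_le_centralizer.1 w3)).trans
      (centralizer_anti z1)

end Cfsg.Agent.NFS
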