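import Cfsg.Agent.NFS.Defs
import Cfsg.Agent.S3360

/-!
# Abelian transitive subgroups of a solvable linear group commute
-/

set_option autoImplicit false
set_option linter.unusedSectionVars false

namespace Cfsg.Agent.NFS

open Cfsg.Agent.PLocal hiding centralizer_anti
open Subgroup Cfsg Cfsg.Agent.PLocal.Amb Cfsg.Agent.PLocal.TV
open Cfsg.Agent.PLocal.SL2Nat Cfsg.Agent.PLocal.Bk
open Cfsg.Agent.PLocal.CP (IsCharP MinOver ncl secCent)
open Cfsg.Agent.Solv.Ext (Inv)
open Cfsg.Agent.QT.Qrc (P2)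
open scoped commutatorElement MatrixGroups Cfsg.Agent.PLocal.CP

variable {G : Type*} [Group G] [Finite G]

/-- `act x + id` commutes with the transitive family, so it is `0` or a member of the family. -/
theorem scalar_aux {F : Type*} [Field F] {X : Type*} (a : X → F) (σ : X → F ≃+* F)
    (act : X → F → F) (h : ∀ x v, act x v = a x * σ x v)
    (hc : ∀ x y v, act x (act y v) = act y (act x v))
    (ht : ∀ v : F, v ≠ 0 → ∃ x, act x 1 = v) (x : X) (v : F) : act x v = a x * v := by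
  have one : ∀ y, act y 1 = a y := fun y => by rw [h, map_one, mul_one]
  have zero : ∀ y, act y 0 = 0 := fun y => by rw [h, map_zero, mul_zero]
  have T : ∀ z, act x (act z 1) + act z 1 = act z (a x + 1) := fun z => by
    rw [hc, one x, h z (a x + 1), h z (a x), h z 1, map_add, mul_add]
  by_cases v0 : v = 0
  · rw [v0, zero, mul_zero]
  by_cases e : a x + 1 = 0
  · obtain ⟨z, rfl⟩ := ht v v0
    have := T z
    rw [e, zero] at this
    rw [eq_neg_of_add_eq_zero_left this, eq_neg_of_add_eq_zero_left e, neg_one_mul]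
  obtain ⟨w, hw⟩ := ht _ e
  have key : ∀ u, a x * σ x u + u = (a x + 1) * σ w u := fun u => by
    by_cases u0 : u = 0
    · simp [u0]
    obtain ⟨z, rfl⟩ := ht u u0
    rw [← h, T, ← hw, hc, one w, ← h]
  have k1 := key v
  have k2 := key (v * v)
  rw [map_mul, map_mul] at k2
  have : a x * (σ x v - v) ^ 2 = 0 := by
    linear_combination (a x + 1) * k2 - (a x * σ x v + v + (a x + 1) * σ w v) * k1
  rw [h]
  rcases mul_eq_zero.1 this with e | e
  · rw [e, zero_mul, zero_mul]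
  · rw [sub_eq_zero.1 (pow_eq_zero_iff two_ne_zero |>.1 e)]

/-- In `ΓL₁(F)` an abelian transitive subgroup consists of scalars. -/
theorem scalar_of_ab_tr {F : Type} [Field F] [Finite F] {X : Type*} [Group X]
    (a : X → F) (σ : X → F ≃+* F) (act : X →* Equiv.Perm F)
    (h : ∀ x v, act x v = a x * σ x v) (hc : ∀ x y, act x * act y = act y * act x)
    (ht : ∀ v : F, v ≠ 0 → ∃ x, act x 1 = v) : ∀ x v, act x v = a x * v :=
  scalar_aux a σ (fun x v => act x v) h (fun x y v => congrArg (fun s : Equiv.Perm F => s v) (hc x y)) ht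

theorem Tr.act {U U₀ H : Subgroup G} {V : Type*} [AddCommGroup V] (D : SD V U U₀) (l : H ≤ D.N)
    (t : Tr H U U₀) : (∀ x ∈ H, ∀ y ∈ H, D.act x * D.act y = D.act y * D.act x) ∧
      ∀ v w : V, v ≠ 0 → w ≠ 0 → ∃ x ∈ H, D.act x • v = w := by
  refine ⟨fun x hx y hy => ?_, fun v w hv hw => ?_⟩
  · rw [← commutatorElement_eq_one_iff_mul_comm, ← D.act_comm (l hx) (l hy),
      D.act_eq_one_iff (l ((commutator_le_self H) (commutator_mem_commutator hx hy)))]
    exact (t.ab (commutator_mem_commutator hx hy)).2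
  · obtain ⟨u, hu, rfl⟩ := D.surj v
    obtain ⟨u', hu', rfl⟩ := D.surj w
    obtain ⟨x, hx, e⟩ := t.tr u hu (mt (D.eq_zero hu).2 hv) u' hu' (mt (D.eq_zero hu').2 hw)
    exact ⟨x, hx, by rw [D.act_ψ (l hx) hu, D.ψ_eq_iff' (D.conj_mem (l hx) hu) hu']; exact e⟩

/-- Huppert's theorem (`S3360`): the image of `N` lies in `ΓL₁(F)`, and `H₁`, `H₂` act as scalars. -/
theorem hup {U U₀ N H₁ H₂ : Subgroup G} (h0 : U₀ ≤ U) (hc : ⁅U, U⁆ ≤ U₀)
    (h2 : ∀ u ∈ U, u * u ∈ U₀) (hs : Group.IsSolvable N) (n1 : N ≤ 𝐍[U]) (n0 : N ≤ 𝐍[U₀])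
    (l1 : H₁ ≤ N) (l2 : H₂ ≤ N) (t1 : Tr H₁ U U₀) (t2 : Tr H₂ U U₀) :
    ⁅H₁, H₂⁆ ≤ secCent U U₀ := by
  obtain ⟨V, _, ⟨D⟩⟩ := exists_SD h0 hc
  have hN : N ≤ D.N := D.le_N n1 n0
  suffices key : ∀ x ∈ H₁, ∀ y ∈ H₂, D.act x * D.act y = D.act y * D.act x by
    refine Subgroup.commutator_le.2 fun x hx y hy => ?_
    have m : ⁅x, y⁆ ∈ D.N :=
      commutator_le_self _ (commutator_mem_commutator (hN (l1 hx)) (hN (l2 hy)))
    refine ⟨m.2, (D.act_eq_one_iff m).1 ?_⟩
    rw [D.act_comm (hN (l1 hx)) (hN (l2 hy)), commutatorElement_eq_one_iff_mul_comm]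
    exact key x hx y hy
  rcases subsingleton_or_nontrivial V with hV | hV
  · exact fun x _ y _ => GA.ext fun v => Subsingleton.elim _ _
  haveI : Finite V := D.finite
  haveI : Fact (Nat.Prime 2) := ⟨Nat.prime_two⟩
  have two : ∀ v : V, 2 • v = 0 := fun v => by
    obtain ⟨u, hu, rfl⟩ := D.surj v
    rw [two_nsmul, ← D.ψ_mul hu hu, D.ψ_of_mem (h2 u hu)]
  letI : Module (ZMod 2) V := AddCommGroup.zmodModule two
  haveI : SMulCommClass (GA V) (ZMod 2) V := ⟨fun s c v => ZMod.map_smul (GA.eqv s) c v⟩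
  let ρ : D.im N →* (V ≃ₗ[ZMod 2] V) :=
    (DistribMulAction.toModuleAut (ZMod 2) V).comp (D.im N).subtype
  have hρ : ∀ (s : D.im N) (v : V), ρ s v = (s : GA V) • v := fun _ _ => rfl
  have sol : Group.IsSolvable (D.im N) := by
    haveI : Group.IsSolvable (N.subgroupOf D.N) :=
      Group.isSolvable_of_isSolvable_injective (f := (subgroupOfEquivOfLe hN).toMonoidHom)
        (subgroupOfEquivOfLe hN).injective
    exact solvable_of_surjective (D.rho.subgroupMap_surjective _)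
  rcases S3360.result 2 sol ρ (fun s t e => Subtype.ext (GA.ext fun v => by
      rw [← hρ, ← hρ, e])) (fun v w hv hw => by
      obtain ⟨x, hx, e⟩ := (t1.act D (l1.trans hN)).2 v w hv hw
      exact ⟨⟨_, D.act_mem_im (l1 hx)⟩, e⟩) with ⟨F, _, _, e, hF⟩ | hF
  · choose a σ hF using hF
    have sc : ∀ {H : Subgroup G} (l : H ≤ N), Tr H U U₀ → ∀ x ∈ H, ∃ c : F, ∀ v,
        e (D.act x • v) = c * e v := by
      intro H l t x hx
      obtain ⟨p, q⟩ := t.act D (l.trans hN)
      refine ⟨a ⟨_, D.act_mem_im (l hx)⟩, fun v => ?_⟩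
      have := scalar_aux (X := H) (fun y => a ⟨_, D.act_mem_im (l y.2)⟩)
        (fun y => σ ⟨_, D.act_mem_im (l y.2)⟩) (fun y w => e (D.act y • e.symm w))
        (fun y w => by simpa [hρ] using hF ⟨_, D.act_mem_im (l y.2)⟩ (e.symm w))
        (fun y z w => by simp only [e.symm_apply_apply, ← mul_smul, p y y.2 z z.2])
        (fun w hw => by
          obtain ⟨y, hy, r⟩ := q (e.symm 1) (e.symm w) (by simp) (by simpa using hw)
          exact ⟨⟨y, hy⟩, by simp [r]⟩) ⟨x, hx⟩ (e v)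
      simpa using this
    intro x hx y hy
    obtain ⟨c, hc⟩ := sc l1 t1 x hx
    obtain ⟨d, hd⟩ := sc l2 t2 y hy
    refine GA.ext fun v => e.injective ?_
    rw [mul_smul, mul_smul, hc, hd, hd, hc, mul_left_comm]
  · obtain ⟨v, hv⟩ := exists_ne (0 : V)
    have := addOrderOf_dvd_natCard v
    rw [addOrderOf_eq_prime (two v) hv] at this
    simp only [Set.mem_insert_iff, Set.mem_singleton_iff] at hF
    omega

end Cfsg.Agent.NFS
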