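import Cfsg.Agent.NFS.Tor
import Cfsg.Agent.NFS.Hup
import Cfsg.Agent.NFS.Env

/-!
# A rank one datum over `J(S)` is impossible
-/

set_option autoImplicit false
set_option linter.unusedSectionVars false

namespace Cfsg.Agent.NFS

open Cfsg.Agent.PLocal hiding centralizer_anti
open Subgroup Cfsg Cfsg.Agent.PLocal.Amb Cfsg.Agent.PLocal.TV
open Cfsg.Agent.PLocal.SL2Nat Cfsg.Agent.PLocal.Bk
open Cfsg.Agent.PLocal.CP (IsCharP MinOver ncl secCent)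
open Cfsg.Agent.Solv.Ext (Inv)
open Cfsg.Agent.QT.Qrc (P2)
open scoped commutatorElement MatrixGroups Cfsg.Agent.PLocal.CP

variable {G : Type*} [Group G] [Finite G] {J W L W' L' S : Subgroup G} {q : ℕ}
  {A : Type*} [Group A] [MulDistribMulAction A G]

theorem topB_nrm {Z H H' : Subgroup G} (n1 : H ≤ 𝐍[Z]) (n2 : H' ≤ 𝐍[Z]) (c : ⁅H, H'⁆ ≤ 𝐂[Z]) :
    H ≤ 𝐍[⁅Z, H'⁆] := le_normalizer_iff_cj.2 fun x hx => by
  rw [← commutator_cj, cj_of_mem_normalizer (n1 hx)]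
  refine commutator_le.2 fun z hz _ hy' => ?_
  obtain ⟨y, hy, rfl⟩ := mem_cj_iff_exists.1 hy'
  have e := c (commutator_mem_commutator hx hy) _ (conj_mem_of_mem_normalizer (n2 hy) (inv_mem hz))
  rw [show ⁅z, x * y * x⁻¹⁆ = z * (⁅x, y⁆ * (y * z⁻¹ * y⁻¹)) * ⁅x, y⁆⁻¹ by
    simp only [commutatorElement_def]; group, ← e,
    show z * (y * z⁻¹ * y⁻¹ * ⁅x, y⁆) * ⁅x, y⁆⁻¹ = ⁅z, y⁆ by rw [commutatorElement_def z]; group]
  exact commutator_mem_commutator hz hy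

theorem topB_map {φ : G →* G} (hφ : Function.Bijective φ) (e : J.map φ = J) :
    (YY J W L).map φ = YY J (W.map φ) (L.map φ) := by
  rw [YY, HH, map_commutator, map_commutator, map_pRes, map_inf _ _ _ hφ.1,
    map_normalizer_eq_of_bijective _ hφ, e, YY, HH]

/-- `dich`.  If `Z_{W'} ≤ 𝐂[E]` then `Y' ≤ 𝐙[J] ⊓ 𝐂[E] ≤ 𝐂[H]` (`yy`, `zw`, `hh`).  Let `Z_{W'} = Z_W = Z₁`,
`N₁ = H ⊔ H' ≤ 𝐍[J]` solvable; `H, H'` normalise `Q₀` (`two_types`), `Ŵ = W ⊔ Z₀` (`hat`), `Z₀`, `J`.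
`H'` is `Tr` on `Ŵ / Z₀` and `J / Q₀`: `tr_nc`, or (commuting case) `same`, `hat`, `tr1`, `tr2`.  `hup`
twice: `c ∈ [H, H']` centralises both sections.  `Z₁` is generated by the `⁅w, j⁆`, and
`⁅w z, j u⁆ = ⁅w, j⁆` for `z ∈ Z₀`, `u ∈ Q₀` (`⁅w, j⁆ ∈ Z₀`), so `c` centralises `Z₁`.  Hence `H` normalises
`Y' = [Z₁, H']` and `H'` normalises `Y`.  `Y ⊓ Y'` is `H`- and `H'`-invariant; if nontrivial,
transitivity gives `Y = Y'`; otherwise `[Y', H] ≤ Y' ⊓ Y = ⊥`. -/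
theorem Rk.ycl (h : Rk J W L q) (h' : Rk J W' L' q) (hq : 2 < q) (hs : Group.IsSolvable 𝐍[J]) :
    YY J W' L' = YY J W L ∨ YY J W' L' ≤ 𝐂[HH J L] := by
  obtain ⟨a1, a2, a3⟩ := h.hh
  obtain ⟨b1, b2, -⟩ := h'.hh
  obtain ⟨y1, -, -, y4⟩ := h.yy hq
  obtain ⟨z1, -, -, z4⟩ := h'.yy hq
  have zw := h.zw.1.trans inf_le_right
  rcases h.dich h' with e | ⟨e, -⟩
  swap
  · exact .inr ((le_inf (z1.trans (h'.zw.1.trans inf_le_right)) (z1.trans e)).trans a3)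
  have c1 := a1.trans inf_le_right
  have c2 := b1.trans inf_le_right
  have n1 : HH J L ≤ 𝐍[⁅W, J⁆] := le_normalizer_commutator (a1.trans (inf_le_left.trans h.nW)) c1
  have n2 : HH J L' ≤ 𝐍[⁅W, J⁆] := e ▸ le_normalizer_commutator (b1.trans (inf_le_left.trans h'.nW)) c2
  have l1 : HH J L ≤ 𝐍[J] ⊓ 𝐍[J ⊓ 𝐂[W]] := le_inf c1 (a2.ge.trans (h.two_types c1 n1).2)
  have l2 : HH J L' ≤ 𝐍[J] ⊓ 𝐍[J ⊓ 𝐂[W]] := le_inf c2 (b2.ge.trans (h.two_types c2 n2).2)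
  have hs' := Solv.isSolvable_of_le (inf_le_left : 𝐍[J] ⊓ 𝐍[J ⊓ 𝐂[W]] ≤ _) hs
  obtain ⟨t1, t2⟩ : Tr (HH J L') (W ⊔ 𝐙[J]) 𝐙[J] ∧ Tr (HH J L') J (J ⊓ 𝐂[W]) := by
    by_cases hc : W' ≤ 𝐂[W]
    · rw [← h.hat, ← h.same h' hc e, h'.hat]
      exact ⟨h'.tr1, h'.tr2⟩
    · exact h.tr_nc h' hc
  have ea : IsElementaryAbelian 2 (W ⊔ 𝐙[J]) := h.hat ▸ CP.omegaZ_isEA _
  have k1 := hup le_sup_right
    ((commutator_eq_bot_iff_le_centralizer.2 (isEA_le_centralizer ea)).le.trans bot_le)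
    (fun u hu => by rw [← sq, (isEA_iff.1 ea).2 u hu]; exact one_mem _) hs'
    (h.hat ▸ inf_le_right.trans (CP.normalizer_le_normalizer_omegaZ _))
    (inf_le_left.trans (CP.normalizer_le_normalizer_omegaZ _)) l1 l2 h.tr1 t1
  obtain ⟨s1, s2⟩ := sq_comm_cent (E := W) (CP.omegaZ_isEA J) (CP.le_centralizer_omegaZ J)
    (commutator_comm W J ▸ zw)
  have k2 := hup inf_le_left (le_inf (commutator_le_self J) s1) (fun u hu => ⟨mul_mem hu hu, s2 u hu⟩) hs'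
    inf_le_left inf_le_right l1 l2 h.tr2 t2
  have k : ⁅HH J L, HH J L'⁆ ≤ 𝐂[⁅W, J⁆] := le_centralizer_iff.1 (commutator_le.2 fun w hw j hj c hc => by
    have e1 := (CP.mem_secCent.1 (k1 hc)).2 w (mem_sup_left hw)
    have e2 := (CP.mem_secCent.1 (k2 hc)).2 j hj
    have e3 := CP.omegaZ_le_centralizer J e1 _
      (mul_mem (mul_mem (mul_mem (h.WJ hw) e2.1) hj) (inv_mem (h.WJ hw)))
    have e4 := CP.omegaZ_le_centralizer J (zw (commutator_mem_commutator hw hj)) _ e2.1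
    have e5 := e2.2 w hw
    calc c * ⁅w, j⁆ = ⁅c, w⁆ * (w * ⁅c, j⁆ * j * w⁻¹) * ⁅c, w⁆⁻¹ * j⁻¹ * ⁅c, j⁆⁻¹ * c := by
          simp only [commutatorElement_def]; group
      _ = ⁅c, j⁆ * ⁅w, j⁆ * ⁅c, j⁆⁻¹ * c := by rw [← e3, e5, commutatorElement_def w]; group
      _ = _ := by rw [e4, mul_inv_cancel_right])
  have m1 : HH J L ≤ 𝐍[YY J W' L'] := by rw [YY, e]; exact topB_nrm n1 n2 k
  have m2 : HH J L' ≤ 𝐍[YY J W L] := topB_nrm n2 n1 (commutator_comm (HH J L) _ ▸ k)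
  by_cases hb : YY J W' L' ⊓ YY J W L = ⊥
  · exact .inr (commutator_eq_bot_iff_le_centralizer.1 (le_bot_iff.1 (hb ▸ le_inf
      (Solv.commutator_le_of_le_normalizer m1) (commutator_mono (e ▸ z1) le_rfl))))
  obtain ⟨y, hy, y0⟩ := (bot_or_exists_ne_one _).resolve_left hb
  refine .inl (le_antisymm (fun v hv => ?_) fun v hv => ?_) <;> by_cases v0 : v = 1
  · exact v0 ▸ one_mem _
  · obtain ⟨x, hx, rfl⟩ := z4 y hy.1 y0 v hv v0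
    exact conj_mem_of_mem_normalizer (m2 hx) hy.2
  · exact v0 ▸ one_mem _
  · obtain ⟨x, hx, rfl⟩ := y4 y hy.2 y0 v hv v0
    exact conj_mem_of_mem_normalizer (m1 hx) hy.1

/-- `q = 2`.  `𝒱 = {z | z ≠ 1 ∧ ∃ W L, Rk J W L 2 ∧ z ∈ ⁅W, J⁆} ⊆ 𝐙[J]`; `|Z_W| = 2` (`Rk.two`); `K = 𝐂[E]`
(`zw`, `dich`); `prod_fix`; invariance under `Solv.Ext.hom G a` by `Rk.map` (`J.map = J`); `fp` with
`K = ⊥`. -/
theorem Ce.top2 (c : Ce A S) (h : Rk 𝐉[2, S] W L 2) : False := by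
  have iJ := c.inv_basic.2.1
  generalize 𝐉[2, S] = J at h iJ
  obtain ⟨⟨v, hv⟩, v1, un⟩ := (Nat.card_eq_two_iff' (1 : ↥⁅W, J⁆)).1 h.two.2.1
  have un' : ∀ x ∈ ⁅W, J⁆, x ≠ 1 → x = v := fun x hx x1 =>
    congrArg Subtype.val (un ⟨x, hx⟩ fun e => x1 (congrArg Subtype.val e))
  have zz : ∀ z ∈ {z | z ≠ 1 ∧ ∃ W L, Rk J W L 2 ∧ z ∈ ⁅W, J⁆}, z ∈ 𝐙[J] :=
    fun z ⟨_, _, _, r, hz⟩ => (r.zw.1 hz).2
  obtain ⟨π, -, p1, p2, p3⟩ := prod_fix (𝒱 := {z | z ≠ 1 ∧ ∃ W L, Rk J W L 2 ∧ z ∈ ⁅W, J⁆})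
    (fun z hz w hw => isEA_comm (CP.omegaZ_isEA J) (zz z hz) (zz w hw)) (v₀ := v)
    ⟨fun e => v1 (Subtype.ext e), W, L, h, hv⟩ (K := 𝐂[𝐎[2, L]])
    (fun e => h.zw.2.1 fun x hx => by
      by_cases x1 : x = 1
      exacts [x1 ▸ one_mem _, un' x hx x1 ▸ e])
    fun z ⟨z1, W', L', r, hz⟩ n => (h.dich r).elim (fun e => absurd (un' z (e ▸ hz) z1) n) fun e => e.1 hz
  refine p1 (c.fp J iJ π (p2 fun z hz => by rw [← sq, (CP.mem_omegaZ.1 (zz z hz)).2.2]) fun a =>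
    ⟨1, one_mem _, ?_⟩)
  rw [one_mul, inv_one, mul_one]
  refine p3 (MulDistribMulAction.toMulAut A G a) fun z ⟨z1, W', L', r, hz⟩ =>
    ⟨fun e => z1 ((MulEquiv.map_eq_one_iff _).1 e), _, _, iJ.map_eq a ▸ r.map (Solv.Ext.hom_injective a), ?_⟩
  rw [← iJ.map_eq a, ← map_commutator]
  exact ⟨z, hz, rfl⟩

/-- `q > 2`: `prod_class` for `𝒴 = {YY J W L | Rk J W L q}`, `N = 𝐍[J]` (invariant, solvable by
`Ce.sol_norm`), `ycl`, `yy`; `(YY J W L).map φ = YY J (W.map φ) (L.map φ)`; `fp` with `K = 𝐍[J]`. -/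
theorem Ce.top (c : Ce A S) (h : Rk 𝐉[2, S] W L q) : False := by
  rcases h.two_le.eq_or_lt with rfl | hq
  · exact c.top2 h
  have iJ := c.inv_basic.2.1
  have hs := c.sol_norm.2 _ c.inv_basic.2.2.2.2.2 (thompsonSubgroupOf_le S) iJ (vv_basic S).2.2.2.2
  generalize 𝐉[2, S] = J at h iJ hs
  obtain ⟨x, x1, x2, x3⟩ := prod_class (𝒴 := {Y | ∃ W L, Rk J W L q ∧ YY J W L = Y}) (N := 𝐍[J])
    (CP.omegaZ_isEA J) ⟨_, W, L, h, rfl⟩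
    (by rintro _ ⟨W, L, r, rfl⟩; exact (r.yy hq).1.trans (r.zw.1.trans inf_le_right))
    (by rintro _ ⟨W, L, r, rfl⟩; exact (r.yy hq).2.1) (by
      rintro _ ⟨W, L, r, rfl⟩
      refine ⟨_, r.hh.1.trans inf_le_right, (r.yy hq).2.2.1, (r.yy hq).2.2.2, ?_⟩
      rintro _ ⟨W', L', r', rfl⟩
      exact (r.ycl r' hq hs).resolve_left)
  refine x1 (c.fp _ iJ.normalizer x x2 fun a => x3 (MulDistribMulAction.toMulAut A G a) ?_)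
  rintro _ ⟨W, L, r, rfl⟩
  exact ⟨_, _, iJ.map_eq a ▸ r.map (Solv.Ext.hom_injective a),
    (topB_map ⟨Solv.Ext.hom_injective a, Solv.Ext.hom_surjective a⟩ (iJ.map_eq a)).symm⟩

end Cfsg.Agent.NFS
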