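import Cfsg.Agent.NFS.DhB

/-!
# Conjugate links with the same centre; doubling (STUB, ~350 lines; may split `refl_eq` /
`alt`+`tilde`)
-/

set_option autoImplicit false
set_option linter.unusedSectionVars false

namespace Cfsg.Agent.NFS

open Cfsg.Agent.PLocal hiding centralizer_anti
open Subgroup Cfsg Cfsg.Agent.PLocal.Amb Cfsg.Agent.PLocal.TV
open Cfsg.Agent.PLocal.SL2Nat Cfsg.Agent.PLocal.Bk
open Cfsg.Agent.PLocal.CP (IsCharP MinOver ncl secCent)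
open Cfsg.Agent.Solv.Ext (Inv)
open Cfsg.Agent.QT.Qrc (P2)
open scoped commutatorElement MatrixGroups Cfsg.Agent.PLocal.CP

variable {G : Type*} [Group G] [Finite G] {S Y D D' : Subgroup G} {r f z r' f' : G}

theorem dhc_c {x a b : G} : x ∈ 𝐂[fg a b] ↔ x * a = a * x ∧ x * b = b * x := by
  rw [fg, Amb.centralizer_sup, mem_inf, Amb.centralizer_zpowers, Amb.centralizer_zpowers,
    mem_centralizer_singleton_iff, mem_centralizer_singleton_iff]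

theorem dhc_cj (g a b : G) : cj(g, fg a b) = fg (g * a * g⁻¹) (g * b * g⁻¹) := fg_map _ a b

theorem dhc_zp (g a : G) : cj(g, zpowers a) = zpowers (g * a * g⁻¹) := MonoidHom.map_zpowers _ a

theorem dhc_par {x : G} (hx : x ∈ zpowers r) :
    (∃ y ∈ zpowers r, x = y * y) ∨ ∃ y ∈ zpowers r, x = r * (y * y) := by
  obtain ⟨k, rfl⟩ := hx
  rcases Int.even_or_odd' k with ⟨j, rfl | rfl⟩
  · exact .inl ⟨_, ⟨j, rfl⟩, by simp only [two_mul, zpow_add]⟩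
  · exact .inr ⟨_, ⟨j, rfl⟩, by simp only [two_mul, add_comm _ (1 : ℤ), zpow_add, zpow_one]⟩

theorem dhc_comm {x y : G} (hx : x ∈ zpowers r) (hy : y ∈ zpowers r) : Commute x y := by
  obtain ⟨i, rfl⟩ := hx
  obtain ⟨j, rfl⟩ := hy
  exact (Commute.refl r).zpow_zpow i j

theorem dhc_sq {x : G} (hx : x ∈ zpowers r) : x * x ∈ zpowers (r * r) := by
  obtain ⟨j, rfl⟩ := hx
  exact ⟨j, (Commute.refl r).mul_zpow j⟩

theorem Dh.dhc_nsq (h : Dh D r f z) : r ∉ zpowers (r * r) := fun c => by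
  rw [← pow_two, mem_zpowers_pow_iff] at c
  exact h.basic.2.2.2.2.1 (by
    rw [eq_one_of_isPGroup_of_coprime h.pg h.rD (Nat.Coprime.symm c), mul_one])

/-- generators of `⟨r⟩` are not squares -/
theorem Dh.dhc_gen (h : Dh D r f z) {x : G} (e : zpowers x = zpowers r) :
    ∃ y ∈ zpowers r, x = r * (y * y) := by
  refine (dhc_par (e ▸ mem_zpowers x)).resolve_left ?_
  rintro ⟨y, hy, rfl⟩
  exact h.dhc_nsq (zpowers_le.2 (dhc_sq hy) (e.ge (mem_zpowers r)))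

theorem Pr.dhc_half (h : Pr S Y D r f z) (h' : Pr S Y D' r' f' z) {s t x : G} (hs : s ∈ D)
    (hs' : s ∉ zpowers r) (ht : t ∈ D') (ht' : t ∉ zpowers r') (hc : s * t = t * s) (xY : x ∈ Y)
    (hx : x ∈ S ⊓ 𝐍[fg z t]) : x ∈ 𝐍[fg z s] ∧ (x ∈ 𝐂[fg z t] → x ∈ 𝐂[fg z s]) := by
  obtain ⟨Γ, b⟩ := h'.dd.fb t ht ht'
  obtain ⟨-, c1, c2, c3⟩ := b.cent h'.dd.dh ht ht'
  obtain ⟨δ, hδ, γ, hγ, rfl⟩ := c3 x hx
  obtain ⟨fD, -, -, -, -, cz', -⟩ := h'.dd.dh.basic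
  have sz : s * z = z * s := h.dd.dh.basic.2.2.2.2.2.1 hs z rfl ▸ rfl
  have γY : γ ∈ Y := (mul_mem_cancel_left (h'.DY (sup_le (zpowers_le.2 fD) (zpowers_le.2 ht) hδ))).1 xY
  have γs : γ * s = s * γ := by
    by_contra c
    obtain ⟨n1, n2⟩ := (h.dd.dh.norm (h.nD γY)).2.2.2 s hs hs'
    exact b.zΓ ((zpowers_le.2 (c1 (commutator_mem_commutator ⟨b.ΓS hγ, c2 hγ⟩
      ⟨h.dd.le hs, dhc_c.2 ⟨sz, hc⟩⟩)) :) ((h.dd.dh.cyc (h.dd.dh.idx _ n1 n2 _ (inv_mem hs)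
        (mt inv_mem_iff.1 hs'))).2.1 (mt commutatorElement_eq_one_iff_mul_comm.1 c)))
  have γc : γ ∈ 𝐂[fg z s] := dhc_c.2 ⟨(dhc_c.1 (c2 hγ)).1, γs⟩
  have tc : t ∈ 𝐂[fg z s] := dhc_c.2 ⟨mem_centralizer_singleton_iff.1 (cz' ht), hc.symm⟩
  have zW : z ∈ fg z s := mem_sup_left (mem_zpowers z)
  have sW : s ∈ fg z s := mem_sup_right (mem_zpowers s)
  have fn : f' ∈ 𝐍[fg z s] := mem_normalizer_of_cj_le (by
    rw [dhc_cj, mem_centralizer_singleton_iff.1 (cz' fD), mul_inv_cancel_right]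
    refine sup_le (zpowers_le.2 zW) (zpowers_le.2 ?_)
    rcases (h'.dd.dh.norm (h'.nD (h.DY hs))).2.2.1 with e | e
    · rwa [← mul_inv_eq_iff_eq_mul.1 e, mul_inv_cancel_right]
    · rw [show f' * s * f'⁻¹ = f' * (s * f' * s⁻¹)⁻¹ * s by group, e, inv_inv, h'.dd.dh.ff]
      exact mul_mem zW sW)
  refine ⟨mul_mem (sup_le (zpowers_le.2 fn) (zpowers_le.2 (centralizer_le_normalizer' _ tc)) hδ)
    (centralizer_le_normalizer' _ γc), fun c => mul_mem ?_ γc⟩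
  have : δ ∈ fg z t := (h'.dd.dh.fg ht ht').2.2.2.2.2.1.le
    ⟨hδ, mem_centralizer_singleton_iff.2 (dhc_c.1 ((mul_mem_cancel_right (c2 hγ)).1 c)).2⟩
  exact sup_le (zpowers_le.2 (dhc_c.2 ⟨rfl, sz.symm⟩)) (zpowers_le.2 tc) this

/-- `W = fg z s`, `W' = fg z t`, `T, T'` their normalisers in `S`, `J₁ = 𝐉[T]`, `J₁' = 𝐉[T'] ≤ Y`.
Claim `J₁' ≤ T` and `J₁' ⊓ 𝐂[W'] ≤ 𝐂[W]`.  Let `x = δ γ ∈ J₁'` (`Fb.cent`; `δ ∈ ⟨f', t⟩ ≤ D' ≤ Y`), so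
`γ ∈ Y ⊓ Γ'` normalises `D`.  `s ∈ C_S(W') ≤ W' Γ'`, so `⁅γ, s⁆ ∈ Γ'`; it is a product of two reflections
of `D`, so in `⟨r⟩`; if `≠ 1` then `z ∈ Γ'`.  So `γ ∈ 𝐂[W]`.  `t ∈ 𝐂[W]`; `s ∈ Y` normalises `D'`, so
`s f' s⁻¹ = f'^{±1}`, `⁅f', s⁆ ∈ ⟨z⟩`, `f' ∈ 𝐍[W]`.  If `x ∈ 𝐂[W']` then `δ ∈ W' ≤ 𝐂[W]`.  The situation is
symmetric.  `mx T = mx T'` (conjugate), so `J₁' ≤ J₁` (members of `maxEA T'` lie in `T`), `J₁ = J₁'`,
`J₁ ⊓ 𝐂[W] = J₁' ⊓ 𝐂[W'] = cj(g, J₁ ⊓ 𝐂[W])`; `nq` gives `g ∈ 𝐍[W]`. -/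
theorem Pr.refl_eq (h : Pr S Y D r f z) (h' : Pr S Y D' r' f' z) {s t g : G} (hs : s ∈ D)
    (hs' : s ∉ zpowers r) (ht : t ∈ D') (ht' : t ∉ zpowers r') (hc : s * t = t * s) (hg : g ∈ S)
    (e : cj(g, fg z s) = fg z t) : fg z t = fg z s := by
  have eT : cj(g, S ⊓ 𝐍[fg z s]) = S ⊓ 𝐍[fg z t] := by rw [cj_inf, cj_of_mem hg, ← normalizer_cj, e]
  have hf := fun {x : G} (hx : x ∈ 𝐉[2, S ⊓ 𝐍[fg z t]]) => h.dhc_half h' hs hs' ht ht' hc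
    (h'.JY t ht ht' hx) (thompsonSubgroupOf_le _ hx)
  have hJ : 𝐉[2, S ⊓ 𝐍[fg z t]] ≤ 𝐉[2, S ⊓ 𝐍[fg z s]] := thompsonSubgroupOf_le_iff.2 fun A hA =>
    le_thompsonSubgroupOf (mem_maxEA_of_mx (le_inf (hA.1.trans inf_le_left)
      fun x hx => (hf (le_thompsonSubgroupOf hA hx)).1) hA.2.1 (by rw [mx_eq hA, ← eT, mx_cj]))
  obtain ⟨Γ, b⟩ := h.dd.fb s hs hs'
  rw [← e]
  refine cj_of_mem_normalizer (b.nq ⟨hg, mem_normalizer_of_cj_le ?_⟩)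
  rw [cj_inf, ← centralizer_cj, e, map_thompsonSubgroupOf _ (MulAut.conj g).injective, eT]
  exact fun x hx => ⟨hJ hx.1, (hf hx.1).2 hx.2⟩

/-- A reflection `t` of `D'` is an involution in `Y ≤ 𝐍[D]`; `DD.invol`: it commutes with a
reflection of `D`, so `t ∈ D` (`refl_eq`), or it is outer.  If all reflections of `D'` lie in `D` then
`D' ≤ D`, equal by order.  In the outer case `x = t s t⁻¹ s ∈ D'` (as `s` normalises `D'`) generates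
`⟨r⟩`, has order `≥ 4`, so lies in `⟨r'⟩`; orders are equal. -/
theorem Pr.alt (h : Pr S Y D r f z) (h' : Pr S Y D' r' f' z) (ho : orderOf r' = orderOf r)
    (hc : ∀ s ∈ D, s ∉ zpowers r → ∀ t ∈ D', t ∉ zpowers r' → ∃ g ∈ S, cj(g, fg z s) = fg z t) :
    D' = D ∨ (zpowers r' = zpowers r ∧ ∀ s ∈ D, s ∉ zpowers r → ∀ t ∈ D', t ∉ zpowers r' →
      t * r * t⁻¹ = r⁻¹ ∧ zpowers (t * s * t⁻¹ * s) = zpowers r) := by
  have out : ∀ t ∈ D', t ∉ zpowers r' → t ∉ D → t * r * t⁻¹ = r⁻¹ ∧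
      ∀ s ∈ D, s ∉ zpowers r → zpowers (t * s * t⁻¹ * s) = zpowers r := fun t ht ht' n =>
    (h.dd.invol ⟨h'.dd.le ht, h.nD (h'.DY ht)⟩ (h'.dd.dh.sq t ht ht')).2.resolve_left (by
      rintro ⟨s, hs, hs', c⟩
      obtain ⟨g, hg, e⟩ := hc s hs hs' t ht ht'
      refine n ((h.dd.dh.fg hs hs').2.2.1 ?_)
      rw [← h.refl_eq h' hs hs' ht ht' c.symm hg e]
      exact mem_sup_right (mem_zpowers t))
  by_cases c : ∀ t ∈ D', t ∉ zpowers r' → t ∈ D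
  · refine .inl (PLocal.eq_of_le_of_card_le ?_ ?_)
    · rw [h'.dd.dh.basic.2.2.2.2.2.2.2.1]
      exact (closure_le _).2 fun t ht => c t ht.1 ht.2
    · rw [h'.dd.dh.basic.2.2.2.2.2.2.2.2, h.dd.dh.basic.2.2.2.2.2.2.2.2, ho]
  push Not at c
  obtain ⟨t₀, h0, h0', n0⟩ := c
  have e : zpowers r' = zpowers r := by
    obtain ⟨s, hs, hs'⟩ := h.dd.dh.ex
    refine (PLocal.eq_of_le_of_card_le ?_ (by rw [Nat.card_zpowers, Nat.card_zpowers, ho])).symm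
    obtain ⟨n1, n2⟩ := (h'.dd.dh.norm (h'.nD (h.DY hs))).2.2.2 _ (inv_mem h0) (mt inv_mem_iff.1 h0')
    have := h'.dd.dh.idx _ h0 h0' _ n1 n2
    rw [inv_eq_of_mul_eq_one_right (h.dd.dh.sq s hs hs'), ← mul_assoc, ← mul_assoc] at this
    rw [← (out t₀ h0 h0' n0).2 s hs hs']
    exact zpowers_le.2 this
  refine .inr ⟨e, fun s hs hs' t ht ht' => (out t ht ht' fun n => n0 ?_).imp_right fun k => k s hs hs'⟩
  exact (mul_mem_cancel_right n).1 (zpowers_le.2 h.dd.dh.rD (e.le (h'.dd.dh.idx _ h0 h0' _ ht ht')))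

/-- links whose four-groups are conjugate to `W` -/
structure Cn (S Y W D : Subgroup G) (n : ℕ) (r f z : G) : Prop where
  pr : Pr S Y D r f z
  ord : orderOf r = n
  con : ∀ t ∈ D, t ∉ zpowers r → ∃ g ∈ S, cj(g, W) = fg z t

variable {W D'' : Subgroup G} {n : ℕ} {r'' f'' : G}

theorem Cn.cj (h : Cn S Y W D n r f z) {u : G} (hu : u ∈ S ⊓ 𝐍[Y] ⊓ 𝐜[z]) :
    Cn S Y W cj(u, D) n (u * r * u⁻¹) (u * f * u⁻¹) z := by
  have e : u * z * u⁻¹ = z := mul_inv_eq_of_eq_mul (mem_centralizer_singleton_iff.1 hu.2)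
  refine ⟨?_, ?_, ?_⟩
  · have := h.pr.cj hu.1
    rwa [e] at this
  · rw [← h.ord]
    exact (MulAut.conj u).orderOf_eq r
  · rintro _ ⟨t, ht, rfl⟩ n
    obtain ⟨g, hg, c⟩ := h.con t ht fun c => n (dhc_zp u r ▸ conj_mem_cj u c)
    exact ⟨u * g, mul_mem hu.1.1 hg, by rw [cj_mul, c, dhc_cj, e]; rfl⟩

theorem Cn.alt (h : Cn S Y W D n r f z) (h' : Cn S Y W D' n r' f' z) (ne : D' ≠ D) :
    zpowers r' = zpowers r ∧ ∀ s ∈ D, s ∉ zpowers r → ∀ t ∈ D', t ∉ zpowers r' →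
      t * r * t⁻¹ = r⁻¹ ∧ zpowers (t * s * t⁻¹ * s) = zpowers r :=
  (h.pr.alt h'.pr (h'.ord.trans h.ord.symm) fun s hs hs' t ht ht' =>
    let ⟨g, hg, e⟩ := h.con s hs hs'
    let ⟨g', hg', e'⟩ := h'.con t ht ht'
    ⟨g' * g⁻¹, mul_mem hg' (inv_mem hg), by rw [← e, cj_mul, cj_inv_cj, e']⟩).resolve_left ne

theorem dhc_inv {t x : G} (h : t * r * t⁻¹ = r⁻¹) (hx : x ∈ zpowers r) : t * x = x⁻¹ * t := by
  obtain ⟨k, rfl⟩ := hx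
  rw [← mul_inv_eq_iff_eq_mul, ← conj_zpow, h, inv_zpow]

theorem Cn.uniq (h : Cn S Y W D n r f z) (h' : Cn S Y W D' n r' f' z)
    (h'' : Cn S Y W D'' n r'' f'' z) (n1 : D' ≠ D) (n2 : D'' ≠ D) : D'' = D' := by
  by_contra n3
  obtain ⟨s, hs, hs'⟩ := h.pr.dd.dh.ex
  obtain ⟨t, ht, ht'⟩ := h'.pr.dd.dh.ex
  obtain ⟨w, hw, hw'⟩ := h''.pr.dd.dh.ex
  obtain ⟨e1, k1⟩ := h.alt h' n1
  obtain ⟨i1, g1⟩ := k1 s hs hs' t ht ht'
  obtain ⟨i2, g2⟩ := (h.alt h'' n2).2 s hs hs' w hw hw'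
  have g3 := ((h'.alt h'' n3).2 t ht ht' w hw hw').2.trans e1
  have s2 := h.pr.dd.dh.sq s hs hs'
  have t2 := inv_eq_of_mul_eq_one_right (h'.pr.dd.dh.sq t ht ht')
  have w2 := inv_eq_of_mul_eq_one_right (h''.pr.dd.dh.sq w hw hw')
  obtain ⟨a, ha, ea⟩ := h.pr.dd.dh.dhc_gen g1
  obtain ⟨b, hb, eb⟩ := h.pr.dd.dh.dhc_gen g2
  obtain ⟨c, hc, ec⟩ := h.pr.dd.dh.dhc_gen g3
  have r0 := mem_zpowers r
  have ts : t * s = r * (a * a) * s * t := by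
    rw [← ea, mul_assoc _ s s, s2, mul_one, inv_mul_cancel_right]
  have ws : w * s = r * (b * b) * s * w := by
    rw [← eb, mul_assoc _ s s, s2, mul_one, inv_mul_cancel_right]
  -- `v = w t` centralises `⟨r⟩`, `v s = y² s v`
  have vc : ∀ x ∈ zpowers r, Commute (w * t) x := fun x hx => by
    rw [Commute, SemiconjBy, mul_assoc, dhc_inv i1 hx, ← mul_assoc, dhc_inv i2 (inv_mem hx), inv_inv,
      mul_assoc]
  have hy := mul_mem (inv_mem ha) hb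
  have vs : w * t * s = a⁻¹ * b * (a⁻¹ * b) * s * (w * t) := by
    rw [mul_assoc, ts, ← mul_assoc, ← mul_assoc, dhc_inv i2 (mul_mem r0 (mul_mem ha ha)), mul_assoc _ w, ws,
      (dhc_comm hb (inv_mem ha)).mul_mul_mul_comm]
    group
  generalize a⁻¹ * b = y at hy vs
  have si : s * r * s⁻¹ = r⁻¹ := h.pr.dd.dh.inv hs hs' r0
  have cs : Commute (w * t * y⁻¹) s := by
    have a1 := dhc_inv si hy
    have a2 := dhc_inv si (inv_mem hy)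
    calc _ = w * t * s * y := by rw [mul_assoc _ s, a1, mul_assoc (w * t)]
      _ = y * y * (s * y) * (w * t) := by rw [vs, mul_assoc _ _ y, (vc _ hy).eq]; simp only [mul_assoc]
      _ = s * y⁻¹ * (w * t) := by rw [a1, a2]; group
      _ = _ := by rw [mul_assoc, (vc _ (inv_mem hy)).eq]
  have sq : w * t * y⁻¹ * (w * t * y⁻¹) = r * (c * y⁻¹ * (c * y⁻¹)) := by
    rw [w2] at ec
    rw [mul_assoc, ← mul_assoc y⁻¹, ← (vc _ (inv_mem hy)).eq, (dhc_comm (inv_mem hy) hc).mul_mul_mul_comm,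
      ← mul_assoc r, ← ec]
    group
  have c2 := (cs.mul_left cs).eq
  have hd := mul_mem hc (inv_mem hy)
  rw [sq] at c2
  generalize c * y⁻¹ = d at hd c2
  have hx := mul_mem r0 (mul_mem hd hd)
  rw [dhc_inv si hx, mul_left_inj, eq_inv_iff_mul_eq_one] at c2
  have := (h.pr.dd.dh.cyc hx).2.2.2.2 fun k =>
    h.pr.dd.dh.dhc_nsq ((mul_mem_cancel_right (dhc_sq hd)).1 k)
  obtain ⟨j, hj⟩ := this.ge r0
  refine h.pr.dd.dh.basic.2.2.2.2.1 ?_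
  rw [← hj]
  simp only [← (Commute.refl _).mul_zpow, c2, one_zpow]

theorem Cn.sup (h : Cn S Y W D n r f z) (h' : Cn S Y W D' n r' f' z) (ne : D' ≠ D) :
    ∃ r₁, Pr S Y (D ⊔ D') r₁ f z := by
  obtain ⟨s, hs, hs'⟩ := h.pr.dd.dh.ex
  obtain ⟨t, ht, ht'⟩ := h'.pr.dd.dh.ex
  obtain ⟨e, k⟩ := h.alt h' ne
  have d := h.pr.dd.dh
  have d' := h'.pr.dd.dh
  have s2 := d.sq s hs hs'
  have t2 := d'.sq t ht ht'
  have rr : zpowers r ≤ zpowers (t * s) := by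
    rw [← (k s hs hs' t ht ht').2, inv_eq_of_mul_eq_one_right t2, mul_assoc]
    exact zpowers_le.2 (mul_mem (mem_zpowers _) (mem_zpowers _))
  have rD := zpowers_le.2 d.rD
  have rD' := zpowers_le.2 d'.rD
  have dec : ∀ w ∈ D ⊔ D', w ∉ zpowers (t * s) → (w ∈ D ∧ w ∉ zpowers r) ∨
      (w ∈ D' ∧ w ∉ zpowers r') := fun w hw n => by
    obtain ⟨a, ha, b, hb, rfl⟩ := (mem_sup_of_le_normalizer_left (h'.pr.DY.trans h.pr.nD)).1 hw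
    by_cases c : a ∈ zpowers r
    · exact .inr ⟨mul_mem (rD' (e.ge c)) hb, fun q => n (rr (e.le q))⟩
    by_cases c' : b ∈ zpowers r'
    · exact .inl ⟨mul_mem ha (rD (e.le c')), fun q => n (rr q)⟩
    refine absurd ?_ n
    rw [show a * b = a * s * (t * s)⁻¹ * (t * b) by group]
    exact mul_mem (mul_mem (rr (d.idx a ha c s hs hs')) (inv_mem (mem_zpowers _)))
      (rr (e.le (d'.idx t ht ht' b hb c')))
  have ws : ∀ w ∈ D ⊔ D', w ∉ zpowers (t * s) → w * s ∈ zpowers (t * s) := fun w hw n => by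
    rcases dec w hw n with ⟨a, b⟩ | ⟨a, b⟩
    · exact rr (d.idx w a b s hs hs')
    · rw [show w * s = w * t * (t * s) by rw [mul_assoc, ← mul_assoc t, t2, one_mul]]
      exact mul_mem (rr (e.le (d'.idx w a b t ht ht'))) (mem_zpowers _)
  have DY := sup_le h.pr.DY h'.pr.DY
  refine ⟨t * s, ⟨h.pr.dd.pg, ⟨h.pr.dd.pg.to_le (DY.trans h.pr.YS), mul_mem (mem_sup_right ht)
    (mem_sup_left hs), rr d.fr, d.ff, d.zz, d.z1, ⟨s, mem_sup_left hs, fun c => d.basic.2.2.2.2.1 ?_⟩,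
    fun w hw n => (dec w hw n).elim (fun a => d.sq w a.1 a.2) fun a => d'.sq w a.1 a.2,
    fun w hw n v hv m => ?_⟩, DY.trans h.pr.YS, fun w hw n => ?_, fun w hw n v hv m => ?_⟩, h.pr.YS,
    h.pr.jj, DY, Amb.le_normalizer_sup h.pr.nD h'.pr.nD,
    fun w hw n => (dec w hw n).elim (fun a => h.pr.JY w a.1 a.2) fun a => h'.pr.JY w a.1 a.2,
    fun w hw n => (dec w hw n).elim (fun a => h.pr.mY w a.1 a.2) fun a => h'.pr.mY w a.1 a.2⟩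
  · have := d.inv hs hs' (mem_zpowers r)
    rwa [(dhc_comm c (rr (mem_zpowers r))).eq, mul_inv_cancel_right, eq_inv_iff_mul_eq_one] at this
  · rw [show w * v = w * s * (v⁻¹ * s)⁻¹ by group]
    exact mul_mem (ws w hw n) (inv_mem (ws _ (inv_mem hv) (mt inv_mem_iff.1 m)))
  · rcases dec w hw n with ⟨a, b⟩ | ⟨a, b⟩
    · exact h.pr.dd.fb w a b
    · exact (h'.pr.dd.fb w a b).imp fun Γ c => (c.congr d' a b (.inl rfl)
        ((d'.cyc (e.ge d.fr)).2.2.2.1 d.ff)).1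
  · have con : ∀ w ∈ D ⊔ D', w ∉ zpowers (t * s) → ∃ g ∈ S, cj(g, W) = fg z w := fun w hw n =>
      (dec w hw n).elim (fun a => h.con w a.1 a.2) fun a => h'.con w a.1 a.2
    obtain ⟨g, hg, e⟩ := con w hw n
    obtain ⟨g', hg', e'⟩ := con v hv m
    exact ⟨g' * g⁻¹, mul_mem hg' (inv_mem hg), by rw [← e, cj_mul, cj_inv_cj, e']⟩

/-- `U₁ = S ⊓ 𝐍[Y] ⊓ 𝐜[z]`.  If `U₁ ≤ 𝐍[D]` take `D`.  Else `D' = cj(u, D) ≠ D` (`Pr.cj`, `alt`).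
Uniqueness: if `D'' = cj(u', D) ≠ D, D'`, with reflections `s, t, t'` of `D, D', D''`, then `v = t t'`
centralises `r`, `v s v⁻¹ = y² s` for some `y ∈ ⟨r⟩` (two generators of `⟨r⟩` differ by an element of
`⟨r²⟩`), `c = v y⁻¹ ∈ 𝐂[D]`, `c² = v² y⁻²` with `v² = t t' t⁻¹ t'` a generator of `⟨r⟩` (`alt` for
`D'', D'`), so a generator of `⟨r⟩` centralises `s`, absurd.  So `U₁` permutes `{D, D'}` and
normalises `D̃ = D ⊔ D' ≤ Y`.  `r̃ = t s`, `r̃² ` generates `⟨r⟩`; `D̃ = ⟨r̃⟩ ∪ ⟨r̃⟩ s`: `Dh D̃ r̃ f z`.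
The reflections of `D̃` are `x s` (`x ∈ ⟨r⟩`: reflections of `D`) and `x r̃ s = x t` (reflections of `D'`;
`f' = f^{±1}` by `Dh.cyc`, use `Fb.congr`). -/
theorem Pr.tilde (h : Pr S Y D r f z) : ∃ (D₁ : Subgroup G) (r₁ : G), Pr S Y D₁ r₁ f z ∧
    S ⊓ 𝐍[Y] ⊓ 𝐜[z] ≤ 𝐍[D₁] := by
  by_cases c : S ⊓ 𝐍[Y] ⊓ 𝐜[z] ≤ 𝐍[D]
  · exact ⟨D, r, h, c⟩
  obtain ⟨u, hu, un⟩ := SetLike.not_le_iff_exists.1 c
  obtain ⟨s, hs, hs'⟩ := h.dd.dh.ex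
  have k : Cn S Y (fg z s) D _ r f z := ⟨h, rfl, h.dd.cj s hs hs'⟩
  have ne := mt cj_eq_iff.1 un
  obtain ⟨r₁, p⟩ := k.sup (k.cj hu) ne
  have le : ∀ v ∈ S ⊓ 𝐍[Y] ⊓ 𝐜[z], cj(v, D) ≤ D ⊔ cj(u, D) := fun v hv => by
    by_cases e : cj(v, D) = D
    · exact e.le.trans le_sup_left
    · exact (k.uniq (k.cj hu) (k.cj hv) ne e).le.trans le_sup_right
  refine ⟨_, r₁, p, fun v hv => mem_normalizer_of_cj_le ?_⟩
  rw [cj_sup, ← cj_mul]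
  exact sup_le (le v hv) (le _ (mul_mem hv hu))

end Cfsg.Agent.NFS
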