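import Cfsg.Agent.NFS.Fld
import Cfsg.Agent.PLocal.StellOne

/-!
# Pushing up

`B = 𝐁[2, T]`, `Q_B = B ⊓ 𝐂[W]`, `E = 𝐎[2, L]`, `K₀ = L ⊓ D.ker ≤ 𝐂[W]`.
-/

set_option autoImplicit false
set_option linter.unusedSectionVars false

namespace Cfsg.Agent.NFS

open Cfsg.Agent.PLocal hiding centralizer_anti
open Subgroup Cfsg Cfsg.Agent.PLocal.Amb Cfsg.Agent.PLocal.TV
open Cfsg.Agent.PLocal.SL2Nat Cfsg.Agent.PLocal.Bk
open Cfsg.Agent.PLocal.CP (IsCharP MinOver ncl secCent)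
open Cfsg.Agent.Solv.Ext (Inv)
open Cfsg.Agent.QT.Qrc (P2)
open scoped commutatorElement MatrixGroups Cfsg.Agent.PLocal.CP

variable {G : Type*} [Group G] [Finite G] {T R W L : Subgroup G} {F : Type} [Field F] [Fintype F]
  [CharP F 2] {D : SD (Fin 2 → F) W (W ⊓ 𝐂[L])}

theorem pu_cs {O Z : Subgroup G} (hZ : IsSyl 2 Z O) (hc : Z ≤ 𝐂[O]) (hO : 𝐎[2, O] = O) : Z = ⊥ := by
  obtain ⟨P, rfl⟩ := hZ.exists_sylow_map
  have hN : normalizer (P : Set O) ≤ centralizer (P : Set O) := fun g _ x hx =>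
    Subtype.ext (hc ⟨x, hx, rfl⟩ g g.2).symm
  have h1 : 𝐎[2, (⊤ : Subgroup O)] ≤ (MonoidHom.transferSylow P hN).ker := pRes_le_of_pow fun g _ =>
    (P.isPGroup' (MonoidHom.transferSylow P hN g)).imp fun k hk => by
      rw [MonoidHom.mem_ker, map_pow, hk]
  rw [pRes_top, ← pRes_subgroupOf, hO, subgroupOf_self, top_le_iff] at h1
  rw [map_eq_bot_iff_of_injective _ O.subtype_injective]
  exact top_disjoint.1 (h1 ▸ (MonoidHom.ker_transferSylow_isComplement' P hN).disjoint)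

theorem pu_ch {H : Type*} [Group H] {B X : Subgroup G} (π : G →* H) (hX : Ch B X)
    (hk : B ⊓ π.ker = X) {S : Subgroup H} (hS : S = B.map π) {T : Subgroup S}
    (hT : T.Characteristic) : Ch B (B ⊓ (T.map S.subtype).comap π) := by
  subst hS
  have h1 : (π.subgroupMap B).ker.Characteristic := by
    convert hX.char
    ext x
    rw [← hk, mem_subgroupOf, MonoidHom.mem_ker, Subtype.ext_iff]
    exact ⟨fun h => ⟨x.2, h⟩, fun h => h.2⟩
  let e := QuotientGroup.quotientKerEquivOfSurjective _ (π.subgroupMap_surjective B)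
  have h2 : (T.comap e.toMonoidHom).Characteristic := characteristic_iff_le_comap.2 fun φ x hx => by
    simpa using characteristic_iff_le_comap.1 hT (e.symm.trans (φ.trans e)) hx
  refine ⟨inf_le_left, ?_⟩
  convert Characteristic.comap_quotient_mk h2
  ext x
  rw [inf_subgroupOf_left]
  exact mem_map_subtype (x := π.subgroupMap B x)

theorem pu_abs {B W M E : Subgroup G} [W.Normal] (hE : E = 𝐎[2, (⊤ : Subgroup G)])
    (hB : IsSyl 2 B ⊤) (ea : IsElementaryAbelian 2 W) (WB : W ≤ B) (hQ : (B ⊓ 𝐂[W]).Normal)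
    (di : ∀ N : Subgroup G, N.Normal → N ≤ 𝐂[W] ∨ E ≤ N) (nc : ¬ W ≤ 𝐂[E]) (hM : M ≠ ⊤)
    (hM' : ∀ X, B ≤ X → X ≠ ⊤ → X ≤ M) (BM : B ≤ M) (kM : 𝐂[W] ≤ M) (ρ : G →* PSL(2, F))
    (hρ : Function.Surjective ρ) (hk : 𝐂[W] ≤ ρ.ker) (hX : ∀ X, Ch B X → X.Normal → X ≤ 𝐂[E]) :
    ⁅B ⊓ 𝐂[W], E⁆ ≤ W := by
  have nrm : ∀ {A : Subgroup G}, ⊤ ≤ 𝐍[A] → A.Normal := fun h =>
    normalizer_eq_top_iff.1 (top_le_iff.1 h)
  have : E.Normal := nrm (hE ▸ le_normalizer_pRes 2 ⊤)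
  obtain ⟨X, ⟨x1, x2⟩, xm⟩ := (Set.toFinite {X | Ch B X ∧ X.Normal}).exists_maximal
    ⟨⊥, ⟨bot_le, by rw [bot_subgroupOf]; infer_instance⟩, inferInstance⟩
  obtain ⟨Q, eQ⟩ : ∃ Q, Q = B ⊓ 𝐂[W] := ⟨_, rfl⟩
  rw [← eQ] at hQ ⊢
  have WQ : W ≤ Q := eQ ▸ le_inf WB (elemAb_le_centralizer ea)
  have pQ : IsPGroup 2 Q := eQ ▸ hB.pgrp.to_inf_left
  have cc : ∀ {V : Subgroup G} [V.Normal], IsPGroup 2 V → ⁅⁅V, E⁆, E⁆ = ⁅V, E⁆ := fun h =>
    hE ▸ CP.commutator_pRes_pRes h le_normalizer_of_normal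
  have XE := commutator_eq_bot_iff_le_centralizer.2 (hX X x1 x2)
  have nX : ¬ ⁅W, E⁆ ≤ X := fun h => nc (commutator_eq_bot_iff_le_centralizer.1 (eq_bot_iff.2
    ((cc (pQ.to_le WQ)).ge.trans ((commutator_mono h le_rfl).trans XE.le))))
  have XW := (di X x2).resolve_right fun h => nX ((commutator_le_right W E).trans h)
  have XQ : X ≤ Q := eQ ▸ le_inf x1.le XW
  have cn := CP.secCent_normal Q X
  have CW := (di _ cn).resolve_right fun h =>
    nX ((commutator_mono WQ le_rfl).trans (CP.le_secCent_iff'.1 h).2)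
  obtain ⟨O, eO⟩ : ∃ O, O = 𝐎[2, secCent Q X] := ⟨_, rfl⟩
  have : O.Normal := nrm (eO ▸ le_normalizer_of_normal.trans (normalizer_le_normalizer_pRes 2 _))
  have OW : O ≤ 𝐂[W] := eO ▸ (pRes_le 2 _).trans CW
  have OQ : O ≤ 𝐂[Q] := eO ▸ CP.pRes_le_centralizer_of_commutator_le (pQ.to_le XQ)
    ((pRes_mono le_top).trans (hE ▸ le_centralizer_iff.1 (hX X x1 x2)))
    (CP.le_secCent_iff.1 le_rfl).2
  have OB : B ⊓ O = ⊥ := pu_cs (hB.inf_of_le le_top le_normalizer_of_normal)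
    ((eQ ▸ inf_le_inf_left B OW : B ⊓ O ≤ Q).trans (le_centralizer_iff.1 OQ)) (eO ▸ pRes_pRes 2 _)
  have YW : X ⊔ O ≤ 𝐂[W] := sup_le XW OW
  have YB : B ⊓ (X ⊔ O) = X := by
    rw [inf_comm, sup_inf_of_le_normalizer x1.le le_normalizer_of_normal, inf_comm, OB, sup_bot_eq]
  have CY : secCent Q X ≤ Q ⊔ (X ⊔ O) :=
    (hB.inf_of_le le_top le_normalizer_of_normal).pRes_sup.ge.trans (sup_le
      (eO.ge.trans (le_sup_right.trans le_sup_right)) (((inf_le_inf_left B CW).trans eQ.ge).trans le_sup_left))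
  generalize hY : X ⊔ O = Y at YW YB CY
  have : Y.Normal := hY ▸ inferInstance
  have QB : Q ≤ B := eQ ▸ inf_le_left
  let π := QuotientGroup.mk' Y
  have hπ : Function.Surjective π := QuotientGroup.mk'_surjective Y
  have kπ : π.ker = Y := QuotientGroup.ker_mk' Y
  have cm : ∀ {A A' : Subgroup G}, A.map π ≤ A'.map π ↔ A ≤ A' ⊔ Y := by
    intro A A'
    rw [Subgroup.map_le_map_iff, kπ]
  obtain ⟨S, hS⟩ := (map_top_of_surjective π hπ ▸ hB.map π).exists_sylow_top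
  have eE : E.map π = 𝐎[2, (⊤ : Subgroup (G ⧸ Y))] := by
    rw [hE, map_pRes, map_top_of_surjective π hπ]
  have : (Q.map π).Normal := hQ.map π hπ
  have core : pCore 2 (G ⧸ Y) = Q.map π := by
    refine le_antisymm ?_ (le_pCore' (pQ.map π))
    rcases di ((pCore 2 (G ⧸ Y)).comap π) inferInstance with h | h
    · rw [← map_comap_eq_self_of_surjective hπ (pCore 2 _), cm, sup_comm, eQ,
        ← sup_inf_of_le_normalizer' YW le_normalizer_of_normal, sup_comm]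
      refine le_inf (cm.1 ?_) h
      rw [map_comap_eq_self_of_surjective hπ, ← hS, ← pCoreOf_top]
      exact (isSyl_top S).pCoreOf_le
    · have h1 := pRes_eq_bot ((isPGroup_pCore' 2 _).to_le (map_le_iff_le_comap.2 h))
      rw [eE, pRes_pRes, ← eE, Subgroup.map_eq_bot_iff, kπ] at h1
      exact (nc (le_centralizer_iff.1 (h1.trans YW))).elim
  obtain ⟨n, -, hn⟩ := FiniteField.card F 2
  obtain ⟨h1, D, -⟩ := Stell.pushing_up_one (p := 2) (by decide) S (by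
      rw [core]
      intro g hg
      obtain ⟨g, rfl⟩ := hπ g
      refine cm.2 CY (mem_map_of_mem π ⟨le_normalizer_of_normal (mem_top g), fun a ha => ?_⟩)
      refine YB.le ⟨QB (commutator_le_right ⊤ Q (commutator_mem_commutator (mem_top g) ha)),
        kπ.le ?_⟩
      rw [MonoidHom.mem_ker, map_commutatorElement,
        commutatorElement_eq_one_iff_mul_comm, hg _ (mem_map_of_mem π ha)]) (by
      have h3 : M.map π ≠ ⊤ := fun h => hM (top_le_iff.1 ((cm.1 (le_top.trans h.ge)).trans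
        (sup_le le_rfl (YW.trans kM))))
      have h4 : (S : Subgroup (G ⧸ Y)) ≤ M.map π := hS ▸ map_mono BM
      have h5 : ∀ Z : Subgroup (G ⧸ Y), S ≤ Z → Z ≠ ⊤ → Z ≤ M.map π := fun Z h h' => by
        rw [← map_comap_eq_self_of_surjective hπ Z]
        refine map_mono (hM' _ (map_le_iff_le_comap.1 (hS ▸ h)) fun e => h' ?_)
        rw [← map_comap_eq_self_of_surjective hπ Z, e, map_top_of_surjective π hπ]
      refine ⟨_, ⟨⟨h3, fun Z hZ => ?_⟩, h4⟩, fun Z hZ => ?_⟩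
      · by_contra h
        exact hZ.not_ge (h5 Z (h4.trans hZ.le) h)
      · exact ((hZ.1.le_iff.1 (h5 Z hZ.2 hZ.1.1)).resolve_left h3).symm)
    (QuotientGroup.lift Y ρ (YW.trans hk)).ker hn
    ⟨QuotientGroup.quotientKerEquivOfSurjective _ fun y => (hρ y).elim fun g hg => ⟨π g, hg⟩⟩
    fun T h0 hT hn => by
      have a1 : (T.map (S : Subgroup (G ⧸ Y)).subtype).comap π ≤ 𝐂[W] := by
        refine le_trans (cm.1 ?_) (sup_le (eQ.le.trans inf_le_right) YW)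
        rw [map_comap_eq_self_of_surjective hπ, ← core]
        exact le_pCore' (S.isPGroup'.to_le (map_subtype_le T))
      have a2 : B ⊓ (T.map (S : Subgroup (G ⧸ Y)).subtype).comap π =
          Q ⊓ (T.map (S : Subgroup (G ⧸ Y)).subtype).comap π := by
        rw [eQ, inf_assoc, inf_eq_right.2 a1]
      have a3 := xm ⟨pu_ch π x1 (by rw [kπ, YB]) hS hT, a2 ▸ inferInstance⟩ (le_inf x1.le
        (((YB.ge.trans inf_le_right).trans kπ.ge).trans (ker_le_comap _ _)))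
      refine h0 (eq_bot_iff.2 fun t ht => ?_)
      obtain ⟨b, hb, e⟩ := hS.le t.2
      have a4 : b ∈ π.ker := kπ.ge (YB.ge (a3 ⟨hb, t, ht, e.symm⟩)).2
      exact Subtype.ext (e.symm.trans a4)
  rw [core, ← pRes_top, ← eE, ← map_commutator] at h1
  have h2 := Stell.le_sup_of_pRes (p := 2) D (Y := (⁅W, E⁆).map π)
    ((map_mono (commutator_mono WQ le_rfl)).trans h1)
    (haveI := (inferInstance : (⁅W, E⁆).Normal).map π hπ; le_normalizer_of_normal) fun h => by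
      have a1 : (⁅⁅W, E⁆, E⁆).map π = ⊥ := by
        rw [map_commutator, commutator_eq_bot_iff_le_centralizer]
        exact h.trans (inf_le_right.trans (center_le_centralizer _))
      rw [cc (pQ.to_le WQ), Subgroup.map_eq_bot_iff, kπ] at a1
      exact nX ((le_inf ((commutator_le_left W E).trans WB) a1).trans YB.le)
  have h3 : (⁅⁅Q, E⁆, E⁆).map π ≤ W.map π := by
    have := (inferInstance : W.Normal).map π hπ
    rw [map_commutator, Subgroup.commutator_comm]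
    refine (commutator_mono le_rfl (h1.trans h2)).trans (CP.commutator_sup_le le_normalizer_of_normal
      le_normalizer_of_normal ?_ ?_)
    · rw [← map_commutator]
      exact map_mono ((commutator_le_right _ _).trans (commutator_le_left W E))
    · rw [Subgroup.commutator_comm, commutator_eq_bot_iff_le_centralizer.2
        (inf_le_right.trans (center_le_centralizer _))]
      exact bot_le
  rw [cc pQ, cm] at h3
  have h4 : ⁅Q, E⁆ ≤ W ⊔ X := by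
    rw [← YB, inf_comm, ← sup_inf_of_le_normalizer WB le_normalizer_of_normal]
    exact le_inf h3 ((commutator_le_left Q E).trans QB)
  rw [← cc pQ, Subgroup.commutator_comm]
  refine (commutator_mono le_rfl h4).trans (CP.commutator_sup_le le_normalizer_of_normal
    le_normalizer_of_normal (commutator_le_right E W) ?_)
  rw [Subgroup.commutator_comm, XE]
  exact bot_le

theorem Lc.pu_le (h : Lc T R W L D) {N X : Subgroup G} (hN : N ≤ L ⊓ 𝐂[W]) (h1 : 𝐁[2, T] ≤ X)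
    (h2 : N ⊔ X = L) : X = L := by
  have h3 : X ≤ L := le_sup_right.trans h2.le
  refine h.min X h1 h3 ?_
  rw [← h.imL, ← congrArg D.im h2, D.im_sup ((hN.trans inf_le_left).trans h.LN) (h3.trans h.LN),
    (D.im_eq_bot_iff ((hN.trans inf_le_left).trans h.LN)).2
      ((hN.trans inf_le_right).trans D.centralizer_le_ker), bot_sup_eq]

theorem Lc.pu_di (h : Lc T R W L D) {N : Subgroup G} (h1 : N ≤ L) (h2 : L ≤ 𝐍[N]) :
    N ≤ 𝐂[W] ∨ 𝐎[2, L] ≤ N := by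
  by_cases h3 : D.im N ⊔ Ui F = (slG F).range
  · have h4 := h.min _ le_sup_right (sup_le h1 h.syl.le)
      (by rw [D.im_sup (h1.trans h.LN) (h.syl.le.trans h.LN), h.imB, h3])
    exact Or.inr (h4 ▸ pRes_sup_le h.syl.pgrp (h.syl.le.trans h2))
  · exact Or.inl ((le_inf h1 ((D.im_eq_bot_iff (h1.trans h.LN)).1 (normal_eq_bot
      (h.imL ▸ D.im_mono h1) (h.imL ▸ D.im_le_normalizer h2) h3))).trans h.ker)

/-- `Q_B = B ⊓ K₀` is Sylow in `K₀ ⊴ L`; Frattini `L = K₀ N_L(Q_B)`; `N_L(Q_B) ≥ B` has full image, so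
it is `L` by `min`.  `C_W(E) = W ⊓ 𝐂[L]` by `sl_facts` (`im_pRes`, `inf_centralizer_le_pre`). -/
theorem Lc.nQ (h : Lc T R W L D) : L ≤ 𝐍[𝐁[2, T] ⊓ 𝐂[W]] ∧ W ⊓ 𝐂[𝐎[2, L]] ≤ 𝐂[L] ∧
    ¬ W ≤ 𝐂[L] ∧ L = 𝐎[2, L] ⊔ 𝐁[2, T] := by
  have hW : L ≤ 𝐍[𝐂[W]] := le_normalizer_centralizer (h.LN.trans D.N_le)
  refine ⟨?_, ?_, fun h1 => h.off (((thompson_le_baumann T).trans h.syl.le).trans
    (le_centralizer_iff.1 h1)), h.syl.pRes_sup.symm⟩
  · have h1 := (h.syl.inf hW).frattini_sup inf_le_left (le_normalizer_inf le_normalizer hW)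
    exact (h.pu_le le_rfl (le_inf h.syl.le (le_normalizer_inf le_normalizer (h.syl.le.trans hW)))
      h1).ge.trans inf_le_right
  · have h1 := D.inf_centralizer_le_pre ((pRes_le 2 L).trans h.LN)
    rw [D.im_pRes h.LN, h.imL, sl_facts.2.2, D.pre_bot] at h1
    exact h1.trans inf_le_right

/-- Let `X` be the join of all `Y` with `Ch B Y`, `L ≤ 𝐍[Y]` (again `Ch B X`, `L ≤ 𝐍[X]`).  Suppose
`X ≰ 𝐂[E]`.  `C = L ⊓ 𝐂[X] ⊴ L`.  If `D.im C ⊔ Ui F = SL` then `C ⊔ B = L` by `min`, so `E ≤ C`, absurd.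
So `D.im C = ⊥` (`normal_eq_bot`).  `X₁ = X ⊔ (B ⊓ 𝐂[X])` is characteristic in `B` and Sylow in
`X C ⊴ L`; Frattini `L = C N_L(X₁)`, `N_L(X₁) ≥ B` has full image, so `L ≤ 𝐍[X₁]`, `X₁ ≤ X`. -/
theorem Lc.xc (h : Lc T R W L D)
    (hX : ∀ X, Ch 𝐁[2, T] X → L ≤ 𝐍[X] → 𝐁[2, T] ⊓ 𝐂[X] ≤ X → False) :
    ∀ X, Ch 𝐁[2, T] X → L ≤ 𝐍[X] → X ≤ 𝐂[𝐎[2, L]] := by
  intro X₀ c0 n0
  by_contra h0
  obtain ⟨X, h1, ⟨x1, x2⟩, xm⟩ := Finite.exists_le_maximal
    (p := fun X => Ch 𝐁[2, T] X ∧ L ≤ 𝐍[X]) ⟨c0, n0⟩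
  have nC : L ≤ 𝐍[L ⊓ 𝐂[X]] := le_normalizer_inf le_normalizer (le_normalizer_centralizer x2)
  have h2 := (h.pu_di inf_le_left nC).resolve_right fun h2 =>
    h0 (h1.trans (le_centralizer_iff.1 (h2.trans inf_le_right)))
  have h3 : 𝐁[2, T] ⊓ 𝐂[X] = 𝐁[2, T] ⊓ 𝐂[W] ⊓ (L ⊓ 𝐂[X]) := by
    rw [inf_assoc, inf_eq_right.2 h2, ← inf_assoc, inf_eq_left.2 h.syl.le]
  refine hX X x1 x2 (le_sup_right.trans (xm ⟨⟨sup_le x1.le inf_le_left, ?_⟩,
    le_normalizer_sup x2 (h3 ▸ le_normalizer_inf h.nQ.1 nC)⟩ le_sup_left))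
  have := x1.char
  rw [subgroupOf_sup x1.le inf_le_left, inf_subgroupOf_left, ← centralizer_subgroupOf x1.le]
  infer_instance

/-- `X` = the largest characteristic subgroup of `B` normal in `L`, `O = O_{2'}(L)`, `Y = X O`,
`L̄ = ↥L ⧸ Y`, `B̄ ≅ B / X` Sylow.
* `O₂(L̄) = Q̄_B` (`O₂(SL₂(F)) = 1` by `normal_eq_bot`+`sl_facts`; `Y ≤ K₀`: `[W, O] ≤ W ⊓ O = ⊥`).
* Characteristic 2: let `C = {g ∈ L | ⁅g, Q_B⁆ ≤ X}` (= preimage of `C(Q̄_B)`, as `Y ⊓ Q_B = X`).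
  `W ≤ Q_B`, `W ⊓ X ≤ W ⊓ 𝐂[E] ≤ 𝐂[L]`, so `C ≤ K₀`, whose Sylow 2-subgroup `Q_B` is normal.  `O²(C) ≤ E`
  centralises `X` and `Q_B / X`, hence `Q_B` (`CP.pRes_le_centralizer_of_commutator_le`); so `O²(C)`
  has a central Sylow 2-subgroup and is `O²` of itself, so it has odd order and lies in `O`; thus
  `C ≤ Q_B O`.
* Unique maximal subgroup over `B̄`: a proper `B ≤ X' < L` has `D.im X' ≠ SL` (`min`), so
  `X' ≤ L ⊓ D.cmp 𝐍[Ui F] ≠ L` (`le_norm_Ui`).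
* `L̄ / K̄₀ ≃* SL₂(F) ≃* PSL₂(F)` (trivial centre in characteristic 2).
* A characteristic subgroup of `B̄` normal in `L̄` pulls back to `X ≤ X' ≤ B`, `Ch B X'`; `L` normalises
  `X' O`, and `X' ≤ O₂`-preimage `Q_B O`, so `X' = X' O ⊓ Q_B ⊴ L`; so `X' = X`.
`Stell.pushing_up_one` (`PLocal/StellOne`): `[O₂(L̄), O²(L̄)] ≤ Z̄v` and `Z̄v / (Z̄v ⊓ Z(L̄))` is a chief
factor (`NatData.isChiefFactor`).  `[W̄, Ē] ≤ Z̄v ⊓ W̄` is normal and not central, so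
`Z̄v = (Z̄v ⊓ W̄)(Z̄v ⊓ Z)`, `[Q̄, Ē] = [Q̄, Ē, Ē] ≤ [Z̄v, Ē] ≤ W̄`.  Hence `[Q_B, E] ≤ W Y ⊓ Q_B = W X` and
`[Q_B, E] = [Q_B, E, E] ≤ [W X, E] ≤ W`. -/
theorem Lc.push (h : Lc T R W L D)
    (hX : ∀ X, Ch 𝐁[2, T] X → L ≤ 𝐍[X] → X ≤ 𝐂[𝐎[2, L]]) :
    ⁅𝐁[2, T] ⊓ 𝐂[W], 𝐎[2, L]⁆ ≤ W := by
  obtain ⟨n1, n2, n3, -⟩ := h.nQ
  have WL := h.WB.trans h.syl.le
  have hf := L.subtype_injective
  have eL : (⊤ : Subgroup L).map L.subtype = L := by rw [← MonoidHom.range_eq_map, range_subtype]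
  have eE : (𝐎[2, (⊤ : Subgroup L)]).map L.subtype = 𝐎[2, L] := by rw [pRes_map_subtype, eL]
  have eE' : 𝐎[2, (⊤ : Subgroup L)] = (𝐎[2, L]).subgroupOf L := by rw [pRes_top, pRes_subgroupOf]
  have := normal_subgroupOf' (h.LN.trans D.N_le)
  have eQ : (𝐁[2, T]).subgroupOf L ⊓ 𝐂[W.subgroupOf L] = (𝐁[2, T] ⊓ 𝐂[W]).subgroupOf L := by
    rw [centralizer_subgroupOf WL]; rfl
  obtain ⟨P, hP⟩ := h.syl.exists_sylow
  obtain ⟨ρ, r1, r2⟩ := D.exists_hom (slG_injective F) h.LN (R := ⊤)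
    (h.imL.trans (MonoidHom.range_eq_map _))
  have h1 := pu_abs (F := F) (B := (𝐁[2, T]).subgroupOf L) (W := W.subgroupOf L)
    (M := (D.cmp 𝐍[Ui F]).subgroupOf L) rfl (hP ▸ isSyl_top P)
    ⟨⟨⟨fun a b => Subtype.ext (Subtype.ext (elemAb_comm h.ea a.2 b.2))⟩⟩,
      fun a ha => Subtype.ext (h.ea.2 _ ha)⟩ (comap_mono h.WB) (eQ ▸ normal_subgroupOf' n1)
    (fun N hN => (h.pu_di (map_subtype_le N) (le_normalizer_map_subtype N)).imp
      (fun h1 => centralizer_subgroupOf WL ▸ map_le_iff_le_comap.1 h1)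
      fun h1 => (map_le_map_iff_of_injective hf).1 (eE ▸ h1))
    (fun h1 => n3 ((le_inf le_rfl ?_).trans n2)) (fun h1 => ?_) (fun X h1 h2 x hx => ?_)
    (fun x hx => D.mem_cmp.2 ⟨h.LN x.2, le_normalizer (h.imB ▸ D.act_mem_im hx)⟩) (fun x hx => ?_)
    ((QuotientGroup.mk' _).comp ρ) ((QuotientGroup.mk'_surjective _).comp (MonoidHom.range_eq_top.1 r1))
    (fun x hx => ?_) fun X h1 h2 => ?_
  · have h2 := map_mono (f := L.subtype) h1
    rwa [map_commutator, eQ, eE, map_subgroupOf_of_le WL,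
      map_subgroupOf_of_le (inf_le_left.trans h.syl.le)] at h2
  · rwa [eE', centralizer_subgroupOf (pRes_le 2 L), subgroupOf_le_iff, inf_eq_left.2 WL,
      subgroupOf_map_subtype, le_inf_iff, and_iff_left WL] at h1
  · have h2 : (slG F).range ≤ 𝐍[Ui F] := h.imL ▸ (D.im_le_iff h.LN).2 fun x hx =>
      (D.mem_cmp.1 (h1.ge (mem_top (⟨x, hx⟩ : L)))).2
    have h3 := normal_eq_bot (N := Ui F) (map_le_range _ _) h2 fun e => sl_facts.1 (by
      rw [← e, sup_idem, ← h.imB]; exact D.isPGroup_im h.syl.pgrp)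
    rw [← h.imB, D.im_eq_bot_iff (h.syl.le.trans h.LN)] at h3
    exact h.off (((thompson_le_baumann T).trans (le_inf h.syl.le h3)).trans h.ker)
  · have h3 : 𝐁[2, T] ≤ X.map L.subtype := map_subgroupOf_of_le h.syl.le ▸ map_mono h1
    refine D.mem_cmp.2 ⟨h.LN x.2, le_norm_Ui (h.imB ▸ D.im_mono h3)
      (h.imL ▸ D.im_mono (map_subtype_le X)) (fun e => h2 ?_) (D.act_mem_im (mem_map_of_mem _ hx))⟩
    exact map_injective hf ((h.min _ h3 (map_subtype_le X) e).trans eL.symm)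
  · rw [centralizer_subgroupOf WL] at hx
    exact D.mem_cmp.2 ⟨h.LN x.2, (D.mem_ker.1 (D.centralizer_le_ker hx)).2 ▸ one_mem _⟩
  · rw [centralizer_subgroupOf WL] at hx
    rw [MonoidHom.mem_ker, MonoidHom.comp_apply, slG_injective F ((r2 x).trans
      ((D.mem_ker.1 (D.centralizer_le_ker hx)).2.trans (map_one _).symm)), map_one]
  · have h3 := (ch_map_iff hf).2 h1
    rw [map_subgroupOf_of_le h.syl.le] at h3
    rw [eE', centralizer_subgroupOf (pRes_le 2 L)]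
    exact map_le_iff_le_comap.1 (hX _ h3 (le_normalizer_map_subtype X))

end Cfsg.Agent.NFS
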