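import Cfsg.Agent.NFS.Fld
import Cfsg.Agent.NFS.Api

/-!
# API for rank one data

`Q₀ = J ⊓ 𝐂[W]`, `Z₀ = 𝐙[J]`, `Z_W = ⁅W, J⁆`, `E = 𝐎[2, L]`, `W₀ = W ⊓ 𝐂[L]`, `ℓ̂ = W ⊓ 𝐂[J]`.
Key computation (cf. `Ex.member_full`, `PLocal/BkExR`): for `A ∈ maxEA 2 J`, `A ≰ 𝐂[W]`:
`q ≤ |W : C_W(A)| ≤ |A : C_A(W)| ≤ q` (`C_W(A) ≤ D.pre (ln F)` of index `q`;
`relIndex_le_of_member`; `A ⊓ D.ker = A ⊓ 𝐂[W]`).  So `D.im A = Ui F`, `J = A Q₀`,
`C_W(J) = C_W(A) = D.pre (ln F)`.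
-/

set_option autoImplicit false
set_option linter.unusedSectionVars false

namespace Cfsg.Agent.NFS

open Cfsg.Agent.PLocal hiding centralizer_anti
open Subgroup Cfsg Cfsg.Agent.PLocal.Amb Cfsg.Agent.PLocal.TV
open Cfsg.Agent.PLocal.SL2Nat Cfsg.Agent.PLocal.Bk
open Cfsg.Agent.PLocal.CP (IsCharP MinOver ncl secCent)
open Cfsg.Agent.Solv.Ext (Inv)
open Cfsg.Agent.QT.Qrc (P2)
open scoped commutatorElement MatrixGroups Cfsg.Agent.PLocal.CP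

variable {G : Type*} [Group G] [Finite G] {J W L A : Subgroup G} {q : ℕ}

section Aux

variable {F : Type} [Field F] [Fintype F] [CharP F 2] {W₀ : Subgroup G}

theorem rkA_ker (D : SD (Fin 2 → F) W W₀) (hk : L ⊓ D.ker ≤ 𝐂[W]) {X : Subgroup G} (hX : X ≤ L) :
    X ⊓ D.ker = 𝐂[W] ⊓ X := le_antisymm
  (le_inf ((inf_le_inf_right _ hX).trans hk) inf_le_left)
  (le_inf inf_le_right (inf_le_left.trans D.centralizer_le_ker))

theorem rkA_idx (D : SD (Fin 2 → F) W W₀) (hN : L ≤ D.N) (hk : L ⊓ D.ker ≤ 𝐂[W])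
    {X : Subgroup G} (hX : X ≤ L) : Nat.card (D.im X) = (𝐂[W]).relIndex X := by
  have h1 := D.card_im_mul (hX.trans hN)
  rw [rkA_ker D hk hX, ← card_inf_mul_relIndex 𝐂[W] X, mul_comm] at h1
  exact Nat.eq_of_mul_eq_mul_left Nat.card_pos h1

theorem rkA_ne (D : SD (Fin 2 → F) W W₀) (hN : L ≤ D.N) (hk : L ⊓ D.ker ≤ 𝐂[W]) {u : G}
    (hu : u ∈ L) (hu' : u ∉ 𝐂[W]) : D.act u ≠ 1 := fun k =>
  hu' (hk ⟨hu, D.mem_ker.2 ⟨hN hu, k⟩⟩)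

theorem rkA_dec (D : SD (Fin 2 → F) W W₀) (hN : L ≤ D.N) (hk : L ⊓ D.ker ≤ 𝐂[W])
    {X Y : Subgroup G} (hX : X ≤ L) (hY : Y ≤ X) (h : D.im X ≤ D.im Y) {x : G} (hx : x ∈ X) :
    ∃ y ∈ Y, ∃ k ∈ X ⊓ 𝐂[W], x = y * k := by
  obtain ⟨y, hy, -, k, hk', e⟩ := D.exists_mul_ker (hN (hX hx)) (h (D.act_mem_im hx))
  have : k ∈ X := by
    rw [show k = y⁻¹ * x by rw [e]; group]
    exact X.mul_mem (X.inv_mem (hY hy)) hx
  exact ⟨y, hy, k, ⟨this, hk ⟨hX this, hk'⟩⟩, e⟩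

theorem rkA_mem (h : Rk J W L q) (D : SD (Fin 2 → F) W W₀) (hN : L ≤ D.N) (hB : D.im J = Ui F)
    (hk : L ⊓ D.ker ≤ 𝐂[W]) (hA : A ∈ maxEA 2 J) (hn : ¬ A ≤ 𝐂[W]) :
    D.im A = Ui F ∧ (𝐂[W]).relIndex A = Nat.card F ∧ (𝐂[A]).relIndex W = Nat.card F ∧
      W ⊓ 𝐂[A] = D.pre (ln F) := by
  have hAL := hA.1.trans h.JL
  have hAN := hAL.trans hN
  have h2 := rkA_idx D hN hk hAL
  have hle := (D.im_mono hA.1).trans hB.le
  have h3 := PLocal.card_le_card_of_le hle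
  obtain ⟨a, ha, ha'⟩ := SetLike.not_le_iff_exists.1 hn
  have h4 : 𝐂[A] ⊓ W ≤ D.pre (ln F) := by
    rw [inf_comm, ← fx_zpowers_of_mem_Ui (hle (D.act_mem_im ha)) (rkA_ne D hN hk (hAL ha) ha')]
    exact (D.inf_centralizer_le_pre hAN).trans
      (D.pre_mono (fx_anti (zpowers_le.2 (D.act_mem_im ha))))
  have h5 := Ex.le_relIndex D h4
  rw [card_ln] at h5
  have h6 := Nat.le_of_mul_le_mul_left h5 Nat.card_pos
  have h7 := relIndex_le_of_member hA h.ea h.WJ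
  rw [card_Ui] at h3
  have h8 : (𝐂[A]).relIndex W = Nat.card F := by omega
  refine ⟨PLocal.eq_of_le_of_card_le hle (by rw [card_Ui]; omega), by omega, h8, ?_⟩
  rw [inf_comm]
  refine PLocal.eq_of_le_of_card_le h4 (Nat.le_of_mul_le_mul_right (c := Nat.card F) ?_ Nat.card_pos)
  have k1 := card_inf_mul_relIndex 𝐂[A] W
  have k2 := D.card_mul
  rw [h8] at k1
  rw [k1, ← k2, ← D.card_pre, card_ln, PL.card_V]
  exact le_of_eq (by ring)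

theorem rkA_ln {s : GA (Fin 2 → F)} (hs : Ui F ⊔ cj(s, Ui F) = (slG F).range) {v : Fin 2 → F}
    (h1 : v ∈ ln F) (h2 : s⁻¹ • v ∈ ln F) : v = 0 := by
  rw [← fx_Ui] at h1 h2
  rw [← AddSubgroup.mem_bot, ← Ex.fx_range, ← hs, fx_sup]
  exact ⟨h1, mem_fx_cj.2 h2⟩

/-- `⁅t, s⁆` has no fixed vector -/
theorem rkA_fpf {s t : GA (Fin 2 → F)} (hs : Ui F ⊔ cj(s, Ui F) = (slG F).range) (ht : t ∈ Ui F)
    (h1 : t ≠ 1) {v : Fin 2 → F} (h : ⁅t, s⁆ • v = v) : v = 0 := by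
  have ht' := (Ui F).inv_mem ht
  have e : s⁻¹ • dl t⁻¹ v = dl t⁻¹ (s⁻¹ • v) := by
    rw [dl_apply, dl_apply, smul_sub]
    congr 1
    conv_lhs => rw [← h]
    rw [smul_smul, smul_smul, smul_smul, commutatorElement_def]
    congr 1
    group
  have k : ∀ w, dl t⁻¹ w ∈ ln F := fun w => cm_Ui (F := F) ▸ dl_mem_cm ht' w
  have k0 := rkA_ln hs (k v) (e ▸ k _)
  have k1 : ∀ w, dl t⁻¹ w = 0 → w ∈ ln F := fun w hw => by
    rw [← fx_zpowers_of_mem_Ui ht' (inv_ne_one.2 h1)]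
    exact mem_fx_zpowers.2 (TV.dl_eq_zero.1 hw)
  exact rkA_ln hs (k1 _ k0) (k1 _ (by rw [← e, k0, smul_zero]))

theorem rkA_fpf_pow {σ : GA (Fin 2 → F)} (h : ∀ v : Fin 2 → F, σ • v = v → v = 0) (k : ℕ) :
    ∀ v : Fin 2 → F, σ ^ 2 ^ k • v = v → v = 0 := by
  induction k with
  | zero => simpa using h
  | succ k ih =>
    intro v hv
    rw [pow_succ, pow_mul, pow_two, mul_smul] at hv
    have h2 : ∀ w : Fin 2 → F, w + w = 0 := fun w => by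
      rw [← two_nsmul]; exact PL.p_smul (p := 2) w
    have := ih (σ ^ 2 ^ k • v + v) (by rw [smul_add, hv, add_comm])
    refine ih v ?_
    rw [eq_neg_of_add_eq_zero_left this, neg_eq_of_add_eq_zero_left (h2 v)]

end Aux

theorem Rk.map {G' : Type*} [Group G'] [Finite G'] {f : G →* G'} (hf : Function.Injective f)
    (h : Rk J W L q) : Rk (J.map f) (W.map f) (L.map f) q := by
  obtain ⟨F, _, _, _, D, hq, hN, hL, hB, hk, hH⟩ := h.sd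
  obtain ⟨t1, -, t3, t4⟩ := SD.transfer hf D (D.push hf) (D.push_ψ hf)
  refine ⟨h.pg.map f, by rw [← map_thompsonSubgroupOf J hf, h.jj], map_mono h.WJ, map_mono h.JL,
    isEA_map h.ea f, ?_, ?_, ?_, F, inferInstance, inferInstance, inferInstance,
    (D.push hf).cast rfl (map_Zs hf W L), hq, ?_, ?_, ?_, ?_, ?_⟩
  · rw [← map_pRes' hf, ← Subgroup.map_sup]; exact map_mono h.gen
  · rw [← map_Zs hf, ← map_pRes' hf, ← map_commutator]; exact map_mono h.cm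
  · rw [← map_commutator]; exact map_mono h.wl
  · rw [SD.cast_N]
    rintro _ ⟨x, hx, rfl⟩
    exact (t1 x).2 (hN hx)
  · rw [SD.cast_im, t4, hL]
  · rw [SD.cast_im, t4, hB]
  · rw [SD.cast_ker]
    rintro _ ⟨⟨x, hx, rfl⟩, hy⟩
    exact (mem_centralizer_map hf).2 (hk ⟨hx, (t3 x).1 hy⟩)
  · rw [SD.cast_im]
    refine hH.trans ((t4 _).ge.trans (SD.im_mono _ ?_))
    exact le_inf (map_mono inf_le_left) ((map_mono inf_le_right).trans (le_normalizer_map f))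

theorem Rk.cj (h : Rk J W L q) {g : G} (hg : g ∈ 𝐍[J]) : Rk J cj(g, W) cj(g, L) q := by
  have := h.map (conj_inj g)
  rwa [cj_of_mem_normalizer hg] at this

theorem Rk.two_le (h : Rk J W L q) : 2 ≤ q := by
  obtain ⟨F, _, _, _, D, hq, -⟩ := h.sd
  rw [← hq]
  exact Finite.one_lt_card

theorem Rk.nW (h : Rk J W L q) : L ≤ 𝐍[W] := by
  obtain ⟨F, _, _, _, D, hq, hN, -⟩ := h.sd
  exact hN.trans D.N_le

/-- `J = J(J) ≰ 𝐂[W]` -/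
theorem Rk.exA (h : Rk J W L q) : ∃ A ∈ maxEA 2 J, ¬ A ≤ 𝐂[W] := by
  obtain ⟨F, _, _, _, D, hq, hN, hL, hB, hk, hH⟩ := h.sd
  by_contra k
  push Not at k
  have k1 : J ≤ 𝐂[W] := h.jj.ge.trans (thompsonSubgroupOf_le_iff.2 k)
  have k2 := (D.im_eq_bot_iff (h.JL.trans hN)).2 (k1.trans D.centralizer_le_ker)
  exact PL.uu_ne_one (mem_bot.1 ((hB.symm.trans k2).le (PL.uu_mem_Ui (1 : F))))

theorem Rk.full (h : Rk J W L q) (hA : A ∈ maxEA 2 J) (hn : ¬ A ≤ 𝐂[W]) :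
    A ⊔ (J ⊓ 𝐂[W]) = J ∧ (𝐂[W]).relIndex A = q ∧ W ⊓ 𝐂[A] = W ⊓ 𝐂[J] ∧
      (A ⊓ 𝐂[W]) ⊔ W ∈ maxEA 2 J ∧ ⁅W, A⁆ = ⁅W, J⁆ := by
  obtain ⟨F, _, _, _, D, hq, hN, hL, hB, hk, hH⟩ := h.sd
  obtain ⟨a1, a2, a3, -⟩ := rkA_mem h D hN hB hk hA hn
  have dec := fun x hx => rkA_dec D hN hk h.JL hA.1 (hB.trans a1.symm).le (x := x) hx
  have e : A ⊔ (J ⊓ 𝐂[W]) = J := le_antisymm (sup_le hA.1 inf_le_left) fun x hx => by
    obtain ⟨y, hy, k, hk', rfl⟩ := dec x hx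
    exact mul_mem_sup hy hk'
  refine ⟨e, a2.trans hq, le_antisymm (le_inf inf_le_left ?_)
    (inf_le_inf_left _ (Amb.centralizer_anti hA.1)),
    member_replace hA h.ea h.WJ (a2.trans a3.symm).le,
    le_antisymm (commutator_mono le_rfl hA.1) (commutator_le.2 fun w hw x hx => ?_)⟩
  · rw [← e, Amb.centralizer_sup]
    exact le_inf inf_le_right (inf_le_left.trans (cent_symm inf_le_right))
  · obtain ⟨y, hy, k, hk', rfl⟩ := dec x hx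
    have := mem_centralizer_iff.1 hk'.2 _ (W.inv_mem hw)
    have e2 : ⁅w, y * k⁆ = ⁅w, y⁆ := by
      rw [commutatorElement_def, commutatorElement_def]
      calc _ = w * y * (k * w⁻¹) * k⁻¹ * y⁻¹ := by group
        _ = _ := by rw [← this]; group
    rw [e2]
    exact commutator_mem_commutator hw hy

theorem rkA_pre {F : Type} [Field F] [Fintype F] [CharP F 2] {W₀ : Subgroup G} (h : Rk J W L q)
    (D : SD (Fin 2 → F) W W₀) (hN : L ≤ D.N) (hB : D.im J = Ui F) (hk : L ⊓ D.ker ≤ 𝐂[W]) :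
    W ⊓ 𝐂[J] = D.pre (ln F) := by
  obtain ⟨A, hA, hn⟩ := h.exA
  rw [← (h.full hA hn).2.2.1, (rkA_mem h D hN hB hk hA hn).2.2.2]

theorem Rk.idx (h : Rk J W L q) : (𝐂[W]).relIndex J = q ∧ (𝐂[J]).relIndex W = q ∧
    (𝐂[L]).relIndex (W ⊓ 𝐂[J]) = q := by
  obtain ⟨F, _, _, _, D, hq, hN, hL, hB, hk, hH⟩ := h.sd
  obtain ⟨A, hA, hn⟩ := h.exA
  refine ⟨by rw [← rkA_idx D hN hk h.JL, hB, card_Ui, hq], ?_, ?_⟩
  · rw [← inf_relIndex_right, inf_comm, ← (h.full hA hn).2.2.1, inf_comm, inf_relIndex_right,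
      (rkA_mem h D hN hB hk hA hn).2.2.1, hq]
  · have k1 := card_inf_mul_relIndex 𝐂[L] (W ⊓ 𝐂[J])
    have k2 := D.card_pre (ln F)
    rw [← rkA_pre h D hN hB hk, card_ln, hq, mul_comm] at k2
    rw [show 𝐂[L] ⊓ (W ⊓ 𝐂[J]) = W ⊓ 𝐂[L] from le_antisymm
      (le_inf (inf_le_right.trans inf_le_left) inf_le_left)
      (le_inf inf_le_right (inf_le_inf_left _ (Amb.centralizer_anti h.JL)))] at k1
    exact Nat.eq_of_mul_eq_mul_left Nat.card_pos (k1.trans k2.symm)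

/-- `C_W(E) = W₀` (`sl_facts`) -/
theorem Rk.cE (h : Rk J W L q) : W ⊓ 𝐂[𝐎[2, L]] ≤ 𝐂[L] := by
  obtain ⟨F, _, _, _, D, hq, hN, hL, hB, hk, hH⟩ := h.sd
  have := D.inf_centralizer_le_pre ((pRes_le 2 L).trans hN)
  rw [D.im_pRes hN, hL, sl_facts.2.2, D.pre_bot] at this
  exact this.trans inf_le_right

/-- a nontrivial element of `Ui F` fixes only `ln F` -/
theorem Rk.cent_elt (h : Rk J W L q) {u w : G} (hu : u ∈ J) (hu' : u ∉ 𝐂[W]) (hw : w ∈ W)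
    (e : ⁅u, w⁆ ∈ 𝐂[𝐎[2, L]]) : w ∈ 𝐂[J] := by
  obtain ⟨F, _, _, _, D, hq, hN, hL, hB, hk, hH⟩ := h.sd
  have huN := hN (h.JL hu)
  have k1 := D.comm_mem_U huN hw
  have k2 := (D.act_smul_eq_iff huN hw).2 ⟨k1, h.cE ⟨k1, e⟩⟩
  have k3 : w ∈ D.pre (ln F) := ⟨hw, by
    rw [← fx_zpowers_of_mem_Ui (hB.le (D.act_mem_im hu)) (rkA_ne D hN hk (h.JL hu) hu')]
    exact mem_fx_zpowers.2 k2⟩
  exact ((rkA_pre h D hN hB hk).ge k3).2

/-- `Z_W` maps onto `ln F` (`sub_commutator`, `pre_cm`) -/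
theorem Rk.zw (h : Rk J W L q) : ⁅W, J⁆ ≤ W ⊓ 𝐙[J] ∧ ¬ ⁅W, J⁆ ≤ 𝐂[𝐎[2, L]] ∧
    ⁅W, J⁆ ⊔ (W ⊓ 𝐂[L]) = W ⊓ 𝐂[J] ∧ W ⊓ 𝐂[J] ≤ 𝐙[J] := by
  obtain ⟨F, _, _, _, D, hq, hN, hL, hB, hk, hH⟩ := h.sd
  have k1 := D.pre_cm (h.JL.trans hN)
  rw [hB, cm_Ui] at k1
  have k2 := rkA_pre h D hN hB hk
  have k3 : W ⊓ 𝐂[J] ≤ 𝐙[J] :=
    CP.le_omegaZ (isEA_mono h.ea inf_le_left) (inf_le_left.trans h.WJ) inf_le_right
  have k4 : ⁅W, J⁆ ≤ W ⊓ 𝐂[J] := le_sup_left.trans (k2.trans k1).ge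
  refine ⟨k4.trans (le_inf inf_le_left k3), fun c => ?_, (k2.trans k1).symm, k3⟩
  have k5 : ⁅W, J⁆ ≤ W ⊓ 𝐂[L] :=
    le_inf (k4.trans inf_le_left) ((le_inf (k4.trans inf_le_left) c).trans h.cE)
  rw [sup_eq_right.2 k5] at k1
  have k6 := D.pre_inj (k1.trans D.pre_bot.symm)
  have k7 := card_ln (F := F)
  rw [k6, AddSubgroup.card_bot, hq] at k7
  have := h.two_le
  omega

/-- `Ŵ = 𝐙[Q₀] ≥ W Z₀`.  With `A` from `exA`: `|Ŵ : C_Ŵ(A)| ≤ |A : C_A(Ŵ)| ≤ |A : C_A(W)| = q =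
|W : C_W(A)|` (`A ⊓ 𝐂[W] ≤ Q₀` centralises `Ŵ`), so `Ŵ = W C_Ŵ(A)` (`Ex.sup_of_relIndex_le`), and
`C_Ŵ(A)` centralises `J = A Q₀`. -/
theorem Rk.hat (h : Rk J W L q) : 𝐙[J ⊓ 𝐂[W]] = W ⊔ 𝐙[J] := by
  obtain ⟨F, _, _, _, D, hq, hN, hL, hB, hk, hH⟩ := h.sd
  obtain ⟨A, hA, hn⟩ := h.exA
  obtain ⟨-, a2, a3, -⟩ := rkA_mem h D hN hB hk hA hn
  have k1 : W ≤ 𝐙[J ⊓ 𝐂[W]] :=
    CP.le_omegaZ h.ea (le_inf h.WJ (isEA_le_centralizer h.ea)) (cent_symm inf_le_right)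
  have k2 : 𝐙[J] ≤ 𝐙[J ⊓ 𝐂[W]] := CP.omegaZ_le_omegaZ inf_le_left (le_inf (CP.omegaZ_le _)
    ((CP.omegaZ_le_centralizer _).trans (Amb.centralizer_anti h.WJ)))
  have k3 := relIndex_le_of_member hA (CP.omegaZ_isEA (J ⊓ 𝐂[W]))
    ((CP.omegaZ_le _).trans inf_le_left)
  have k4 : (𝐂[𝐙[J ⊓ 𝐂[W]]]).relIndex A ≤ (𝐂[W]).relIndex A := by
    rw [← inf_relIndex_right 𝐂[W] A]
    refine relIndex_le_of_le_left ?_ (relIndex_pos _ _).ne'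
    exact (le_inf (inf_le_right.trans hA.1) inf_le_left).trans (CP.le_centralizer_omegaZ _)
  refine le_antisymm ((Ex.sup_of_relIndex_le (C := 𝐂[A]) k1 (by omega)).le.trans
    (sup_le_sup_left ?_ _)) (sup_le k1 k2)
  refine CP.le_omegaZ (isEA_mono (CP.omegaZ_isEA _) inf_le_right)
    (inf_le_right.trans ((CP.omegaZ_le _).trans inf_le_left)) ?_
  refine le_trans ?_ (Amb.centralizer_anti (h.full hA hn).1.ge)
  rw [Amb.centralizer_sup]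
  exact inf_le_inf_left _ (CP.omegaZ_le_centralizer _)

/-- `q = 2`.  `L / C_L(W) ≅ S₃`.  Let `u ∈ J \ 𝐂[W]` be an involution.  Pick `e ∈ E` acting nontrivially;
`y = ⁅u, e⁆ ∈ E` is inverted by `u` and acts as an element of order 3; `ρ` = the odd part of `y`.
`W = [W, ρ] × C_W(ρ)`, `C_W(ρ) = W₀`, `[W, ρ] = [W, E]` has order 4 and is normal in `L`, so
`W ≤ [W, L] ≤ [W, ρ]`. -/
theorem Rk.two (h : Rk J W L 2) : Nat.card W = 4 ∧ Nat.card ↥⁅W, J⁆ = 2 ∧ W ⊓ 𝐂[L] = ⊥ ∧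
    ∀ u ∈ J, u ∉ 𝐂[W] → u * u = 1 → ∃ ρ ∈ 𝐎[2, L], Odd (orderOf ρ) ∧ u * ρ * u⁻¹ = ρ⁻¹ ∧
      W ⊓ 𝐜[ρ] = ⊥ := by
  obtain ⟨F, _, _, _, D, hq, hN, hL, hB, hk, hH⟩ := h.sd
  have key : ∀ u ∈ J, u ∉ 𝐂[W] → u * u = 1 → ∃ ρ ∈ 𝐎[2, L], Odd (orderOf ρ) ∧
      u * ρ * u⁻¹ = ρ⁻¹ ∧ W ⊓ 𝐜[ρ] ≤ W ⊓ 𝐂[L] ∧ L ≤ 𝐍[⁅W, zpowers ρ⁆] := by
    intro u hu hu' uu
    have huL := h.JL hu
    have hE := pRes_le 2 L
    obtain ⟨s, hs, hs'⟩ := exists_Ui_sup_cj (F := F)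
    rw [← pRes_range 2, ← hL, ← D.im_pRes hN] at hs
    obtain ⟨e, he, rfl⟩ := (D.mem_im' (hE.trans hN)).1 hs
    have ht := hB.le (D.act_mem_im hu)
    have ht1 := rkA_ne D hN hk huL hu'
    have ui : u⁻¹ = u := inv_eq_of_mul_eq_one_right uu
    have hy : ⁅u, e⁆ ∈ 𝐎[2, L] := (𝐎[2, L]).mul_mem
      (Amb.conj_mem_of_mem_normalizer (le_normalizer_pRes 2 L huL) he) ((𝐎[2, L]).inv_mem he)
    have hinv : u * ⁅u, e⁆ * u⁻¹ = ⁅u, e⁆⁻¹ := by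
      rw [commutatorElement_inv, commutatorElement_def, commutatorElement_def, ← mul_assoc,
        ← mul_assoc, ← mul_assoc, uu, ui, one_mul]
    obtain ⟨k, m, hm, e1⟩ := Nat.exists_eq_two_pow_mul_odd (orderOf_pos ⁅u, e⁆).ne'
    have hinv' : u * ⁅u, e⁆ ^ 2 ^ k * u⁻¹ = (⁅u, e⁆ ^ 2 ^ k)⁻¹ := by
      rw [← conj_pow, hinv, inv_pow]
    have hρ := (𝐎[2, L]).pow_mem hy (2 ^ k)
    refine ⟨⁅u, e⁆ ^ 2 ^ k, hρ, hm.of_dvd_nat (orderOf_dvd_of_pow_eq_one ?_), hinv',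
      fun w hw => ?_, fun x hx => ?_⟩
    · rw [← pow_mul, ← e1, pow_orderOf_eq_one]
    · refine (D.eq_zero hw.1).1 (rkA_fpf_pow (fun v hv => rkA_fpf hs' ht ht1 hv) k _ ?_)
      rw [← D.act_comm (hN huL) (hN (hE he)), ← D.act_pow (hN (hE hy)), D.act_ψ (hN (hE hρ)) hw.1,
        mem_centralizer_singleton_iff.1 hw.2 |>.symm, mul_inv_cancel_right]
    · set X := L ⊓ 𝐍[zpowers (⁅u, e⁆ ^ 2 ^ k)] with hX
      have x1 : u ∈ X := ⟨huL, cj_eq_iff.1 <| by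
        rw [MonoidHom.map_zpowers]
        exact (congrArg zpowers hinv').trans zpowers_inv⟩
      have x2 : ⁅u, e⁆ ∈ X := ⟨hE hy, cj_eq_iff.1 <| by
        rw [MonoidHom.map_zpowers]
        refine congrArg zpowers ?_
        change ⁅u, e⁆ * ⁅u, e⁆ ^ 2 ^ k * ⁅u, e⁆⁻¹ = _
        rw [← pow_succ', pow_succ, mul_inv_cancel_right]⟩
      have x3 : e * u * e⁻¹ ∈ X := by
        have := X.inv_mem (X.mul_mem (X.inv_mem x1) x2)
        rwa [show (u⁻¹ * ⁅u, e⁆)⁻¹ = e * u * e⁻¹ by rw [commutatorElement_def]; group] at this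
      have eU : zpowers (D.act u) = Ui F := PLocal.eq_of_le_of_card_le (zpowers_le.2 ht) (by
        rw [card_Ui, hq]
        exact (one_lt_card_iff_ne_bot _).2 fun c => ht1 (zpowers_eq_bot.1 c))
      have x4 : D.im L ≤ D.im X := by
        rw [hL, ← hs', ← eU, MonoidHom.map_zpowers]
        refine sup_le (zpowers_le.2 (D.act_mem_im x1)) (zpowers_le.2 ?_)
        have := D.act_mem_im x3
        rwa [D.act_conj (hN (hE he)) (hN huL)] at this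
      obtain ⟨y, hy', c, hc, rfl⟩ := rkA_dec D hN hk le_rfl inf_le_left x4 hx
      refine mul_mem (Amb.le_normalizer_commutator (inf_le_left.trans h.nW) inf_le_right hy') ?_
      refine centralizer_le_normalizer' _ (Amb.centralizer_anti ?_ hc.2)
      exact D.commutator_le_U (zpowers_le.2 (hN (hE hρ)))
  have h0 : W ⊓ 𝐂[L] = ⊥ := by
    obtain ⟨A, hA, hn⟩ := h.exA
    obtain ⟨a, ha, ha'⟩ := SetLike.not_le_iff_exists.1 hn
    obtain ⟨ρ, hρ, ho, -, k1, k2⟩ := key a (hA.1 ha) ha'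
      (by rw [← pow_two]; exact (isEA_iff.1 hA.2.1).2 a ha)
    have hρL : zpowers ρ ≤ L := zpowers_le.2 (pRes_le 2 L hρ)
    have cop : (Nat.card (zpowers ρ)).Coprime (Nat.card W) := by
      obtain ⟨n, hn⟩ := isEA_card h.ea
      rw [hn, Nat.card_zpowers]
      exact (Nat.coprime_two_right.2 ho).pow_right n
    haveI := h.ea.1
    have k3 := Solv.coprime_commutator_sup_centralizer _ W (hρL.trans h.nW) cop
      (Or.inl inferInstance)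
    have k4 := Solv.coprime_centralizer_inf_commutator _ W (hρL.trans h.nW) cop
    have k5 : ⁅W, L⁆ ≤ ⁅W, zpowers ρ⁆ := by
      conv_lhs => rw [← k3, Subgroup.commutator_comm]
      refine CP.commutator_sup_le le_normalizer ?_ (le_normalizer_iff_commutator_le_right.1 k2) ?_
      · exact inf_le_left.trans (((isEA_le_centralizer h.ea).trans (Amb.centralizer_anti
          (D.commutator_le_U (hρL.trans hN)))).trans (centralizer_le_normalizer' _))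
      · rw [Amb.centralizer_zpowers, commutator_eq_bot_iff_le_centralizer.2
          (cent_symm (k1.trans inf_le_right))]
        exact bot_le
    rw [eq_bot_iff, ← k4]
    exact le_inf (inf_le_inf_left _ (Amb.centralizer_anti hρL)) (inf_le_left.trans (h.wl.trans k5))
  have c0 : Nat.card ↥(W ⊓ 𝐂[L]) = 1 := by rw [h0, card_bot]
  refine ⟨?_, ?_, h0, fun u hu hu' uu => ?_⟩
  · rw [← D.card_mul, c0, PL.card_V, hq]
  · have k1 := h.zw.2.2.1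
    rw [h0, sup_bot_eq, rkA_pre h D hN hB hk] at k1
    rw [k1, ← D.card_pre, c0, card_ln, hq]
  · obtain ⟨ρ, k1, k2, k3, k4, -⟩ := key u hu hu' uu
    exact ⟨ρ, k1, k2, k3, eq_bot_iff.2 (k4.trans h0.le)⟩

end Cfsg.Agent.NFS
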