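import Cfsg.Agent.NFS.MxA
import Cfsg.Agent.NFS.Nat
import Cfsg.Agent.NFS.Push
import Cfsg.Agent.NFS.RkA

/-!
# Existence of a block

`T = S ⊓ 𝐍[Q]`, `B = 𝐁[2, T]`, `J₀ = 𝐉[2, T]`, `Q_B = B ⊓ 𝐂[W]`, `E = 𝐎[2, L]`.
-/

set_option autoImplicit false
set_option linter.unusedSectionVars false

namespace Cfsg.Agent.NFS

open Cfsg.Agent.PLocal hiding centralizer_anti
open Subgroup Cfsg Cfsg.Agent.PLocal.Amb Cfsg.Agent.PLocal.TV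
open Cfsg.Agent.PLocal.SL2Nat Cfsg.Agent.PLocal.Bk
open Cfsg.Agent.PLocal.CP (IsCharP MinOver ncl secCent)
open Cfsg.Agent.Solv.Ext (Inv)
open Cfsg.Agent.QT.Qrc (P2)
open scoped commutatorElement MatrixGroups Cfsg.Agent.PLocal.CP

variable {G : Type*} [Group G] [Finite G] {S Q T R W L : Subgroup G} {F : Type} [Field F]
  [Fintype F] [CharP F 2] {D : SD (Fin 2 → F) W (W ⊓ 𝐂[L])}

/-- `K` = good elements of `𝐍[Q]` (`En.good`), `T ≤ K`, `𝐍[Q] ≰ K`, `T` Sylow in `𝐍[Q]` (`Mx.syl`).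
Take `P ≤ 𝐍[Q]` minimal with `T ≤ P ≰ K`: `MinOver T (K ⊓ P) P` (`ncl T P = P` by Frattini since
`𝐍[T]` is good by `Mx.gd`; see `Baum.exists_min`).  `Q ≤ O₂(P)`, `𝐙[T] ≤ T ⊓ 𝐂[Q] ≤ Q`;
`𝐍[B]` is good (`Mx.gd`); `𝐂[𝐙[T]] ≤ 𝐂[𝐙[S]]` is good (`𝐙[S] ≤ 𝐙[T]`).  Apply `loc`. -/
theorem Mx.lc (h : En S) (m : Mx S Q) (hc : S ⊓ 𝐍[Q] ⊓ 𝐂[Q] ≤ Q) :
    ∃ (F : Type) (_ : Field F) (_ : Fintype F) (_ : CharP F 2) (R W L : Subgroup G)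
      (D : SD (Fin 2 → F) W (W ⊓ 𝐂[L])), Lc (S ⊓ 𝐍[Q]) R W L D ∧ Q ≤ R ∧ ∃ k ∈ L, ¬ Gd S k := by
  have := Fact.mk Nat.prime_two
  obtain ⟨K, hK⟩ := h.good m.bq.1 m.bq.2.1
  have hT := m.syl h
  obtain ⟨q1, q2, k0, hk0, c0⟩ := m.bq
  have gT : ∀ Y, 𝐉[2, S ⊓ 𝐍[Q]] ≤ Y → Y ≤ S → 𝐍[Q] ⊓ 𝐍[Y] ≤ K := fun Y a b x hx =>
    (hK x).2 ⟨hx.1, m.gd h a b x hx.2⟩
  have gT' := gT _ (thompsonSubgroupOf_le _) inf_le_left
  have QT : Q ≤ S ⊓ 𝐍[Q] := le_inf q2 le_normalizer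
  generalize hTe : S ⊓ 𝐍[Q] = T at *
  have TS : T ≤ S := hTe ▸ inf_le_left
  obtain ⟨P, ⟨h1, h2, h3⟩, hmin⟩ := (wellFounded_lt (α := Subgroup G)).has_min
    {P | T ≤ P ∧ P ≤ 𝐍[Q] ∧ ¬ P ≤ K} ⟨𝐍[Q], hT.le, le_rfl, fun e => c0 ((hK k0).1 (e hk0)).2⟩
  have sP := hT.mono h1 h2
  have hM : MinOver T (K ⊓ P) P := CP.minOver_of_isSyl sP (fun e => h3 ((le_inf h2 e).trans gT'))
    (le_inf ((le_inf hT.le le_normalizer).trans gT') h1) (inf_lt_right.2 h3) fun X k1 k2 =>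
      le_inf (by_contra fun k => hmin X ⟨k1, k2.le.trans h2, k⟩ k2) k2.le
  have QP : Q ≤ pCoreOf 2 P := le_pCoreOf (hT.pgrp.to_le QT) (QT.trans h1) h2
  obtain ⟨F, _, _, _, W, L, D, l1, l2, l3⟩ := loc sP hM
    (((le_inf (CP.omegaZ_le T) ((CP.omegaZ_le_centralizer T).trans (centralizer_anti QT))).trans
      hc).trans QP)
    (le_inf ((inf_le_inf_right _ h2).trans (gT _ (thompson_le_baumann T)
      ((baumann_le T).trans TS))) inf_le_left)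
    (le_inf (fun x hx => (hK x).2 ⟨h2 hx.1, by
      simpa using MxA.gd_mul (MxA.gd_M (one_mem _)) (CP.omegaZ_le_omegaZ TS (q1.trans QT)) hx.2⟩)
      inf_le_left)
  refine ⟨F, _, inferInstance, inferInstance, _, W, L, D, l1, QP, ?_⟩
  by_contra k
  push Not at k
  exact l3 (le_inf (fun x hx => (hK x).2 ⟨h2 (l2 hx), k x hx⟩) l2)

/-- `𝐙[S] ≤ 𝐙[B] ≤ B ⊓ 𝐂[X] ≤ X`, so `Bq S X`.  `eqB`: `T' = S ⊓ 𝐍[X]` has `𝐁[T'] = B`.  `S ⊓ 𝐍[T']`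
normalises `B`, hence `X`, so lies in `T'`; so `T' = S`, `B = 𝐁[2, S]`.
`S ⊓ 𝐂[X] ≤ S ⊓ 𝐂[𝐙[B]] = B` (`Bau.inf_cent`), so `S ⊓ 𝐂[X] ≤ X`, and `En.s1` says `k` is good. -/
theorem Mx.hX (h : En S) (m : Mx S Q) {k : G} (hk : ¬ Gd S k) (X : Subgroup G)
    (h1 : Ch 𝐁[2, S ⊓ 𝐍[Q]] X) (h2 : k ∈ 𝐍[X]) (h3 : 𝐁[2, S ⊓ 𝐍[Q]] ⊓ 𝐂[X] ≤ X) : False := by
  have := Fact.mk Nat.prime_two
  have XS : X ≤ S := h1.le.trans ((baumann_le _).trans inf_le_left)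
  have ZX : 𝐙[S] ≤ X := (le_inf ((MxA.Z_le_J (le_inf (CP.omegaZ_le S) (m.bq.1.trans le_normalizer))
    inf_le_left).trans (thompson_le_baumann _))
      ((CP.omegaZ_le_centralizer S).trans (centralizer_anti XS))).trans h3
  obtain ⟨-, e⟩ := m.eqB ⟨ZX, XS, k, h2, hk⟩ (le_normalizer.trans h1.normalizer_le)
  rw [← e] at h1 h3
  have e2 : S ⊓ 𝐍[X] = S := eq_of_inf_normalizer_le h.syl.pgrp inf_le_left (inf_le_inf_left _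
    ((normalizer_le_normalizer_baumann _).trans h1.normalizer_le))
  rw [e2] at h1 h3
  refine hk (h.s1 X h1 (le_trans (le_inf (inf_le_inf_left _ (centralizer_anti (le_trans
    (le_inf ((CP.omegaZ_le _).trans (thompson_le_baumann S)) ?_) h3))) inf_le_right) h3) k h2)
  exact cent_symm (h1.le.trans inf_le_right)

/-- `L' = E ⊔ J₀`.  A member `A ∈ maxEA 2 T = maxEA 2 B` with `A ≰ 𝐂[W]` has `D.im A = Ui F` and
`(A ⊓ 𝐂[W]) ⊔ W ∈ maxEA` (`member_full`, `member_replace`), so `W ≤ J₀`, `D.im J₀ = Ui F`,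
`B = J₀ Q_B`, `L = L' Q_B`.  `𝐎[2, L'] = E`; `W ⊓ 𝐂[L'] = W ⊓ 𝐂[L]` (`Lc.nQ`); `D.cast`.
Torus: `L₀ = L ⊓ D.cmp 𝐍[Ui F]` normalises `B K₀` (`K₀ = L ⊓ D.ker`), Frattini `L₀ = K₀ N_{L₀}(B)`; an
`n ∈ N_L(B)` is `e b` (`L = E B`), `e ∈ E ⊓ 𝐍[J₀]`, and `D.act b ∈ Ui F = D.im J₀`. -/
theorem Lc.rk (h : Lc T R W L D) (hp : ⁅𝐁[2, T] ⊓ 𝐂[W], 𝐎[2, L]⁆ ≤ W) :
    Rk 𝐉[2, T] W (𝐎[2, L] ⊔ 𝐉[2, T]) (Nat.card F) ∧ 𝐎[2, 𝐎[2, L] ⊔ 𝐉[2, T]] = 𝐎[2, L] ∧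
      W ⊓ 𝐂[𝐎[2, L] ⊔ 𝐉[2, T]] = W ⊓ 𝐂[L] ∧ D.im 𝐉[2, T] = Ui F ∧
      W ⊓ 𝐂[𝐉[2, T]] = D.pre (ln F) := by
  have := Fact.mk Nat.prime_two
  obtain ⟨n1, n2, n3, n4⟩ := h.nQ
  have JB := thompson_le_baumann (p := 2) T
  have BT := baumann_le (p := 2) T
  have BL := h.syl.le
  have JL := JB.trans BL
  have hb : Bau 2 𝐁[2, T] T := bau_baumann (isSyl_of_not_dvd_relIndex h.pg le_rfl (by simp))
  obtain ⟨A, hA, hn⟩ : ∃ A ∈ maxEA 2 T, ¬ A ≤ 𝐂[W] := by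
    by_contra k
    push Not at k
    exact h.off (thompsonSubgroupOf_le_iff.2 k)
  obtain ⟨a1, a2, a3⟩ := Ex.member_full hb D h.ea (h.WB.trans BT) (BL.trans h.LN) h.imB.le
    ((inf_le_inf_right _ BL).trans h.ker) (by rwa [maxEA_eq_of_le JB BT]) hn
  have WJ : W ≤ 𝐉[2, T] := le_sup_right.trans (le_thompsonSubgroupOf
    (member_replace hA h.ea (h.WB.trans BT) (a2.trans a3.symm).le))
  have iJ : D.im 𝐉[2, T] = Ui F :=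
    le_antisymm ((D.im_mono JB).trans h.imB.le) (a1.ge.trans (D.im_mono (le_thompsonSubgroupOf hA)))
  have pJ : IsPGroup 2 𝐉[2, T] := h.pg.to_le (JB.trans BT)
  have EL := pRes_le 2 L
  have hL' : 𝐎[2, L] ⊔ 𝐉[2, T] ≤ L := sup_le EL JL
  have eE : 𝐎[2, 𝐎[2, L] ⊔ 𝐉[2, T]] = 𝐎[2, L] := by
    rw [pRes_sup_eq pJ (JL.trans (le_normalizer_pRes 2 L)), pRes_pRes]
  have eC : W ⊓ 𝐂[𝐎[2, L] ⊔ 𝐉[2, T]] = W ⊓ 𝐂[L] := le_antisymm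
    (le_inf inf_le_left ((inf_le_inf_left _ (centralizer_anti le_sup_left)).trans n2))
    (inf_le_inf_left _ (centralizer_anti hL'))
  have iL : D.im (𝐎[2, L] ⊔ 𝐉[2, T]) = (slG F).range := by
    rw [D.im_sup (EL.trans h.LN) (JL.trans h.LN), D.im_pRes h.LN, h.imL, iJ, sl_facts.2.1]
  have hk := (inf_le_inf_right D.ker hL').trans h.ker
  have rk : Rk 𝐉[2, T] W (𝐎[2, L] ⊔ 𝐉[2, T]) (Nat.card F) := by
    refine ⟨pJ, thompsonSubgroupOf_eq_of_le le_rfl (JB.trans BT), WJ, le_sup_right, h.ea,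
      by rw [eE], by
        rw [eE]; exact (commutator_mono (inf_le_inf_right _ JB) le_rfl).trans hp,
      h.wl.trans (commutator_le.2 fun w hw x hx => ?_), F, _, inferInstance, inferInstance,
      D.cast rfl eC.symm, rfl, by rw [SD.cast_N]; exact hL'.trans h.LN, by rw [SD.cast_im, iL],
      by rw [SD.cast_im, iJ], by rwa [SD.cast_ker], ?_⟩
    · obtain ⟨y, hy, k, hk', rfl⟩ := rkA_dec D h.LN h.ker le_rfl hL' (h.imL.trans iL.symm).le hx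
      have := mem_centralizer_iff.1 hk'.2 _ (W.inv_mem hw)
      have e2 : ⁅w, y * k⁆ = ⁅w, y⁆ := by
        rw [commutatorElement_def, commutatorElement_def]
        calc _ = w * y * (k * w⁻¹) * k⁻¹ * y⁻¹ := by group
          _ = _ := by rw [← this]; group
      rw [e2]
      exact commutator_mem_commutator hw hy
    · rw [SD.cast_im]
      rintro s ⟨hs, hs'⟩
      obtain ⟨x, hx, rfl⟩ := (D.mem_im' h.LN).1 (h.imL.ge hs)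
      have sN : IsSyl 2 𝐁[2, T] (L ⊓ D.cmp (Ui F)) := h.syl.mono (le_inf BL fun y hy =>
        D.mem_cmp.2 ⟨h.LN (BL hy), h.imB.le (D.act_mem_im hy)⟩) inf_le_left
      obtain ⟨n, hn', y, hy, e⟩ := sN.frattini' (g := x) (mem_normalizer_of_cj_le
        (cj_le_iff_forall.2 fun y hy => by
          have k := mul_mem (mul_mem hx hy.1) (inv_mem hx)
          refine ⟨k, D.mem_cmp.2 ⟨h.LN k, ?_⟩⟩
          rw [D.act_conj (h.LN hx) (h.LN hy.1)]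
          exact conj_mem_of_mem_normalizer hs' (D.mem_cmp.1 hy.2).2))
      have nL : n ∈ L := by
        rw [show n = x * y⁻¹ by rw [e]; group]; exact mul_mem hx (inv_mem hy.1)
      obtain ⟨a, ha, b, hb', rfl⟩ := (mem_sup_of_le_normalizer_left
        (BL.trans (le_normalizer_pRes 2 L))).1 (n4.le nL)
      have aN : a ∈ 𝐍[𝐉[2, T]] := by
        rw [← thompsonSubgroupOf_eq_of_le JB BT]
        exact normalizer_le_normalizer_thompsonSubgroupOf _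
          ((mul_mem_cancel_right (le_normalizer hb')).1 hn')
      have UL : Ui F ≤ D.im ((𝐎[2, L] ⊔ 𝐉[2, T]) ⊓ 𝐍[𝐉[2, T]]) :=
        iJ.ge.trans (D.im_mono (le_inf le_sup_right le_normalizer))
      rw [e, D.act_mul (h.LN nL) (h.LN hy.1), D.act_mul (h.LN (EL ha)) (h.LN (BL hb'))]
      exact mul_mem (mul_mem (D.act_mem_im ⟨mem_sup_left ha, aN⟩)
        (UL (h.imB.le (D.act_mem_im hb')))) (UL (D.mem_cmp.1 hy.2).2)
  exact ⟨rk, eE, eC, iJ, rkA_pre rk D (hL'.trans h.LN) iJ hk⟩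

/-- `Mx.lc`; `Lc.xc` with `Mx.hX`; `Lc.push`; `Lc.rk`.  `Q_B ⊴ L` (`Lc.nQ`) contains `𝐙[S]`
(`𝐙[S] ≤ Q ≤ R ≤ 𝐂[W]`, `𝐙[S] ≤ B`), so `Bq S Q_B`; `Q ⊓ B ≤ Q_B`; `eqQ`: `Q_B = Q ⊓ B ≤ R` and
`S ⊓ 𝐍[Q_B] = T`; so `nT` applies: `T ≤ D.N`, `T ⊓ 𝐂[W] ≤ T ⊓ D.ker ≤ R ≤ 𝐂[W]`.
Let `Q₀ = J₀ ⊓ 𝐂[W]`, `T' = S ⊓ 𝐍[Q₀]`.  `Q₀` is normalised by `E` (`[Q₀, E] ≤ W ≤ Q₀`) and `B`, so by `L`;
`𝐙[S] ≤ Q₀`; `Bq S Q₀`; `eqB`: `𝐉[T'] = J₀`, `𝐁[T'] = B`.  So `T'` normalises `B` and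
`𝐙[Q₀] = W ⊔ 𝐙[J₀]` (`Rk.hat`), hence `B ⊓ 𝐂[W ⊔ 𝐙[J₀]] = Q_B`; so `T' ≤ T`.
`S ⊓ 𝐍[W] = T`: otherwise the 2-group `S ⊓ 𝐍[W] > T` has an element outside `T` normalising `T`, hence
`J₀`, `W`, `Q₀`, so in `T' ≤ T`.  So `S ⊓ 𝐂[W] = R`.  `cmR`: `[R, E] ≤ R ⊓ L ≤ O₂(L) ⊓ 𝐂[W] ≤ Q_B` and
`[R, E] = [R, E, E] ≤ [Q_B, E] ≤ W`.  `rt`, `fld`: `X = D.im T` normalises `SL` and `Ui F = D.im J₀`;
`t ∈ T` lies in the `secCent` iff `D.act t` fixes `ln F` pointwise (`act_smul_eq_iff`);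
`mem_Ui_of_fix`, `exists_mul_ker`, `relIndex_cent_lt`. -/
theorem Mx.blk (h : En S) (m : Mx S Q) (hc : S ⊓ 𝐍[Q] ⊓ 𝐂[Q] ≤ Q) :
    ∃ (W L : Subgroup G) (q : ℕ), Bl S W L q := by
  have := Fact.mk Nat.prime_two
  obtain ⟨F, _, _, _, R, W, L, D, l, QR, k, kL, kb⟩ := m.lc h hc
  have hp := l.push (l.xc fun X a b c => m.hX h kb X a (b kL) c)
  obtain ⟨rk, eE, eC, iJ, eP⟩ := l.rk hp
  obtain ⟨n1, n2, n3, n4⟩ := l.nQ
  have ZJ : 𝐙[S] ≤ 𝐉[2, S ⊓ 𝐍[Q]] :=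
    MxA.Z_le_J (le_inf (CP.omegaZ_le S) (m.bq.1.trans le_normalizer)) inf_le_left
  have eqB := fun Q' => m.eqB (Q' := Q')
  have eqQ := fun Q' => m.eqQ (Q' := Q')
  generalize hTe : S ⊓ 𝐍[Q] = T at *
  have TS : T ≤ S := hTe ▸ inf_le_left
  have JB := thompson_le_baumann (p := 2) T
  have BT := baumann_le (p := 2) T
  have BL := l.syl.le
  have EL := pRes_le 2 L
  have LW : L ≤ 𝐍[W] := l.LN.trans D.N_le
  have TJ : T ≤ 𝐍[𝐉[2, T]] := le_normalizer.trans (normalizer_le_normalizer_thompsonSubgroupOf T)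
  have ZW : 𝐙[S] ≤ 𝐂[W] :=
    (CP.omegaZ_le_centralizer S).trans (centralizer_anti (l.WB.trans (BT.trans TS)))
  have RW : R ≤ 𝐂[W] := cent_symm (l.WR.trans inf_le_right)
  obtain ⟨e1, e2⟩ := eqQ _ ⟨le_inf (ZJ.trans JB) ZW, inf_le_left.trans (BT.trans TS), k, n1 kL, kb⟩
    (BL.trans n1) (le_inf inf_le_right (inf_le_left.trans (QR.trans RW))) inf_le_left
  obtain ⟨t1, t2, t3⟩ := l.nT (e1.le.trans (inf_le_left.trans QR))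
  have n0 : L ≤ 𝐍[𝐉[2, T] ⊓ 𝐂[W]] := n4.le.trans (sup_le
    (le_normalizer_iff_commutator_le_left.2 (((commutator_mono (inf_le_inf_right _ JB) le_rfl).trans
      hp).trans (le_inf rk.WJ (isEA_le_centralizer l.ea))))
    (le_normalizer_inf (BT.trans TJ) (le_normalizer_centralizer (BL.trans LW))))
  obtain ⟨-, e3⟩ := eqB _ ⟨le_inf ZJ ZW, inf_le_left.trans (JB.trans (BT.trans TS)), k, n0 kL, kb⟩
    (BL.trans n0)
  have hT' : S ⊓ 𝐍[𝐉[2, T] ⊓ 𝐂[W]] ≤ T := by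
    refine le_trans (le_inf inf_le_left ?_) e2.le
    have k1 : 𝐁[2, T] ⊓ 𝐂[W] = 𝐁[2, T] ⊓ 𝐂[𝐙[𝐉[2, T] ⊓ 𝐂[W]]] := by
      rw [rk.hat, Amb.centralizer_sup]
      exact le_antisymm (le_inf inf_le_left (le_inf inf_le_right (inf_le_left.trans inf_le_right)))
        (inf_le_inf_left _ inf_le_left)
    rw [k1]
    refine le_normalizer_inf ?_ (le_normalizer_centralizer
      (inf_le_right.trans (CP.normalizer_le_normalizer_omegaZ _)))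
    conv_rhs => rw [← e3]
    exact le_normalizer.trans (normalizer_le_normalizer_baumann _)
  have eT : S ⊓ 𝐍[W] = T := (eq_of_inf_normalizer_le (h.syl.pgrp.to_le inf_le_left)
    (le_inf TS (t1.trans D.N_le)) (le_trans (le_inf (inf_le_left.trans inf_le_left)
      (le_normalizer_inf (inf_le_right.trans (normalizer_le_normalizer_thompsonSubgroupOf T))
        (le_normalizer_centralizer (inf_le_left.trans inf_le_right)))) hT')).symm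
  have eR : S ⊓ 𝐂[W] = R := le_antisymm (le_trans (le_inf ((inf_le_inf_left _
    (centralizer_le_normalizer' W)).trans eT.le) (inf_le_right.trans D.centralizer_le_ker)) t3)
    (le_inf (l.RT.trans TS) RW)
  have pR : IsPGroup 2 R := l.pg.to_le l.RT
  have fix : ∀ t ∈ T, t ∈ secCent (W ⊓ 𝐂[𝐉[2, T]]) (W ⊓ 𝐂[L]) ↔
      D.act t ∈ cent (GA (Fin 2 → F)) (ln F) := fun t ht => by
    rw [eP]
    refine ⟨fun k v hv => ?_, fun k => ⟨D.N_le' (t1 ht), fun u hu =>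
      (D.act_smul_eq_iff (t1 ht) hu.1).1 (k _ hu.2)⟩⟩
    obtain ⟨u, hu, rfl⟩ := D.surj v
    exact (D.act_smul_eq_iff (t1 ht) hu).2 (k.2 u ⟨hu, hv⟩)
  have t4 : D.im T ≤ 𝐍[Ui F] := iJ ▸ D.im_le_normalizer TJ
  refine ⟨W, 𝐎[2, L] ⊔ 𝐉[2, T], Nat.card F, h.syl.pgrp, by rwa [eT], ?_, ?_, ?_, ?_, ?_, ?_⟩
  · rw [eR, eE, ← CP.commutator_pRes_pRes pR l.Rn]
    refine (commutator_mono (le_inf ?_ ?_) le_rfl).trans hp
    · refine le_trans (le_inf (le_normalizer_iff_commutator_le_left.1 (EL.trans l.Rn)) ?_)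
        (l.syl.le_of_le_normalizer (pR.to_le inf_le_left) inf_le_right
          (BL.trans (le_normalizer_inf l.Rn le_normalizer)))
      rw [commutator_comm]
      exact (le_normalizer_iff_commutator_le_left.1
        (l.nR.trans (normalizer_le_normalizer_pRes 2 L))).trans EL
    · exact (le_normalizer_iff_commutator_le_left.1 (EL.trans l.Rn)).trans RW
  · rw [eR]
    exact le_normalizer_sup (l.nR.trans (normalizer_le_normalizer_pRes 2 L)) (l.RT.trans TJ)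
  · rw [eT, eC]; exact t1.trans D.N_le'
  · rw [eT]; exact hT'.trans (t1.trans D.N_le)
  · rw [eT, eC, eR]
    rintro t ⟨ht, ht'⟩
    obtain ⟨j, hj, -, c, hc', rfl⟩ := D.exists_mul_ker (t1 ht) (iJ.ge (mem_Ui_of_fix
      (D.isPGroup_im l.pg) t2 t4 (D.act_mem_im ht) ((fix t ht).1 ht')))
    exact mul_mem_sup hj (t3 ⟨(mul_mem_cancel_left (BT (JB hj))).1 ht, hc'⟩)
  · rw [eT, eC]
    refine lt_of_eq_of_lt ?_ (relIndex_cent_lt (D.isPGroup_im l.pg) t2 t4)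
    let f : T →* GA (Fin 2 → F) := D.rho.comp (inclusion t1)
    have ef : ∀ x : T, f x = D.act x := fun x => (D.act_eq (t1 x.2)).symm
    have e4 : f.range = D.im T := by
      ext s
      rw [D.mem_im' t1]
      exact ⟨fun ⟨x, e⟩ => ⟨x, x.2, (ef x).symm.trans e⟩, fun ⟨x, hx, e⟩ => ⟨⟨x, hx⟩, (ef _).trans e⟩⟩
    rw [← e4, ← index_comap, relIndex]
    congr 1
    ext x
    rw [mem_subgroupOf, mem_comap, ef, fix x x.2]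

end Cfsg.Agent.NFS
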