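import Cfsg.Agent.NFS.DhC

/-!
# Climbing the chain
-/

set_option autoImplicit false
set_option linter.unusedSectionVars false

namespace Cfsg.Agent.NFS

open Cfsg.Agent.PLocal hiding centralizer_anti
open Subgroup Cfsg Cfsg.Agent.PLocal.Amb Cfsg.Agent.PLocal.TV
open Cfsg.Agent.PLocal.SL2Nat Cfsg.Agent.PLocal.Bk
open Cfsg.Agent.PLocal.CP (IsCharP MinOver ncl secCent)
open Cfsg.Agent.Solv.Ext (Inv)
open Cfsg.Agent.QT.Qrc (P2)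
open scoped commutatorElement MatrixGroups Cfsg.Agent.PLocal.CP

variable {G : Type*} [Group G] [Finite G] {S Y D : Subgroup G} {r f z : G}

theorem DhD.two {H X : Subgroup G} (h : H.relIndex X ≤ 2) {a b : G} (ha : a ∈ X) (hb : b ∈ X) :
    a ∈ H ∨ b ∈ H ∨ a * b ∈ H := by
  have h0 : H.relIndex X ≠ 0 := index_ne_zero_of_finite
  rcases (by omega : H.relIndex X = 1 ∨ H.relIndex X = 2) with e | e
  · exact .inl (relIndex_eq_one.1 e ha)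
  · have : a * b ∈ H ↔ (a ∈ H ↔ b ∈ H) :=
      mul_mem_iff_of_index_two e (a := ⟨a, ha⟩) (b := ⟨b, hb⟩)
    tauto

theorem DhD.zp {t w : G} (ht : t * t = 1) (hw : w ∈ zpowers t) : w = 1 ∨ w = t := by
  obtain ⟨k, rfl⟩ := mem_zpowers_iff.1 hw
  rcases Int.even_or_odd' k with ⟨m, rfl | rfl⟩
  · exact .inl (by rw [zpow_mul, zpow_two, ht, one_zpow])
  · exact .inr (by rw [zpow_add, zpow_mul, zpow_two, ht, one_zpow, one_mul, zpow_one])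

/-- `U = S ⊓ 𝐍[Y]`.  Suppose `a ∈ A` moves `z`.  `A₂ = A ⊓ 𝐜[z] = A ⊓ 𝐍[zpowers z]`, `k = |A : A₂|`,
`|A₂ : A₂ ⊓ 𝐂[D]| ≤ 2` (`hn`, `DD.idx`).  `W = fg z t`, `Γ` from `fb`; for `x ∈ A`: `x z x⁻¹ = z` or `∈ Γ`
and `cj(x, D) ≤ 𝐂[D]` (`Pr.cj`, `Pr.ne`).  `X = ncl ⟨z⟩ A ⊔ W ⊔ cj(a, W) ≤ Y` is elementary abelian
(`ncl ⟨z⟩ A ≤ 𝐂[Y]`), `X' = X ⊓ 𝐂[Y]`, `lay2` with `K := Γ`; `A ⊓ 𝐂[W]` centralises `X`;
`relIndex_le_of_member`: `k · |X : X' C_X(A)| ≤ |A : A ⊓ 𝐂[W]|`.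
Key: an element `c w w'` (`c ∈ 𝐂[Y]`, `w ∈ W`, `w' ∈ cj(x, D)`, `x` moving `z`) commuting with `f` has
`w ∈ ⟨z⟩`.  If `A₂ ≤ 𝐂[W]` the right side is `k`, while `t ∉ X' C_X(A)` (else `t · a t a⁻¹ ∈ 𝐂[Y]`), so
`2 k ≤ k`.  Otherwise the right side is `≤ 2 k`; take `u ∈ A₂ \ 𝐂[W]`, `u t u⁻¹ = x t`, `1 ≠ x ∈ ⟨r⟩`.
If `y = c w w' ∈ X` (`c ∈ ncl ⟨z⟩ A`, which `u` centralises as `A` is abelian and `u ∈ 𝐜[z]`) commutes
with `u`, then `⁅u, w⁆ ⁅u, w'⁆ = 1` with factors in `D` and `cj(a, D)`, `D ⊓ cj(a, D) = ⊥`; so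
`w ∈ ⟨z⟩`, `w' ∈ ⟨a z a⁻¹⟩`, `y ∈ X'`; and `|X : X'| ≥ 4`; so `4 k ≤ 2 k`. -/
theorem Pr.cz (h : Pr S Y D r f z) (hn : S ⊓ 𝐍[Y] ⊓ 𝐜[z] ≤ 𝐍[D]) {A : Subgroup G}
    (hA : A ∈ maxEA 2 (S ⊓ 𝐍[Y])) : A ≤ 𝐜[z] := by
  intro a ha
  by_contra az
  have dh := h.dd.dh
  obtain ⟨t, ht, ht'⟩ := dh.ex
  obtain ⟨Γ, b⟩ := h.dd.fb t ht ht'
  obtain ⟨fD, zD, -, -, -, -, ZD, -⟩ := dh.basic
  have ftf : f * t * f⁻¹ = z * t := (dh.fg ht ht').2.2.2.2.2.2.1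
  have tt := dh.sq t ht ht'
  have AC := isEA_le_centralizer hA.2.1
  have zY : z ∈ 𝐂[Y] := fun y hy => mul_inv_eq_iff_eq_mul.1 (dh.norm (h.nD hy)).2.1
  have nY : A ≤ 𝐍[Y] := hA.1.trans inf_le_right
  have nC : A ≤ 𝐍[𝐂[Y]] := le_normalizer_centralizer nY
  have mv : ∀ x, x ∉ 𝐜[z] → x * z * x⁻¹ ≠ z := fun x c e =>
    c (mem_centralizer_singleton_iff.2 (mul_inv_eq_iff_eq_mul.1 e))
  have h1 : ∀ x ∈ A, cj(x, zpowers z) = zpowers z ∨ cj(x, zpowers z) ≤ Γ := fun x hx => by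
    by_cases c : x ∈ 𝐜[z]
    · exact .inl (cj_of_mem_normalizer (centralizer_le_normalizer' _ (Amb.centralizer_zpowers z ▸ c)))
    · rw [MonoidHom.map_zpowers]
      exact .inr (zpowers_le.2 ((h.ne (h.cj (hA.1 hx)) (mv x c)).2 t ht ht' Γ b))
  have NY : ncl (zpowers z) A ≤ Y ⊓ 𝐂[Y] :=
    CP.ncl_le (zpowers_le.2 ⟨h.DY zD, zY⟩) (le_normalizer_inf nY nC)
  have NE : IsElementaryAbelian 2 (ncl (zpowers z) A) :=
    isEA_iSup (fun x => isEA_map (isEA_zpowers (by rw [sq, dh.zz])) _) fun x y =>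
      ((CP.cj_le_ncl _ x.2).trans (NY.trans inf_le_right)).trans
        (centralizer_anti ((CP.cj_le_ncl _ y.2).trans (NY.trans inf_le_left)))
  have ha' := h.cj (hA.1 ha)
  have aD : cj(a, D) ≤ 𝐂[D] := (h.ne ha' (mv a az)).1
  have DD : ∀ x ∈ D, x ∈ cj(a, D) → x = 1 := fun x hx hx' =>
    (DhD.zp dh.zz (ZD.le ⟨hx, aD hx'⟩)).resolve_right fun e =>
      (DhD.zp ha'.dd.dh.zz (ha'.dd.dh.basic.2.2.2.2.2.2.1.le
        ⟨e ▸ hx', centralizer_anti ha'.DY zY⟩)).elim dh.z1 fun e' => mv a az e'.symm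
  have tD : a * t * a⁻¹ ∈ cj(a, D) := conj_mem_cj a ht
  have tt' : a * t * a⁻¹ * (a * t * a⁻¹) = 1 := by rw [conj_mul, tt]; group
  have ct : zpowers t ≤ 𝐂[zpowers (a * t * a⁻¹)] :=
    le_centralizer_iff.1 ((zpowers_le.2 (aD tD)).trans (centralizer_anti (zpowers_le.2 ht)))
  have TY : zpowers t ⊔ zpowers (a * t * a⁻¹) ≤ Y :=
    sup_le (zpowers_le.2 (h.DY ht)) (zpowers_le.2 (ha'.DY tD))
  have NT := (NY.trans inf_le_right).trans (centralizer_anti TY)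
  have XE := isEA_sup NE (isEA_sup (isEA_zpowers (by rw [sq, tt])) (isEA_zpowers (by rw [sq, tt'])) ct) NT
  have XY := sup_le (NY.trans inf_le_left) TY
  have tX := mem_sup_right (S := ncl (zpowers z) A)
    (mem_sup_left (T := zpowers (a * t * a⁻¹)) (mem_zpowers t))
  have tX' := mem_sup_right (S := ncl (zpowers z) A)
    (mem_sup_right (S := zpowers t) (mem_zpowers (a * t * a⁻¹)))
  have A2 : 𝐍[zpowers z] ⊓ A ≤ 𝐜[z] := fun u hu => by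
    by_contra c
    refine (DhD.zp dh.zz (conj_mem_of_mem_normalizer hu.1 (mem_zpowers z))).elim (fun e => dh.z1 ?_) (mv u c)
    simpa using e
  have AN : 𝐍[zpowers z] ⊓ A ≤ 𝐂[ncl (zpowers z) A] :=
    CP.le_centralizer_ncl (by rwa [Amb.centralizer_zpowers])
      ((AC.trans (centralizer_anti inf_le_right)).trans (centralizer_le_normalizer' _))
  have AD : 𝐍[zpowers z] ⊓ A ≤ S ⊓ 𝐍[D] := fun u hu =>
    ⟨(hA.1 hu.2).1, hn ⟨hA.1 hu.2, A2 hu⟩⟩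
  have ua : ∀ u ∈ A, u ∈ 𝐜[a * t * a⁻¹] ↔ u ∈ 𝐜[t] := fun u hu => by
    rw [centralizer_singleton_conj, mem_cj, mul_assoc, AC ha u hu, inv_mul_cancel_left]
  have l2 := lay2 h1 (fun c => b.zΓ (c (mem_zpowers z))) (isEA_le_centralizer XE)
    (le_inf le_sup_left (NY.trans inf_le_right)) inf_le_left
  have l3 := relIndex_le_of_member hA XE (XY.trans (le_inf h.YS le_normalizer))
  have l4 : (𝐂[ncl (zpowers z) A ⊔ (zpowers t ⊔ zpowers (a * t * a⁻¹))]).relIndex A ≤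
      (𝐜[t] ⊓ 𝐍[zpowers z]).relIndex A :=
    QT.Qrc.relIndex_le_of_map id (fun _ hx => hx) fun x hx y hy c => by
      have hu := mul_mem (inv_mem hx) hy
      rw [Amb.centralizer_sup, Amb.centralizer_sup, Amb.centralizer_zpowers, Amb.centralizer_zpowers]
      exact ⟨AN ⟨c.2, hu⟩, c.1, (ua _ hu).2 c.1⟩
  rw [← relIndex_inf_mul_relIndex, mul_comm] at l4
  have l5 := Nat.le_of_mul_le_mul_left ((l2.trans l3).trans l4)
    (Nat.pos_of_ne_zero index_ne_zero_of_finite)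
  have l6 : (𝐜[t]).relIndex (𝐍[zpowers z] ⊓ A) ≤ 2 :=
    (relIndex_le_of_le_left (centralizer_le (Set.singleton_subset_iff.2 ht))
      index_ne_zero_of_finite).trans (h.dd.idx (isEA_mono hA.2.1 inf_le_right) AD)
  have ft : f * t ≠ t * f := fun e => dh.z1 (by rwa [e, mul_inv_cancel_right, right_eq_mul] at ftf)
  have k0 : t ∉ 𝐂[Y] := fun c => ft (c f (h.DY fD))
  have k1 : a * t * a⁻¹ ∉ 𝐂[Y] := fun c => k0 ((mem_normalizer_iff.1 (nC ha) t).2 c)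
  have k2 : t * (a * t * a⁻¹) ∉ 𝐂[Y] := fun c => ft (mul_right_cancel (b := a * t * a⁻¹) (by
    rw [mul_assoc f, c f (h.DY fD), mul_assoc t f, aD tD f fD, mul_assoc t]))
  generalize hX : ncl (zpowers z) A ⊔ (zpowers t ⊔ zpowers (a * t * a⁻¹)) = X at *
  by_cases c : 𝐍[zpowers z] ⊓ A ≤ 𝐜[t]
  · rw [relIndex_eq_one.2 c] at l5
    obtain ⟨c, hc, y, hy, e⟩ := (mem_sup_of_le_normalizer_right ((inf_le_left.trans
      ((isEA_le_centralizer XE).trans (centralizer_anti inf_le_left))).trans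
      (centralizer_le_normalizer' _))).1 (relIndex_eq_one.1 (le_antisymm l5
        (Nat.pos_of_ne_zero index_ne_zero_of_finite)) tX)
    have hc' := conj_mem_of_mem_normalizer (nC ha) hc.2
    refine k2 ?_
    rw [show t * (a * t * a⁻¹) = c * (a * c * a⁻¹) from ?_]
    · exact mul_mem hc.2 hc'
    · calc _ = c * (y * (a * c * a⁻¹)) * (a * y) * a⁻¹ := by rw [e]; group
        _ = c * (a * c * a⁻¹) * y ^ 2 := by rw [hc' y (XY hy.1), hy.2 a ha, sq]; group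
        _ = _ := by rw [XE.2 y hy.1, mul_one]
  · obtain ⟨u, hu, ut⟩ := SetLike.not_le_iff_exists.1 c
    have : X ⊓ 𝐂[Y] ⊔ X ⊓ 𝐂[A] ≤ 𝐂[Y] := sup_le inf_le_right fun y hy => by
      obtain ⟨c, hc, _, hw₀, rfl⟩ := (mem_sup_of_le_normalizer_right
        (NT.trans (centralizer_le_normalizer' _))).1 (hX.ge hy.1)
      obtain ⟨w, hw, w', hw', rfl⟩ := (mem_sup_of_le_normalizer_right
        (ct.trans (centralizer_le_normalizer' _))).1 hw₀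
      have e : u * (w * w') = w * w' * u := mul_left_cancel (a := c) (by
        rw [← mul_assoc, AN hu c hc, mul_assoc, hy.2 u hu.2, mul_assoc])
      have wD := zpowers_le.2 ht hw
      have wD' := zpowers_le.2 tD hw'
      have un : u ∈ 𝐍[cj(a, D)] := by
        rw [normalizer_cj, mem_cj, mul_assoc, AC ha u hu.2, inv_mul_cancel_left]
        exact (AD hu).2
      have e1 : w⁻¹ * (u * w * u⁻¹) = w' * (u * w' * u⁻¹)⁻¹ := by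
        calc _ = w⁻¹ * (u * (w * w')) * w'⁻¹ * u⁻¹ := by group
          _ = _ := by rw [e]; group
      have e2 := DD _ (mul_mem (inv_mem wD) (conj_mem_of_mem_normalizer (AD hu).2 wD))
        (e1 ▸ mul_mem wD' (inv_mem (conj_mem_of_mem_normalizer un wD')))
      have w1 : w = 1 := (DhD.zp tt hw).resolve_right fun e' => ut (mem_centralizer_singleton_iff.2
        (e' ▸ mul_inv_eq_iff_eq_mul.1 (inv_mul_eq_one.1 e2).symm))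
      have w2 : w' = 1 := (DhD.zp tt' hw').resolve_right fun e' => ut ((ua u hu.2).1
        (mem_centralizer_singleton_iff.2
          (e' ▸ mul_inv_eq_iff_eq_mul.1 (mul_inv_eq_one.1 (e1 ▸ e2)).symm)))
      rw [w1, w2, mul_one, mul_one]
      exact (NY hc).2
    rcases DhD.two (l5.trans l6) tX tX' with e | e | e
    exacts [k0 (this e), k1 (this e), k2 (this e)]

/-- one step when `D` is already invariant under `S ⊓ 𝐍[Y] ⊓ 𝐜[z]` -/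
theorem Pr.step0 (h : Pr S Y D r f z) (hn : S ⊓ 𝐍[Y] ⊓ 𝐜[z] ≤ 𝐍[D]) :
    Pr S 𝐉[2, S ⊓ 𝐍[Y]] D r f z ∧ Y ≤ 𝐉[2, S ⊓ 𝐍[Y]] := by
  have nA : ∀ A ∈ maxEA 2 (S ⊓ 𝐍[Y]), A ≤ 𝐍[D] := fun A hA =>
    (le_inf hA.1 (h.cz hn hA)).trans hn
  have m1 : ∀ t ∈ D, t ∉ zpowers r → mx (S ⊓ 𝐍[Y]) ≤ mx (S ⊓ 𝐍[fg z t]) := fun t ht ht' => by
    obtain ⟨A, hA⟩ := maxEA_nonempty 2 (S ⊓ 𝐍[Y])
    rw [← mx_eq hA]
    exact h.dd.card_le hA.2.1 (le_inf (hA.1.trans inf_le_left) (nA A hA)) ht ht'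
  have YJ : Y ≤ 𝐉[2, S ⊓ 𝐍[Y]] := by
    obtain ⟨t, ht, ht'⟩ := h.dd.dh.ex
    exact h.jj.ge.trans (J_le_of_mx (le_inf h.YS le_normalizer)
      ((m1 t ht ht').trans ((mx_J _).ge.trans (mx_mono (h.JY t ht ht')))))
  exact ⟨⟨h.dd, (thompsonSubgroupOf_le _).trans inf_le_left,
    thompsonSubgroupOf_eq_of_le le_rfl (thompsonSubgroupOf_le _), h.DY.trans YJ,
    thompsonSubgroupOf_le_iff.2 nA, fun t ht ht' => (h.JY t ht ht').trans YJ,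
    fun t ht ht' => (mx_J _).le.trans (m1 t ht ht')⟩, YJ⟩

/-- the chain with `D ≤ D₁`, given a doubling lemma with `D ≤ D₁` -/
theorem Pr.chain0 (H : ∀ (Y D : Subgroup G) (r : G), Pr S Y D r f z → ∃ (D₁ : Subgroup G) (r₁ : G),
      Pr S Y D₁ r₁ f z ∧ S ⊓ 𝐍[Y] ⊓ 𝐜[z] ≤ 𝐍[D₁] ∧ D ≤ D₁) (h : Pr S Y D r f z) :
    ∃ (D₁ : Subgroup G) (r₁ : G), Pr S 𝐉[2, S] D₁ r₁ f z ∧ D ≤ D₁ := by
  induction Y using WellFoundedGT.induction generalizing D r with | ind Y ih =>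
  obtain ⟨D₁, r₁, h₁, hn, hD⟩ := H _ _ _ h
  obtain ⟨h₂, hle⟩ := h₁.step0 hn
  rcases hle.eq_or_lt with e | e
  · exact ⟨D, r, eq_J_of_J_norm h.dd.pg e.symm ▸ h, le_rfl⟩
  · obtain ⟨D₂, r₂, h₃, hD'⟩ := ih _ e h₂
    exact ⟨D₂, r₂, h₃, hD.trans hD'⟩

/-- `tilde`; every `A ∈ maxEA 2 U` normalises `D₁` (`cz`), `mx U ≤ mx T_t` (`DD.card_le`); also
`mx T_t = mx 𝐉[T_t] ≤ mx Y`, so `Y = 𝐉[Y] ≤ 𝐉[U]` (`J_le_of_mx`). -/
theorem Pr.step (h : Pr S Y D r f z) : ∃ (D₁ : Subgroup G) (r₁ : G),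
    Pr S 𝐉[2, S ⊓ 𝐍[Y]] D₁ r₁ f z ∧ Y ≤ 𝐉[2, S ⊓ 𝐍[Y]] := by
  obtain ⟨D₁, r₁, h₁, hn⟩ := h.tilde
  exact ⟨D₁, r₁, h₁.step0 hn⟩

/-- induction on `|S| - |Y|`; if `𝐉[S ⊓ 𝐍[Y]] = Y` use `eq_J_of_J_norm` -/
theorem Pr.chain (h : Pr S Y D r f z) : ∃ (D₁ : Subgroup G) (r₁ : G), Pr S 𝐉[2, S] D₁ r₁ f z := by
  induction Y using WellFoundedGT.induction generalizing D r with | ind Y ih =>
  obtain ⟨D₁, r₁, h₁, hle⟩ := h.step
  rcases hle.eq_or_lt with e | e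
  · exact ⟨D, r, eq_J_of_J_norm h.dd.pg e.symm ▸ h⟩
  · exact ih _ e h₁

end Cfsg.Agent.NFS
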