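import Cfsg.Agent.NFS.RkB

/-!
# A block with `J(T) ≠ J(S)` has `q = 2` and a partner

`T = S ⊓ 𝐍[W]`, `J = 𝐉[2, T]`, `R = S ⊓ 𝐂[W]`, `K = secCent ℓ̂ W₀`, `Z₀ = 𝐙[J]`, `Z_W = ⁅W, J⁆`.
-/

set_option autoImplicit false
set_option linter.unusedSectionVars false

namespace Cfsg.Agent.NFS

open Cfsg.Agent.PLocal hiding centralizer_anti
open Subgroup Cfsg Cfsg.Agent.PLocal.Amb Cfsg.Agent.PLocal.TV
open Cfsg.Agent.PLocal.SL2Nat Cfsg.Agent.PLocal.Bk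
open Cfsg.Agent.PLocal.CP (IsCharP MinOver ncl secCent)
open Cfsg.Agent.Solv.Ext (Inv)
open Cfsg.Agent.QT.Qrc (P2)
open scoped commutatorElement MatrixGroups Cfsg.Agent.PLocal.CP

variable {G : Type*} [Group G] [Finite G] {S W L : Subgroup G} {q : ℕ}

namespace Low

theorem secCent_cj (g : G) (A B : Subgroup G) :
    secCent cj(g, A) cj(g, B) = cj(g, secCent A B) := by
  ext x
  rw [mem_cj, CP.mem_secCent, CP.mem_secCent, normalizer_cj, mem_cj]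
  refine and_congr_right fun _ => ⟨fun k a ha => ?_, fun k a ha => ?_⟩
  · have := mem_cj.1 (k _ (conj_mem_cj g ha))
    convert this using 1
    simp only [commutatorElement_def]; group
  · rw [mem_cj]
    convert k _ (mem_cj.1 ha) using 1
    simp only [commutatorElement_def]; group

theorem relIndex_cj (g : G) (A B : Subgroup G) :
    (cj(g, A)).relIndex cj(g, B) = A.relIndex B :=
  relIndex_map_map_of_injective _ _ (conj_inj g)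

theorem N_cj {s : G} (hs : s ∈ S) (X : Subgroup G) : S ⊓ 𝐍[cj(s, X)] = cj(s, S ⊓ 𝐍[X]) := by
  rw [cj_inf, normalizer_cj, cj_of_mem hs]

theorem C_cj {s : G} (hs : s ∈ S) (X : Subgroup G) : S ⊓ 𝐂[cj(s, X)] = cj(s, S ⊓ 𝐂[X]) := by
  rw [cj_inf, centralizer_cj, cj_of_mem hs]

theorem J_cj {s : G} (hs : s ∈ S) (X : Subgroup G) :
    𝐉[2, S ⊓ 𝐍[cj(s, X)]] = cj(s, 𝐉[2, S ⊓ 𝐍[X]]) := by
  rw [N_cj hs, thompson_cj]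

theorem infC_cj (s : G) (X Y : Subgroup G) : cj(s, X) ⊓ 𝐂[cj(s, Y)] = cj(s, X ⊓ 𝐂[Y]) := by
  rw [cj_inf, centralizer_cj]

theorem nJ (T : Subgroup G) : T ≤ 𝐍[𝐉[2, T]] := fun t ht => by
  rw [← cj_eq_iff, ← thompson_cj, cj_of_mem ht]

/-- an abelian group centralises its sections -/
theorem le_secCent {X A B : Subgroup G} (hA : X ≤ 𝐂[A]) (hB : X ≤ 𝐂[B]) : X ≤ secCent A B :=
  fun x hx => CP.mem_secCent.2 ⟨centralizer_le_normalizer' B (hB hx), fun a ha => by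
    rw [commutatorElement_eq_one_iff_mul_comm.2 (mem_centralizer_iff.1 (hA hx) a ha).symm]
    exact one_mem _⟩

theorem C_le_K (A B : Subgroup G) : 𝐂[W] ≤ secCent (W ⊓ A) (W ⊓ B) :=
  le_secCent (centralizer_anti inf_le_left) (centralizer_anti inf_le_left)

theorem TnR : S ⊓ 𝐍[W] ≤ 𝐍[S ⊓ 𝐂[W]] :=
  le_normalizer_inf (inf_le_left.trans le_normalizer) (le_normalizer_centralizer inf_le_right)

end Low

theorem Bl.cj (h : Bl S W L q) {s : G} (hs : s ∈ S) : Bl S cj(s, W) cj(s, L) q := by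
  have e1 := Low.J_cj hs W
  refine ⟨h.pg, ?_, ?_, ?_, ?_, ?_, ?_, ?_⟩
  · rw [e1]; exact h.rk.map (conj_inj s)
  · rw [Low.C_cj hs, pRes_cj, commutator_cj]; exact cj_mono s h.cmR
  · rw [Low.C_cj hs, normalizer_cj]; exact cj_mono s h.nR
  · rw [Low.N_cj hs, Low.infC_cj, normalizer_cj]; exact cj_mono s h.nC
  · rw [e1, Low.infC_cj, Low.N_cj hs, normalizer_cj]; exact cj_mono s h.nq
  · rw [e1, Low.infC_cj, Low.infC_cj, Low.secCent_cj, Low.N_cj hs, Low.C_cj hs, ← cj_inf, ← cj_sup]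
    exact cj_mono s h.rt
  · rw [e1, Low.infC_cj, Low.infC_cj, Low.secCent_cj, Low.N_cj hs, Low.relIndex_cj]
    exact h.fld

/-- No involution acts as a root element on both partners.  `W' = cj(σ, W)`; `T` normalises `J`, `W`,
so (partner type is unique: `uniq`, `same`, and `nq` for `W'`) `T ≤ 𝐍[W']`, and `T = cj(σ, T)` by
order.  `t ∈ J R` (`rt`), `J = W' Q₀` (`nc`): `t = w' r`, `r ∈ R`.  Conjugating `t ∈ K` by `σ`: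
`t ∈ cj(σ, K)`; also `w' ∈ cj(σ, K)`, so `r ∈ T ⊓ cj(σ, K) ≤ J R' = W R'`, `R' = S ⊓ 𝐂[W']`: `r = w r'`
with `r' ∈ R ⊓ R'`.  `1 = t² = ⁅w', w⁆ r'²`, `r'² ∈ 𝐂[E]` (`sq_comm_cent`, `cmR`).  So `w' ∈ 𝐂[W]`, or
`w ∈ 𝐂[J]` (`cent_elt`); in the second case `t ∈ 𝐂[W']`, and `σ` gives `t ∈ 𝐂[W]`. -/
theorem Bl.dec (h : Bl S W L q) {σ t : G} (hσ : σ ∈ S ⊓ 𝐍[𝐉[2, S ⊓ 𝐍[W]]]) (h2 : σ * σ = 1)
    (hn : ¬ cj(σ, W) ≤ 𝐂[W]) (ht : t ∈ S ⊓ 𝐍[W]) (ht2 : t * t = 1) (hc : σ * t = t * σ)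
    (hK : t ∈ secCent (W ⊓ 𝐂[𝐉[2, S ⊓ 𝐍[W]]]) (W ⊓ 𝐂[L])) : t ∈ 𝐂[W] := by
  have h' := h.cj hσ.1
  have eJ : 𝐉[2, S ⊓ 𝐍[cj(σ, W)]] = 𝐉[2, S ⊓ 𝐍[W]] := by
    rw [Low.J_cj hσ.1, cj_of_mem_normalizer hσ.2]
  have r' := h'.rk
  have nq' := h'.nq
  have rt' := h'.rt
  rw [eJ] at r' nq' rt'
  have r := h.rk
  have rt := h.rt
  have JT : 𝐉[2, S ⊓ 𝐍[W]] ≤ S ⊓ 𝐍[W] := thompsonSubgroupOf_le _
  have TJ := Low.nJ (S ⊓ 𝐍[W])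
  generalize 𝐉[2, S ⊓ 𝐍[W]] = J at *
  -- `T ≤ 𝐍[W']`
  have TW' : S ⊓ 𝐍[W] ≤ 𝐍[cj(σ, W)] := fun x hx => by
    have rx := r'.cj (TJ hx)
    have n1 : ¬ cj(x, cj(σ, W)) ≤ 𝐂[W] := fun k => hn (by
      rw [← cj_of_mem_normalizer (normalizer_le_normalizer_centralizer W hx.2)] at k
      exact cj_le_cj_iff.1 k)
    have := r'.same rx (r.uniq r' rx hn n1) ((r.nc rx n1).2.trans (r.nc r' hn).2.symm)
    refine nq' (mem_inf.2 ⟨hx.1, ?_⟩)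
    rw [← cj_eq_iff, cj_inf, ← centralizer_cj, cj_of_mem_normalizer (TJ hx), this]
  have QR : J ⊓ 𝐂[W] ≤ S ⊓ 𝐂[W] := inf_le_inf_right _ (JT.trans inf_le_left)
  have k1 : t ∈ cj(σ, W) ⊔ (S ⊓ 𝐂[W]) := by
    have := rt ⟨ht, hK⟩
    refine (sup_le ?_ le_sup_right : J ⊔ (S ⊓ 𝐂[W]) ≤ _) this
    rw [← (r.nc r' hn).1]
    exact sup_le_sup_left QR _
  obtain ⟨w', hw', x, hx, e⟩ := (mem_sup_of_le_normalizer_right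
    ((r'.WJ.trans JT).trans Low.TnR)).1 k1
  have et : σ * t * σ⁻¹ = t := by rw [hc]; group
  have k2 : t ∈ secCent (cj(σ, W) ⊓ 𝐂[J]) (cj(σ, W) ⊓ 𝐂[cj(σ, L)]) := by
    have := conj_mem_cj σ hK
    rwa [et, ← Low.secCent_cj, ← Low.infC_cj, ← Low.infC_cj, cj_of_mem_normalizer hσ.2] at this
  have k3 : x ∈ secCent (cj(σ, W) ⊓ 𝐂[J]) (cj(σ, W) ⊓ 𝐂[cj(σ, L)]) :=
    (Subgroup.mul_mem_cancel_left _ (Low.C_le_K _ _ (isEA_le_centralizer r'.ea hw'))).1 (e ▸ k2)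
  have xT : x ∈ S ⊓ 𝐍[W] := ⟨hx.1, centralizer_le_normalizer' W hx.2⟩
  have k4 : x ∈ W ⊔ (S ⊓ 𝐂[cj(σ, W)]) := by
    have := rt' ⟨⟨hx.1, TW' xT⟩, k3⟩
    refine (sup_le ?_ le_sup_right : J ⊔ (S ⊓ 𝐂[cj(σ, W)]) ≤ _) this
    rw [← r.nc1 r' hn]
    exact sup_le_sup_left (inf_le_inf_right _ (JT.trans inf_le_left)) _
  obtain ⟨w, hw, y, hy, e'⟩ := (mem_sup_of_le_normalizer_right
    ((le_inf ((r.WJ.trans JT).trans inf_le_left) ((r.WJ.trans JT).trans TW')).trans Low.TnR)).1 k4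
  have k0 : y ∈ S ⊓ 𝐂[W] := (Subgroup.mul_mem_cancel_left _ (QR (r.WQ hw))).1 (e' ▸ hx)
  by_cases c : w' ∈ 𝐂[W]
  · rw [e]; exact mul_mem c hx.2
  have k5 := mem_centralizer_iff.1 k0.2 w hw
  have k6 := mem_centralizer_iff.1 hy.2 w' hw'
  have k7 := (isEA_iff.1 r.ea).2 _ hw
  have k8 := (isEA_iff.1 r'.ea).2 _ hw'
  rw [pow_two] at k7 k8
  have k9 : ⁅w', w⁆ * (y * y) = 1 := by
    rw [commutatorElement_def, inv_eq_of_mul_eq_one_left k7, inv_eq_of_mul_eq_one_left k8, ← ht2,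
      e, e']
    calc _ = w' * w * (w' * (w * y)) * y := by group
      _ = w' * w * (w' * y) * w * y := by rw [k5]; group
      _ = _ := by rw [k6]; group
  have k10 := r.cent_elt (r'.WJ hw') c hw (by
    rw [eq_inv_of_mul_eq_one_left k9]
    exact inv_mem ((sq_comm_cent r.ea inf_le_right h.cmR).2 _ k0))
  have k11 : t ∈ 𝐂[cj(σ, W)] := by
    rw [e, e']
    exact mul_mem (isEA_le_centralizer r'.ea hw') (mul_mem (centralizer_anti r'.WJ k10) hy.2)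
  rw [centralizer_cj, ← et] at k11
  exact conj_mem_cj_iff.1 k11

namespace Low

variable {J A : Subgroup G} {a : G}

theorem cent_of_comm (r : Rk J W L q) {V : Subgroup G} (hV : V ≤ J) (hn : ¬ W ≤ 𝐂[V]) {x : G}
    (hx : x ∈ W) (hc : x ∈ 𝐂[V]) : x ∈ 𝐂[J] := by
  obtain ⟨u, hu, hu'⟩ := SetLike.not_le_iff_exists.1 (mt le_centralizer_iff.1 hn)
  refine r.cent_elt (hV hu) hu' hx ?_
  rw [commutatorElement_eq_one_iff_mul_comm.2 (mem_centralizer_iff.1 hc u hu)]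
  exact one_mem _

theorem exu (r : Rk J W L q) : ∃ u ∈ J, u ∉ 𝐂[W] := by
  obtain ⟨B, hB, hn⟩ := r.exA
  obtain ⟨u, hu, hu'⟩ := SetLike.not_le_iff_exists.1 hn
  exact ⟨u, hB.1 hu, hu'⟩

theorem star (r : Rk J W L q) {W' : Subgroup G} (hZ : ⁅W', J⁆ ≤ 𝐂[𝐎[2, L]]) {w w' : G}
    (hw : w ∈ W) (hw' : w' ∈ W') (h : w' * w ∈ 𝐂[J]) : w ∈ 𝐂[J] := by
  obtain ⟨u, hu, hu'⟩ := exu r
  refine r.cent_elt hu hu' hw ?_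
  have e := mem_centralizer_iff.1 h u hu
  have : ⁅u, w⁆ = ⁅w'⁻¹, u⁆⁻¹ := by
    simp only [commutatorElement_def]
    calc _ = u * w'⁻¹ * (w' * w * u⁻¹) * w⁻¹ := by group
      _ = u * w'⁻¹ * (u⁻¹ * (u * (w' * w)) * u⁻¹) * w⁻¹ := by group
      _ = _ := by rw [e]; group
  rw [this]
  exact inv_mem (hZ (commutator_mem_commutator (inv_mem hw') hu))

theorem zc {x : G} (hx : x ∈ 𝐍[J]) : ⁅cj(x, W), J⁆ = cj(x, ⁅W, J⁆) := by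
  rw [← commutator_cj, cj_of_mem_normalizer hx]

theorem dich' (r : Rk J W L q) {x : G} (hx : x ∈ 𝐍[J]) (hn : x ∉ 𝐍[⁅W, J⁆]) :
    cj(x, ⁅W, J⁆) ≤ 𝐂[𝐎[2, L]] ∧ cj(x, W) ≤ 𝐂[W] := by
  have := r.dich (r.cj hx)
  rw [zc hx, cj_eq_iff] at this
  exact this.resolve_left hn

theorem conjC {x z : G} (hx : x ∈ 𝐍[J]) : x * z * x⁻¹ ∈ 𝐂[J] ↔ z ∈ 𝐂[J] :=
  (mem_normalizer_iff.1 (normalizer_le_normalizer_centralizer J hx) z).symm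

/-- the case `i = 2` -/
theorem dec_i (r : Rk J W L q) {σ z w w' : G} (hσ : σ ∈ 𝐍[J]) (ha : a ∈ 𝐍[J]) (hc : σ * a = a * σ)
    (hσZ : σ ∈ 𝐍[⁅W, J⁆]) (haZ : a ∉ 𝐍[⁅W, J⁆]) (hn : ¬ cj(σ, W) ≤ 𝐂[W]) (hz : z ∈ 𝐂[J])
    (hw : w ∈ W) (hw' : w' ∈ cj(a, W)) (e : σ * (z * w * w') * σ⁻¹ = z * w * w') :
    w ∈ 𝐂[J] ∧ w' ∈ 𝐂[J] := by
  have ra := r.cj ha
  have rs := r.cj (mul_mem hσ ha)
  have k1 : σ * w' * σ⁻¹ ∈ cj(σ * a, W) := by rw [cj_mul]; exact conj_mem_cj σ hw'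
  have k2 := (dich' r (mul_mem hσ ha) (mt (Subgroup.mul_mem_cancel_left _ hσZ).1 haZ)).2
  have k3 := (dich' r ha haZ).2
  have CW : 𝐂[J] ≤ 𝐂[W] := centralizer_anti r.WJ
  have k4 : σ * w * σ⁻¹ ∈ 𝐂[W] := by
    have : σ * w * σ⁻¹ = (σ * z * σ⁻¹)⁻¹ * (z * w * w') * (σ * w' * σ⁻¹)⁻¹ := by
      rw [← e]; group
    rw [this]
    exact mul_mem (mul_mem (inv_mem (CW ((conjC hσ).2 hz)))
      (mul_mem (mul_mem (CW hz) (isEA_le_centralizer r.ea hw)) (k3 hw'))) (inv_mem (k2 k1))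
  have k5 : w ∈ 𝐂[J] := (conjC hσ).1 (cent_of_comm (r.cj hσ) r.WJ hn (conj_mem_cj σ hw) k4)
  refine ⟨k5, (conjC hσ).1 (cent_of_comm rs ra.WJ (fun k => hn ?_) k1 ?_)⟩
  · rw [hc, cj_mul, centralizer_cj] at k
    exact cj_le_cj_iff.1 k
  · have : σ * w' * σ⁻¹ = (σ * (z * w) * σ⁻¹)⁻¹ * (z * w * w') := by rw [← e]; group
    rw [this]
    have CW' : 𝐂[J] ≤ 𝐂[cj(a, W)] := centralizer_anti ra.WJ
    exact mul_mem (inv_mem (CW' ((conjC hσ).2 (mul_mem hz k5))))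
      (mul_mem (CW' (mul_mem hz k5)) (isEA_le_centralizer ra.ea hw'))

theorem ZC (r : Rk J W L q) : ⁅W, J⁆ ≤ 𝐂[J] :=
  r.zw.1.trans (inf_le_right.trans (CP.omegaZ_le_centralizer J))

theorem ZW (r : Rk J W L q) : ⁅W, J⁆ ≤ W := r.zw.1.trans inf_le_left

/-- the case `c > 1` -/
theorem dec_c (r : Rk J W L q) {j x w w' : G} (ha : a ∈ 𝐍[J]) (hc : a * (j * x) * a⁻¹ = j * x)
    (haZ : a ∉ 𝐍[⁅W, J⁆]) (hj : j ∈ J) (hj' : j ∉ 𝐂[W]) (hx : x ∈ 𝐂[W])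
    (hw : w ∈ W) (hw' : w' ∈ cj(a, W)) (e : (j * x) * (w * w') * (j * x)⁻¹ = w * w') :
    w ∈ 𝐂[J] ∧ w' ∈ 𝐂[J] := by
  have ra := r.cj ha
  have k1 : a * j * a⁻¹ ∈ J := conj_mem_of_mem_normalizer ha hj
  have k2 : a * j * a⁻¹ ∉ 𝐂[cj(a, W)] := by rwa [centralizer_cj, conj_mem_cj_iff]
  have k3 : a * x * a⁻¹ ∈ 𝐂[cj(a, W)] := by rwa [centralizer_cj, conj_mem_cj_iff]
  have e1 : (j * x) * w * (j * x)⁻¹ = ⁅j, w⁆ * w := by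
    rw [commutatorElement_def]
    calc _ = j * (x * w) * x⁻¹ * j⁻¹ := by group
      _ = _ := by rw [← mem_centralizer_iff.1 hx w hw]; group
  have e2 : (j * x) * w' * (j * x)⁻¹ = ⁅a * j * a⁻¹, w'⁆ * w' := by
    rw [commutatorElement_def, ← hc]
    calc _ = (a * j * a⁻¹) * (a * x * a⁻¹ * w') * (a * x * a⁻¹)⁻¹ * (a * j * a⁻¹)⁻¹ := by group
      _ = _ := by rw [← mem_centralizer_iff.1 k3 w' hw']; group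
  have k4 : ⁅a * j * a⁻¹, w'⁆ ∈ ⁅cj(a, W), J⁆ := by
    rw [commutator_comm]; exact commutator_mem_commutator k1 hw'
  have k5 := mem_centralizer_iff.1 (ZC ra k4) w (r.WJ hw)
  have e3 : ⁅j, w⁆ * ⁅a * j * a⁻¹, w'⁆ = 1 := by
    have : ⁅j, w⁆ * w * (⁅a * j * a⁻¹, w'⁆ * w') = w * w' := by rw [← e1, ← e2, ← e]; group
    calc _ = ⁅j, w⁆ * (⁅a * j * a⁻¹, w'⁆ * w) * w' * (w * w')⁻¹ := by group
      _ = ⁅j, w⁆ * w * (⁅a * j * a⁻¹, w'⁆ * w') * (w * w')⁻¹ := by rw [← k5]; group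
      _ = 1 := by rw [this]; group
  have k6 : w ∈ 𝐂[J] := r.cent_elt hj hj' hw (by
    rw [eq_inv_of_mul_eq_one_left e3]
    rw [zc ha] at k4
    exact inv_mem ((dich' r ha haZ).1 k4))
  refine ⟨k6, ra.cent_elt k1 k2 hw' ?_⟩
  rw [commutatorElement_eq_one_iff_mul_comm.2 (mem_centralizer_iff.1 k6 j hj), one_mul] at e3
  rw [e3]
  exact one_mem _

theorem ri_ne (X Y : Subgroup G) : X.relIndex Y ≠ 0 := Subgroup.index_ne_zero_of_finite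

/-- `X ⊓ Y' ≤ Z`, `Y' ≤ Y` bound the index from below -/
theorem ri_le {X Y Y' Z : Subgroup G} (h1 : Y' ≤ Y) (h2 : Y' ⊓ X ≤ Z) :
    Z.relIndex Y' ≤ X.relIndex Y := by
  refine le_trans ?_ (relIndex_le_of_le_right h1 (ri_ne _ _))
  rw [← inf_relIndex_left Y' X]
  exact relIndex_le_of_le_left h2 (ri_ne _ _)

theorem NZ (r : Rk J W L q) (AJ : A ≤ 𝐍[J]) : ncl ⁅W, J⁆ A ≤ 𝐙[J] :=
  CP.ncl_le (r.zw.1.trans inf_le_right) (AJ.trans (CP.normalizer_le_normalizer_omegaZ J))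

/-- an element of `A` centralising `X` centralises the conjugates of `X` -/
theorem cent_cj (ea : IsElementaryAbelian 2 A) {t x : G} {X : Subgroup G} (ht : t ∈ A) (hx : x ∈ A)
    (h : t ∈ 𝐂[X]) : t ∈ 𝐂[cj(x, X)] := by
  have : x * t * x⁻¹ = t := by rw [isEA_comm ea hx ht]; group
  rw [centralizer_cj, ← this]
  exact conj_mem_cj x h

theorem cent_ncl (ea : IsElementaryAbelian 2 A) {t : G} {X : Subgroup G} (ht : t ∈ A)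
    (h : t ∈ 𝐂[X]) : t ∈ 𝐂[ncl X A] := by
  have : ncl X A ≤ 𝐂[zpowers t] := CP.ncl_le_iff.2 fun x hx =>
    le_centralizer_iff.1 (zpowers_le.2 (cent_cj ea ht hx h))
  exact le_centralizer_iff.1 this (mem_zpowers t)

/-- the case `k ≥ 2` -/
theorem big (r : Rk J W L q) (ea : IsElementaryAbelian 2 A) (AJ : A ≤ 𝐍[J]) (ha : a ∈ A)
    (haZ : a ∉ 𝐍[⁅W, J⁆]) {n : ℕ}
    (hb : ∀ Y ≤ J, IsElementaryAbelian 2 Y → A ⊓ 𝐂[W] ≤ 𝐂[Y] → (𝐂[A]).relIndex Y ≤ n) :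
    (𝐍[⁅W, J⁆]).relIndex A * q ≤ n ∧
      (((∃ σ ∈ A, σ ∈ 𝐍[⁅W, J⁆] ∧ ¬ cj(σ, W) ≤ 𝐂[W]) ∨
        ∃ j ∈ J, ∃ x ∈ 𝐂[W], j ∉ 𝐂[W] ∧ j * x ∈ A) → (𝐍[⁅W, J⁆]).relIndex A * (q * q) ≤ n) := by
  have ra := r.cj (AJ ha)
  obtain ⟨d1, d2⟩ := dich' r (AJ ha) haZ
  rw [← zc (AJ ha)] at d1
  have n1 := NZ r AJ
  have n2 : ncl ⁅W, J⁆ A ≤ 𝐂[J] := n1.trans (CP.omegaZ_le_centralizer J)
  have n3 : ncl ⁅W, J⁆ A ≤ J := n1.trans (CP.omegaZ_le J)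
  have YJ : ncl ⁅W, J⁆ A ⊔ W ⊔ cj(a, W) ≤ J := sup_le (sup_le n3 r.WJ) ra.WJ
  have Ye : IsElementaryAbelian 2 (ncl ⁅W, J⁆ A ⊔ W ⊔ cj(a, W) : Subgroup G) :=
    isEA_sup (isEA_sup (isEA_mono (CP.omegaZ_isEA J) n1) r.ea (n2.trans (centralizer_anti r.WJ)))
      ra.ea (sup_le (n2.trans (centralizer_anti ra.WJ)) (le_centralizer_iff.1 d2))
  have Ym : ∀ y ∈ ncl ⁅W, J⁆ A ⊔ W ⊔ cj(a, W), ∃ z ∈ ncl ⁅W, J⁆ A, ∃ w ∈ W, ∃ w' ∈ cj(a, W),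
      y = z * w * w' := fun y hy => by
    obtain ⟨u, hu, w', hw', rfl⟩ := (mem_sup_of_le_normalizer_right
      ((sup_le n3 r.WJ).trans (ra.JL.trans ra.nW))).1 hy
    obtain ⟨z, hz, w, hw, rfl⟩ := (mem_sup_of_le_normalizer_right
      (n3.trans (r.JL.trans r.nW))).1 hu
    exact ⟨z, hz, w, hw, w', hw', rfl⟩
  have WY : W ≤ ncl ⁅W, J⁆ A ⊔ W ⊔ cj(a, W) := le_sup_of_le_left le_sup_right
  have WY' : cj(a, W) ≤ ncl ⁅W, J⁆ A ⊔ W ⊔ cj(a, W) := le_sup_right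
  have NY : ncl ⁅W, J⁆ A ≤ ncl ⁅W, J⁆ A ⊔ W ⊔ cj(a, W) := le_sup_of_le_left le_sup_left
  have b1 := hb _ YJ Ye (fun t ht => by
    rw [Amb.centralizer_sup, Amb.centralizer_sup]
    exact ⟨⟨cent_ncl ea ht.1 (centralizer_anti (ZW r) ht.2), ht.2⟩, cent_cj ea ht.1 ha ht.2⟩)
  generalize ncl ⁅W, J⁆ A ⊔ W ⊔ cj(a, W) = Y at *
  have YY := isEA_le_centralizer Ye
  have b2 := (lay2 (A := A) (Z := ⁅W, J⁆) (K := 𝐂[𝐎[2, L]]) (Y := Y) (Y' := Y ⊓ 𝐂[J])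
    (fun x hx => (em (x ∈ 𝐍[⁅W, J⁆])).imp cj_eq_iff.2 fun k => (dich' r (AJ hx) k).1)
    r.zw.2.1 YY (le_inf NY n2) inf_le_left).trans b1
  refine ⟨le_trans (Nat.mul_le_mul_left _ ?_) b2, fun hh => le_trans (Nat.mul_le_mul_left _ ?_) b2⟩
  · rw [← r.idx.2.1]
    refine ri_le WY fun w hw => ?_
    obtain ⟨z, hz, y, hy, e⟩ := (mem_sup_of_le_normalizer_right (inf_le_left.trans
      (YY.trans ((centralizer_anti inf_le_left).trans (centralizer_le_normalizer' _))))).1 hw.2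
    refine star r d1 hw.1 (inv_mem (conj_mem_cj a hw.1)) ?_
    have e1 := mem_centralizer_iff.1 hy.2 a ha
    have c1 : (a * z * a⁻¹)⁻¹ * z ∈ 𝐂[J] := mul_mem (inv_mem ((conjC (AJ ha)).2 hz.2)) hz.2
    have e2 := mem_centralizer_iff.1 c1 y (YJ hy.1)
    have : (a * w * a⁻¹)⁻¹ * w = (a * z * a⁻¹)⁻¹ * z := by
      rw [e]
      calc _ = a * y⁻¹ * a⁻¹ * ((a * z * a⁻¹)⁻¹ * z * y) := by group
        _ = a * y⁻¹ * a⁻¹ * y * ((a * z * a⁻¹)⁻¹ * z) := by rw [← e2]; group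
        _ = a * (a * y)⁻¹ * y * ((a * z * a⁻¹)⁻¹ * z) := by group
        _ = _ := by rw [e1]; group
    rwa [this]
  · have c1 : Y ⊓ 𝐂[A] ≤ 𝐂[J] := fun y hy => by
      obtain ⟨z, hz, w, hw, w', hw', e⟩ := Ym y hy.1
      suffices k : w ∈ 𝐂[J] ∧ w' ∈ 𝐂[J] by
        rw [e]; exact mul_mem (mul_mem (n2 hz) k.1) k.2
      rcases hh with ⟨σ, hσ, h1, h2⟩ | ⟨j, hj, x, hx, h1, h2⟩
      · refine dec_i r (AJ hσ) (AJ ha) (isEA_comm ea hσ ha) h1 haZ h2 (n2 hz) hw hw' ?_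
        rw [← e, mem_centralizer_iff.1 hy.2 σ hσ]; group
      · refine dec_c r (AJ ha) (by rw [isEA_comm ea ha h2]; group) haZ hj h1 hx hw hw' ?_
        have k1 : j * x ∈ 𝐂[ncl ⁅W, J⁆ A] := cent_ncl ea h2
          (mul_mem (le_centralizer_iff.1 (ZC r) hj) (centralizer_anti (ZW r) hx))
        have k2 := mem_centralizer_iff.1 k1 z hz
        have k3 := mem_centralizer_iff.1 hy.2 _ h2
        rw [e] at k3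
        calc _ = z⁻¹ * (z * (j * x)) * (w * w') * (j * x)⁻¹ := by group
          _ = z⁻¹ * (j * x * (z * w * w')) * (j * x)⁻¹ := by rw [k2]; group
          _ = _ := by rw [k3]; group
    rw [sup_eq_left.2 (le_inf inf_le_left c1),
      ← relIndex_mul_relIndex (Y ⊓ 𝐂[J]) ((Y ⊓ 𝐂[J]) ⊔ W) Y le_sup_left (sup_le inf_le_left WY)]
    refine Nat.mul_le_mul ?_ ?_
    · rw [← r.idx.2.1]
      exact ri_le le_sup_right (inf_le_right.trans inf_le_right)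
    · rw [← ra.idx.2.1]
      refine ri_le WY' fun w' hw' => ?_
      obtain ⟨z, hz, w, hw, e⟩ := (mem_sup_of_le_normalizer_right
        ((inf_le_left.trans YJ).trans (r.JL.trans r.nW))).1 hw'.2
      have : w⁻¹ ∈ 𝐂[J] := star r d1 (inv_mem hw) hw'.1 (by rw [e, mul_inv_cancel_right]; exact hz.2)
      rw [e]
      exact mul_mem hz.2 (inv_mem_iff.1 this)

end Low

/-- `U = S ⊓ 𝐍[J]`, `𝐉[U] ≠ J` (`eq_J_of_J_norm`), so some `A ∈ maxEA 2 U` has `A ≰ J`, hence `A ≰ T`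
(`mem_maxEA_of_mx`).  For `x ∈ A`, `Rk J cj(x, W) cj(x, L) q`; `x ∈ A \ T` does not normalise `Q₀` (`nq`), so
by `dich`, `same`: either `cj(x, Z_W) ≤ 𝐂[E]` and `cj(x, W) ≤ 𝐂[W]`, or `cj(x, Z_W) = Z_W` and
`cj(x, W) ≰ 𝐂[W]`.  `A₂ = A ⊓ 𝐍[Z_W] ≥ A₁ = A ⊓ T ≥ A₁ ⊓ K ≥ A ⊓ 𝐂[W]`, indices `k = |A : A₂|`,
`i = |A₂ : A₁| ≤ 2` (`two_types`, `nq`), `e < q` (`fld`), `c ≤ q` (`rt`, `idx`:
`|T ⊓ K : R| ≤ |J R : R| = q`); `c = 1` if `i = 2` (`dec`).  For elementary abelian `Y ≤ U`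
centralised by `A ⊓ 𝐂[W]`: `|Y : C_Y(A)| ≤ |A : C_A(Y)| ≤ k i e c` (`relIndex_le_of_member`).
* `k = 1`: `i = 2`, `σ ∈ A \ T`, `Y = W`.  `C_W(A) ≤ W ⊓ cj(σ, W) ≤ ℓ̂` (`cent_elt`), so
  `q · |ℓ̂ : C_ℓ̂(A)| ≤ 2 e`.  If `e > 1`, `A` does not centralise `ℓ̂` and `2 q ≤ 2 e`, absurd.  So `q ≤ 2`.
* `k ≥ 2`: `a ∈ A \ A₂`, `W^a = cj(a, W) ≤ 𝐂[W]`, `Y = ncl Z_W A ⊔ W ⊔ W^a`, `Y' = Y ⊓ Z₀`; `lay2` with
  `K := 𝐂[E]`.  Elements of `Y` are `z w w'`.  If `i = 2` or `c > 1` then `C_Y(A) ≤ Z₀`: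
  (`i = 2`) for `y = z w w'` centralised by `σ`, `w w' σ(w w')σ⁻¹ ∈ Z₀`; `w, w', σ w' σ⁻¹` centralise `W`
  (`dich`: `σ a` moves `Z_W`), so `σ w σ⁻¹ ∈ 𝐂[W]`, so `w ∈ 𝐂[J]` (`cent_elt` for
  `cj(σ, W)`); then `σ w' σ⁻¹ ∈ w' Z₀ ≤ 𝐂[W^a]` and likewise `w' ∈ 𝐂[J]`.
  (`c > 1`) `t ∈ A₁ ⊓ K \ 𝐂[W]`, `t = j r` (`rt`).  For `x ∈ A`, `t = (x j x⁻¹)(x r x⁻¹)` acts on `cj(x, W)`
  as `x j x⁻¹ ∈ J \ 𝐂[cj(x, W)]`; so `t` centralises every `cj(x, Z_W) ≤ cj(x, W) ⊓ Z₀`, hence `z`.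
  `t y t⁻¹ = y` gives `⁅j, w⁆ ⁅a j a⁻¹, w'⁆ = 1`, the second factor lies in `cj(a, Z_W) ≤ 𝐂[E]`; so
  `w ∈ 𝐂[J]` (`cent_elt`), then `⁅a j a⁻¹, w'⁆ = 1` and `w' ∈ 𝐂[J]`.
  Then `|Y : Y'| ≥ q²` (`w w' ∈ Z₀` forces `[w, J] ≤ 𝐂[E]`, `w ∈ ℓ̂`), so `k q² ≤ k i e c < k q²`.
  Otherwise `i = c = 1`: `W ⊓ Y' C_Y(A) ≤ ℓ̂` (`w (a w a⁻¹) ∈ Z₀`), `k q ≤ k e`, absurd. -/
theorem Bl.low (h : Bl S W L q) (hJ : 𝐉[2, S ⊓ 𝐍[W]] ≠ 𝐉[2, S]) :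
    q = 2 ∧ ∃ σ ∈ S ⊓ 𝐍[𝐉[2, S ⊓ 𝐍[W]]], σ * σ = 1 ∧ ¬ cj(σ, W) ≤ 𝐂[W] := by
  have r := h.rk
  have JT : 𝐉[2, S ⊓ 𝐍[W]] ≤ S ⊓ 𝐍[W] := thompsonSubgroupOf_le _
  have TJ := Low.nJ (S ⊓ 𝐍[W])
  have TU : S ⊓ 𝐍[W] ≤ S ⊓ 𝐍[𝐉[2, S ⊓ 𝐍[W]]] := le_inf inf_le_left TJ
  -- a member `A` of `𝒜(U)` outside `T`
  obtain ⟨A, hA, hAT⟩ : ∃ A ∈ maxEA 2 (S ⊓ 𝐍[𝐉[2, S ⊓ 𝐍[W]]]), ¬ A ≤ S ⊓ 𝐍[W] := by
    by_contra k
    push Not at k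
    obtain ⟨A₀, h0⟩ := maxEA_nonempty 2 (S ⊓ 𝐍[𝐉[2, S ⊓ 𝐍[W]]])
    refine hJ (eq_J_of_J_norm h.pg (le_antisymm (thompsonSubgroupOf_le_iff.2 fun A hA => ?_)
      (J_le_of_mx TU ?_))).symm
    · exact le_thompsonSubgroupOf (mem_maxEA_of_mx (k A hA) hA.2.1
        ((mx_mono TU).trans (mx_eq hA).ge))
    · rw [← mx_eq h0]; exact card_le_mx (k _ h0) h0.2.1
  have dec : ∀ σ ∈ A, ¬ cj(σ, W) ≤ 𝐂[W] → ∀ t ∈ A, t ∈ 𝐍[W] →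
      t ∈ secCent (W ⊓ 𝐂[𝐉[2, S ⊓ 𝐍[W]]]) (W ⊓ 𝐂[L]) → t ∈ 𝐂[W] := fun σ hσ hn t ht h1 h2 =>
    h.dec (hA.1 hσ) (by rw [← pow_two]; exact hA.2.1.2 _ hσ) hn ⟨(hA.1 ht).1, h1⟩
      (by rw [← pow_two]; exact hA.2.1.2 _ ht) (isEA_comm hA.2.1 hσ ht) h2
  have nq := h.nq
  have rt := h.rt
  have fld := h.fld
  generalize 𝐉[2, S ⊓ 𝐍[W]] = J at *
  have ea := hA.2.1
  have AS : A ≤ S := hA.1.trans inf_le_left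
  have AJ : A ≤ 𝐍[J] := hA.1.trans inf_le_right
  have q2 := r.two_le
  have CK := Low.C_le_K (W := W) 𝐂[J] 𝐂[L]
  have nK : ∀ x ∈ S ⊓ 𝐍[W], x ∈ 𝐂[W ⊓ 𝐂[J]] → x ∈ secCent (W ⊓ 𝐂[J]) (W ⊓ 𝐂[L]) :=
    fun x hx hc => CP.mem_secCent.2 ⟨h.nC hx, fun a ha => by
      rw [commutatorElement_eq_one_iff_mul_comm.2 (mem_centralizer_iff.1 hc a ha).symm]
      exact one_mem _⟩
  generalize secCent (W ⊓ 𝐂[J]) (W ⊓ 𝐂[L]) = K at *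
  have nc : ∀ σ ∈ A, σ ∈ 𝐍[⁅W, J⁆] → σ ∉ 𝐍[W] → ¬ cj(σ, W) ≤ 𝐂[W] := fun σ hσ h1 h2 k => by
    have := r.same (r.cj (AJ hσ)) k (by rw [Low.zc (AJ hσ), cj_of_mem_normalizer h1])
    refine h2 (nq (mem_inf.2 ⟨AS hσ, ?_⟩))
    rw [← cj_eq_iff, cj_inf, ← centralizer_cj, cj_of_mem_normalizer (AJ hσ), this]
  -- the chain
  have l1 : A ⊓ 𝐂[W] ≤ A ⊓ 𝐍[W] ⊓ K :=
    le_inf (inf_le_inf_left _ (centralizer_le_normalizer' W)) (inf_le_right.trans CK)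
  have l3 : A ⊓ 𝐍[W] ≤ A ⊓ 𝐍[⁅W, J⁆] :=
    le_inf inf_le_left (le_normalizer_commutator inf_le_right (inf_le_left.trans AJ))
  have hn : (A ⊓ 𝐂[W]).relIndex A = (A ⊓ 𝐂[W]).relIndex (A ⊓ 𝐍[W] ⊓ K) *
      (A ⊓ 𝐍[W] ⊓ K).relIndex (A ⊓ 𝐍[W]) * (A ⊓ 𝐍[W]).relIndex (A ⊓ 𝐍[⁅W, J⁆]) *
      (𝐍[⁅W, J⁆]).relIndex A := by
    rw [relIndex_mul_relIndex _ _ _ l1 inf_le_left,
      relIndex_mul_relIndex _ _ _ (l1.trans inf_le_left) l3, ← inf_relIndex_left A 𝐍[⁅W, J⁆],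
      relIndex_mul_relIndex _ _ _ ((l1.trans inf_le_left).trans l3) inf_le_left]
  have hb : ∀ Y ≤ J, IsElementaryAbelian 2 Y → A ⊓ 𝐂[W] ≤ 𝐂[Y] →
      (𝐂[A]).relIndex Y ≤ (A ⊓ 𝐂[W]).relIndex A := fun Y h1 h2 h3 =>
    (relIndex_le_of_member hA h2 (h1.trans (JT.trans TU))).trans
      (relIndex_le_of_le_left h3 (Low.ri_ne _ _))
  have T1 : A ⊓ 𝐍[W] ≤ S ⊓ 𝐍[W] := inf_le_inf_right _ AS
  have hi : (A ⊓ 𝐍[W]).relIndex (A ⊓ 𝐍[⁅W, J⁆]) ≤ 2 := by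
    refine le_trans (Low.ri_le le_rfl ?_) (r.two_types (inf_le_left.trans AJ) inf_le_right).1
    exact le_inf (inf_le_left.trans inf_le_left)
      ((inf_le_inf_right _ (inf_le_left.trans AS)).trans nq)
  have he : (A ⊓ 𝐍[W] ⊓ K).relIndex (A ⊓ 𝐍[W]) < q :=
    lt_of_le_of_lt (Low.ri_le T1 le_rfl) fld
  have hc : (A ⊓ 𝐂[W]).relIndex (A ⊓ 𝐍[W] ⊓ K) ≤ q := by
    refine le_trans (Low.ri_le (X := S ⊓ 𝐂[W]) ((inf_le_inf_right _ T1).trans rt) ?_) ?_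
    · exact inf_le_inf (inf_le_left.trans inf_le_left) inf_le_right
    · rw [relIndex_sup_of_le_normalizer (JT.trans Low.TnR), ← r.idx.1]
      exact Low.ri_le le_rfl (le_inf (inf_le_left.trans (JT.trans inf_le_left)) inf_le_right)
  have hi1 : (A ⊓ 𝐍[W]).relIndex (A ⊓ 𝐍[⁅W, J⁆]) ≠ 1 →
      ∃ σ ∈ A, σ ∈ 𝐍[⁅W, J⁆] ∧ ¬ cj(σ, W) ≤ 𝐂[W] := fun k => by
    obtain ⟨σ, h1, h2⟩ := SetLike.not_le_iff_exists.1 (mt relIndex_eq_one.2 k)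
    exact ⟨σ, h1.1, h1.2, nc σ h1.1 h1.2 fun k' => h2 ⟨h1.1, k'⟩⟩
  have hc1 : ∀ σ ∈ A, ¬ cj(σ, W) ≤ 𝐂[W] → (A ⊓ 𝐂[W]).relIndex (A ⊓ 𝐍[W] ⊓ K) = 1 :=
    fun σ hσ k => relIndex_eq_one.2 fun t ht => ⟨ht.1.1, dec σ hσ k t ht.1.1 ht.1.2 ht.2⟩
  have hc2 : (A ⊓ 𝐂[W]).relIndex (A ⊓ 𝐍[W] ⊓ K) ≠ 1 →
      ∃ j ∈ J, ∃ x ∈ 𝐂[W], j ∉ 𝐂[W] ∧ j * x ∈ A := fun k => by
    obtain ⟨t, h1, h2⟩ := SetLike.not_le_iff_exists.1 (mt relIndex_eq_one.2 k)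
    obtain ⟨j, hj, x, hx, e⟩ := (mem_sup_of_le_normalizer_right (JT.trans Low.TnR)).1
      (rt ⟨T1 h1.1, h1.2⟩)
    exact ⟨j, hj, x, hx.2, fun k' => h2 ⟨h1.1.1, e ▸ mul_mem k' hx.2⟩, e ▸ h1.1.1⟩
  have he1 : (A ⊓ 𝐍[W] ⊓ K).relIndex (A ⊓ 𝐍[W]) ≠ 1 → (𝐂[A]).relIndex (W ⊓ 𝐂[J]) ≠ 1 :=
    fun k k' => k (relIndex_eq_one.2 fun t ht => ⟨ht, nK t (T1 ht)
      (le_centralizer_iff.1 (relIndex_eq_one.1 k') ht.1)⟩)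
  rw [hn] at hb
  generalize (A ⊓ 𝐂[W]).relIndex (A ⊓ 𝐍[W] ⊓ K) = c at *
  generalize (A ⊓ 𝐍[W] ⊓ K).relIndex (A ⊓ 𝐍[W]) = e at *
  generalize (A ⊓ 𝐍[W]).relIndex (A ⊓ 𝐍[⁅W, J⁆]) = i at *
  by_cases hk : A ≤ 𝐍[⁅W, J⁆]
  · obtain ⟨σ, hσ, hσ'⟩ := SetLike.not_le_iff_exists.1 hAT
    have n1 := nc σ hσ (hk hσ) fun k => hσ' ⟨AS hσ, k⟩
    refine ⟨?_, σ, hA.1 hσ, by rw [← pow_two]; exact ea.2 _ hσ, n1⟩
    have b1 := hb W r.WJ r.ea inf_le_right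
    have b2 : W ⊓ 𝐂[A] ≤ W ⊓ 𝐂[J] := fun w hw => ⟨hw.1, Low.cent_of_comm r (r.cj (AJ hσ)).WJ
      (mt le_centralizer_iff.1 n1) hw.1 (isEA_le_centralizer (r.cj (AJ hσ)).ea (by
        have := conj_mem_cj σ hw.1
        rwa [mem_centralizer_iff.1 hw.2 σ hσ, mul_inv_cancel_right] at this))⟩
    rw [relIndex_eq_one.2 hk, hc1 σ hσ n1, ← inf_relIndex_left,
      ← relIndex_mul_relIndex _ _ _ b2 inf_le_left, inf_relIndex_left W, r.idx.2.1] at b1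
    have b3 : (𝐂[A]).relIndex (W ⊓ 𝐂[J]) ≤ (W ⊓ 𝐂[A]).relIndex (W ⊓ 𝐂[J]) :=
      relIndex_le_of_le_left inf_le_right (Low.ri_ne _ _)
    have b4 := Low.ri_ne 𝐂[A] (W ⊓ 𝐂[J])
    generalize (𝐂[A]).relIndex (W ⊓ 𝐂[J]) = m at *
    have b5 : m * q ≤ e * 2 := by
      calc m * q ≤ _ := Nat.mul_le_mul_right _ b3
        _ ≤ _ := b1
        _ = e * i := by ring
        _ ≤ _ := Nat.mul_le_mul_left _ hi
    by_cases k : e = 1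
    · have : 1 * q ≤ m * q := Nat.mul_le_mul_right _ (by omega)
      omega
    · have := he1 k
      have : 2 * q ≤ m * q := Nat.mul_le_mul_right _ (by omega)
      omega
  · exfalso
    obtain ⟨a, ha, ha'⟩ := SetLike.not_le_iff_exists.1 hk
    obtain ⟨b1, b2⟩ := Low.big r ea AJ ha ha' hb
    have k0 := Nat.pos_of_ne_zero (Low.ri_ne 𝐍[⁅W, J⁆] A)
    generalize (𝐍[⁅W, J⁆]).relIndex A = k at *
    rw [mul_comm k] at b1 b2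
    have b3 := Nat.le_of_mul_le_mul_right b1 k0
    have lt : ∀ x ≤ q, x * e < q * q := fun x hx =>
      lt_of_le_of_lt (Nat.mul_le_mul_right _ hx) (Nat.mul_lt_mul_of_pos_left he (by omega))
    by_cases ki : i = 1
    · by_cases kc : c = 1
      · rw [ki, kc] at b3; omega
      · have := Nat.le_of_mul_le_mul_right (b2 (.inr (hc2 kc))) k0
        rw [ki, mul_one] at this
        exact (lt c hc).not_ge this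
    · obtain ⟨σ, h1, h2, h3⟩ := hi1 ki
      have := Nat.le_of_mul_le_mul_right (b2 (.inl ⟨σ, h1, h2, h3⟩)) k0
      rw [hc1 σ h1 h3, one_mul, mul_comm e] at this
      exact (lt i (hi.trans q2)).not_ge this

end Cfsg.Agent.NFS
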