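import Cfsg.Agent.NFS.DhB
import Cfsg.Agent.NFS.Low
import Cfsg.Agent.NFS.Env
import Cfsg.Agent.PLocal.Hyperplane

/-!
# Start and end of the chain
-/

set_option autoImplicit false
set_option linter.unusedSectionVars false

namespace Cfsg.Agent.NFS

open Cfsg.Agent.PLocal hiding centralizer_anti
open Subgroup Cfsg Cfsg.Agent.PLocal.Amb Cfsg.Agent.PLocal.TV
open Cfsg.Agent.PLocal.SL2Nat Cfsg.Agent.PLocal.Bk
open Cfsg.Agent.PLocal.CP (IsCharP MinOver ncl secCent)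
open Cfsg.Agent.Solv.Ext (Inv)
open Cfsg.Agent.QT.Qrc (P2)
open scoped commutatorElement MatrixGroups Cfsg.Agent.PLocal.CP

variable {G : Type*} [Group G] [Finite G] {S W L D : Subgroup G} {r f z : G}

omit [Finite G] in
theorem dhE_zp {x : G} (h : z * z = 1) (hx : x ∈ zpowers z) : x = 1 ∨ x = z := by
  obtain ⟨k, rfl⟩ := mem_zpowers_iff.1 hx
  have e : ∀ m : ℤ, z ^ (2 * m) = 1 := fun m => by rw [zpow_mul, zpow_two, h, one_zpow]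
  obtain ⟨m, rfl | rfl⟩ := Int.even_or_odd' k
  · exact .inl (e m)
  · exact .inr (by rw [zpow_add_one, e, one_mul])

theorem dhE_four {t : G} (hW : IsElementaryAbelian 2 W) (c4 : Nat.card W = 4) (hz : z ∈ W) (z1 : z ≠ 1)
    (ht : t ∈ W) (tz : t ∉ zpowers z) : (∀ w ∈ W, w = 1 ∨ w = z ∨ w = t ∨ w = z * t) ∧ fg z t = W := by
  have sq : ∀ w ∈ W, w * w = 1 := fun w hw => pow_two w ▸ hW.2 w hw
  have e := PLocal.card_mul_relIndex_of_le (zpowers_le.2 hz)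
  rw [c4, Nat.card_zpowers, orderOf_eq_prime (hW.2 z hz) z1] at e
  have k : ∀ w ∈ W, w = 1 ∨ w = z ∨ w = t ∨ w = z * t := fun w hw => by
    by_cases wz : w ∈ zpowers z
    · exact (dhE_zp (sq z hz) wz).imp_right .inl
    have := (mul_mem_iff_of_index_two (H := (zpowers z).subgroupOf W) (show (zpowers z).relIndex W = 2 by omega)
      (a := ⟨w, hw⟩) (b := ⟨t, ht⟩)).2 (iff_of_false wz tz)
    have e2 : w = w * t * t := by rw [mul_assoc, sq t ht, mul_one]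
    rcases dhE_zp (x := w * t) (sq z hz) this with e3 | e3 <;> rw [e3] at e2
    exacts [.inr (.inr (.inl (e2.trans (one_mul t)))), .inr (.inr (.inr e2))]
  refine ⟨k, le_antisymm (sup_le (zpowers_le.2 hz) (zpowers_le.2 ht)) fun w hw => ?_⟩
  rcases k w hw with rfl | rfl | rfl | rfl
  exacts [one_mem _, mem_sup_left (mem_zpowers _), mem_sup_right (mem_zpowers _),
    mul_mem_sup (mem_zpowers _) (mem_zpowers _)]

omit [Finite G] in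
theorem Fb.dhE_inv {t : G} {Γ : Subgroup G} (b : Fb S z t f⁻¹ Γ) : Fb S z t f Γ :=
  ⟨b.ΓS, fun _ hx => mem_centralizer_singleton_iff.2 (Commute.inv_right_iff.1
    (mem_centralizer_singleton_iff.1 (b.Γf hx))), b.Γt, b.zΓ, zpowers_inv (g := f) ▸ b.nrm, b.nq⟩

theorem dhE_split {ρ x : G} (hρ : ρ ∈ 𝐍[W]) (h : W ⊓ 𝐜[ρ] = ⊥) (hx : ⁅x, ρ⁆ ∈ W) :
    ∃ w ∈ W, w⁻¹ * x ∈ 𝐜[ρ] := by
  have key : ∀ a b : G, ⁅a, ρ⁆ = ⁅b, ρ⁆ → a⁻¹ * b ∈ 𝐜[ρ] := fun a b e => mem_centralizer_singleton_iff.2 (by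
    have e2 : a * ρ * a⁻¹ = b * ρ * b⁻¹ := mul_right_cancel e
    calc a⁻¹ * b * ρ = a⁻¹ * (b * ρ * b⁻¹) * b := by group
      _ = _ := by rw [← e2]; group)
  let φ : W → W := fun w => ⟨⁅(w : G), ρ⁆, by
    have := W.mul_mem w.2 (Amb.conj_mem_of_mem_normalizer hρ (W.inv_mem w.2))
    simpa [commutatorElement_def, mul_assoc] using this⟩
  obtain ⟨w, hw⟩ := Finite.injective_iff_surjective.1 (show Function.Injective φ from fun a b e =>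
    Subtype.ext (inv_mul_eq_one.1 (mem_bot.1 (h.le ⟨W.mul_mem (W.inv_mem a.2) b.2,
      key _ _ (congrArg Subtype.val e)⟩)))) ⟨_, hx⟩
  exact ⟨w, w.2, key _ _ (congrArg Subtype.val hw)⟩

theorem dhE_dh {W' : Subgroup G} {t u : G} (pg : IsPGroup 2 ↥(W ⊔ W')) (hn : W' ≤ 𝐍[W]) (zz : z * z = 1)
    (z1 : z ≠ 1) (tt : t * t = 1) (uu : u * u = 1) (ht : t ∈ W) (hu : u ∈ W') (zt : z * t = t * z)
    (ff : t * u * (t * u) = z) (k : ∀ w ∈ W, w = 1 ∨ w = z ∨ w = t ∨ w = z * t)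
    (k' : ∀ w ∈ W', w = 1 ∨ w = z ∨ w = u ∨ w = z * u) : Dh (W ⊔ W') (t * u) (t * u) z ∧
      ∀ s ∈ W ⊔ W', s ∉ zpowers (t * u) → (s = t ∨ s = z * t) ∨ (s = u ∨ s = z * u) := by
  have hf := mem_zpowers (t * u)
  have hz : z ∈ zpowers (t * u) := ff ▸ mul_mem hf hf
  have zu : z * u = u * z := by
    have : z * (t * u) = t * u * z := by rw [← ff]; group
    rwa [← mul_assoc, zt, mul_assoc, mul_assoc, mul_right_inj] at this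
  have zz' : ∀ x, z * (z * x) = x := fun x => by rw [← mul_assoc, zz, one_mul]
  have tz' : ∀ x, t * (z * x) = z * (t * x) := fun x => by rw [← mul_assoc, ← zt, mul_assoc]
  have key : ∀ s ∈ W ⊔ W', s ∉ zpowers (t * u) → (s = t ∨ s = z * t) ∨ (s = u ∨ s = z * u) := by
    intro s hs hs'
    obtain ⟨w, hw, w', hw', rfl⟩ := (mem_sup_of_le_normalizer_left hn).1 hs
    have m := mul_mem hz hf
    rcases k w hw with e | e | e | e <;> rcases k' w' hw' with e' | e' | e' | e' <;> rw [e, e'] at hs' ⊢ <;>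
      (try simp only [mul_assoc, one_mul, mul_one, zz, zz', tz', ← zt, true_or, or_true] at hs' ⊢) <;>
      first | exact absurd (one_mem _) hs' | exact absurd hz hs' | exact absurd hf hs' | exact absurd m hs'
  have sq : ∀ s ∈ W ⊔ W', s ∉ zpowers (t * u) → s * s = 1 ∧ s * t ∈ zpowers (t * u) := fun s hs hs' => by
    have i : u * t ∈ zpowers (t * u) := by
      have := inv_mem hf
      rwa [mul_inv_rev, inv_eq_of_mul_eq_one_right tt, inv_eq_of_mul_eq_one_right uu] at this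
    rcases key s hs hs' with (rfl | rfl) | rfl | rfl
    · exact ⟨tt, tt ▸ one_mem _⟩
    · exact ⟨by rw [mul_assoc, tz', zz', tt], by rwa [mul_assoc, tt, mul_one]⟩
    · exact ⟨uu, i⟩
    · exact ⟨by rw [mul_assoc, ← mul_assoc u, ← zu, mul_assoc, zz', uu], mul_assoc z u t ▸ mul_mem hz i⟩
  refine ⟨⟨pg, mul_mem_sup ht hu, hf, ff, zz, z1, ⟨t, mem_sup_left ht, fun e => z1 ?_⟩,
    fun s hs hs' => (sq s hs hs').1, fun s hs hs' s' h1 h2 => ?_⟩, key⟩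
  · have c : t * u * t = t * (t * u) := mem_centralizer_singleton_iff.1
      (zpowers_le.2 (mem_centralizer_singleton_iff.2 rfl) e : t ∈ 𝐜[t * u]) |>.symm
    rw [← ff, ← mul_assoc, c, ← mul_assoc, tt, one_mul, uu]
  · have := mul_mem (sq s hs hs').2 (inv_mem (sq s' h1 h2).2)
    rwa [mul_inv_rev, mul_assoc, mul_inv_cancel_left, inv_eq_of_mul_eq_one_right (sq s' h1 h2).1] at this

/-- `T = S ⊓ 𝐍[W]`, `J = 𝐉[T]`, `R = S ⊓ 𝐂[W]`, `W' = cj(σ, W)`, `Z_W = Z_{W'} = ⟨z⟩` (`nc`, `Rk.two`),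
`σ z σ⁻¹ = z`.  `t ∈ W \ ⟨z⟩`, `t' = σ t σ⁻¹ ∈ W' \ 𝐂[W]`, `W = fg z t`, `W' = fg z t'`, `r = f = t t'`,
`f² = ⁅t, t'⁆ = z`; `D = W ⊔ W'` has the 8 elements `zⁱ tʲ t'ᵏ`; reflections `t, z t, t', z t'`.
`fld` (`q = 2`) and `rt`: `T ≤ J R = W' R = ⟨t'⟩ R` (`nc`).  `ρ` from `Rk.two` for `u = t'`;
`Γ = R ⊓ 𝐜[ρ]`.  `ρ ∈ E`, `[R, ρ] ≤ W` (`cmR`), `W ⊓ 𝐜[ρ] = ⊥`: for `x ∈ R` the map `w ↦ ⁅w, ρ⁆` is onto `W`, so
`⁅x, ρ⁆ = ⁅w, ρ⁆` and `w⁻¹ x ∈ Γ`; `R = W Γ`, `W ⊓ Γ = ⊥`.  `t'` normalises `R` and inverts `ρ`, so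
normalises `Γ`; for `γ ∈ Γ ≤ T`: `γ` normalises `W'` (`cj(γ, W') ≰ 𝐂[W]`, so by `uniq`, `nc`, `same`
`γ` normalises `J ⊓ 𝐂[W']`; `nq` of `h.cj σ`)
so `⁅γ, t'⁆ ∈ Γ ⊓ W' ≤ Γ ⊓ ⟨z⟩ = ⊥` (`W' ⊓ R = ⟨z⟩`).  So `Fb S z t f Γ`; conjugating by `σ`
(`Fb.map`; `σ f σ⁻¹ = t' t = f⁻¹`) and `Fb.congr` give the other reflections.  `Y = J` normalises `W`,
`W'`; `S ⊓ 𝐍[W'] = cj(σ, T)` has Thompson subgroup `J` and the same `mx`. -/
theorem Bl.start (h : Bl S W L 2) {σ : G} (hσ : σ ∈ S ⊓ 𝐍[𝐉[2, S ⊓ 𝐍[W]]]) (h2 : σ * σ = 1)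
    (hn : ¬ cj(σ, W) ≤ 𝐂[W]) : ∃ (D : Subgroup G) (r f z : G), Pr S 𝐉[2, S ⊓ 𝐍[W]] D r f z := by
  have k := h.rk
  have k' := k.cj hσ.2
  have h' := h.cj hσ.1
  have σi : σ⁻¹ = σ := inv_eq_of_mul_eq_one_right h2
  have eJ : 𝐉[2, S ⊓ 𝐍[cj(σ, W)]] = 𝐉[2, S ⊓ 𝐍[W]] := by
    rw [normalizer_cj, ← cj_of_mem hσ.1, ← cj_inf, thompson_cj, cj_of_mem hσ.1, cj_of_mem_normalizer hσ.2]
  have JT : 𝐉[2, S ⊓ 𝐍[W]] ≤ S ⊓ 𝐍[W] := thompsonSubgroupOf_le _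
  have TJ : S ⊓ 𝐍[W] ≤ 𝐍[𝐉[2, S ⊓ 𝐍[W]]] := le_normalizer_thompsonSubgroupOf _
  have nq' := h'.nq
  rw [eJ] at nq'
  have TR : S ⊓ 𝐍[W] ≤ 𝐉[2, S ⊓ 𝐍[W]] ⊔ (S ⊓ 𝐂[W]) := (le_inf le_rfl (relIndex_eq_one.1 (by
    have := h.fld
    have := relIndex_pos (secCent (W ⊓ 𝐂[𝐉[2, S ⊓ 𝐍[W]]]) (W ⊓ 𝐂[L])) (S ⊓ 𝐍[W])
    omega))).trans h.rt
  have mJ := mx_J (S ⊓ 𝐍[W])
  have mJ' := mx_J (S ⊓ 𝐍[cj(σ, W)])
  rw [eJ] at mJ'
  have nq := h.nq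
  generalize hJ : 𝐉[2, S ⊓ 𝐍[W]] = J at k k' hσ eJ JT TJ nq' TR mJ mJ' ⊢
  obtain ⟨c4, c2, -, hρ⟩ := k.two
  obtain ⟨e1, e2⟩ := k.nc k' hn
  obtain ⟨z, z1, z2, ez⟩ := exists_eq_zpowers_of_card_prime c2
  rw [pow_two] at z2
  have zZ := k.zw.1 (ez.ge (mem_zpowers z))
  have zZ' := k'.zw.1 ((e2.trans ez).ge (mem_zpowers z))
  have zJ : z ∈ 𝐂[J] := CP.omegaZ_le_centralizer _ zZ.2
  have σz : σ * z * σ⁻¹ = z := by
    have : σ * z * σ⁻¹ ∈ zpowers z := by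
      rw [← ez, ← e2, ← cj_of_mem_normalizer hσ.2, commutator_cj, ez]
      exact conj_mem_cj σ (mem_zpowers z)
    exact (dhE_zp z2 this).resolve_left fun e => z1 (by simpa using e)
  obtain ⟨_, ⟨t, ht, rfl⟩, uC⟩ := SetLike.not_le_iff_exists.1 hn
  change σ * t * σ⁻¹ ∉ _ at uC
  have hu : σ * t * σ⁻¹ ∈ cj(σ, W) := conj_mem_cj σ ht
  have σu : σ * (σ * t * σ⁻¹) * σ⁻¹ = t := by
    rw [σi, ← mul_assoc, ← mul_assoc, h2, one_mul, mul_assoc, h2, mul_one]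
  generalize eu : σ * t * σ⁻¹ = u at uC hu σu
  have zC : zpowers z ≤ 𝐂[W] := zpowers_le.2 (Amb.centralizer_anti k.WJ zJ)
  have uz : u ∉ zpowers z := fun e => uC (zC e)
  have tz : t ∉ zpowers z := fun e => uz (by
    rcases dhE_zp z2 e with e | e <;> rw [← eu, e]
    · simp
    · exact σz.symm ▸ mem_zpowers z)
  obtain ⟨l1, f1⟩ := dhE_four k.ea c4 zZ.1 z1 ht tz
  obtain ⟨l2, f2⟩ := dhE_four k'.ea k'.two.1 zZ'.1 z1 hu uz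
  have tt : t * t = 1 := pow_two t ▸ k.ea.2 t ht
  have uu : u * u = 1 := pow_two u ▸ k'.ea.2 u hu
  have uJ := k'.WJ hu
  have zt : z * t = t * z := (zJ t (k.WJ ht)).symm
  have ff : t * u * (t * u) = z := by
    have e : t * u * (t * u) = ⁅t, u⁆ := by
      rw [commutatorElement_def, inv_eq_of_mul_eq_one_right tt, inv_eq_of_mul_eq_one_right uu, mul_assoc _ t]
    refine (dhE_zp z2 (e ▸ ez.le (commutator_mem_commutator ht uJ))).resolve_left fun e' => uC ?_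
    rw [← f1, fg, Amb.centralizer_sup, Amb.centralizer_zpowers, Amb.centralizer_zpowers]
    exact ⟨mem_centralizer_singleton_iff.2 (zJ u uJ), mem_centralizer_singleton_iff.2
      (commutatorElement_eq_one_iff_mul_comm.1 (e ▸ e')).symm⟩
  have DJ : W ⊔ cj(σ, W) ≤ J := sup_le k.WJ k'.WJ
  obtain ⟨dh, key⟩ := dhE_dh (k.pg.to_le DJ) (k'.WJ.trans (k.JL.trans k.nW)) z2 z1 tt uu ht hu zt ff l1 l2
  obtain ⟨ρ, ρE, -, ρu, ρW⟩ := hρ u uJ uC uu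
  have WR : W ≤ S ⊓ 𝐂[W] := le_inf (k.WJ.trans (JT.trans inf_le_left)) (isEA_le_centralizer k.ea)
  have RΓ : S ⊓ 𝐂[W] ≤ W ⊔ (S ⊓ 𝐂[W] ⊓ 𝐜[ρ]) := fun x hx => by
    obtain ⟨w, hw, e⟩ := dhE_split (k.nW (pRes_le 2 L ρE)) ρW (h.cmR (commutator_mem_commutator hx ρE))
    rw [← mul_inv_cancel_left w x]
    exact mul_mem_sup hw ⟨(S ⊓ 𝐂[W]).mul_mem ((S ⊓ 𝐂[W]).inv_mem (WR hw)) hx, e⟩
  have TW' : S ⊓ 𝐍[W] ≤ 𝐍[cj(σ, W)] := fun γ hγ => by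
    have k'' := k'.cj (TJ hγ)
    have n : ¬ cj(γ, cj(σ, W)) ≤ 𝐂[W] := by
      rwa [← cj_of_mem_normalizer (Amb.normalizer_le_normalizer_centralizer W hγ.2), cj_le_cj_iff]
    have := k'.same k'' (k.uniq k' k'' hn n) ((k.nc k'' n).2.trans e2.symm)
    refine nq' ⟨hγ.1, cj_eq_iff.1 ?_⟩
    rw [cj_inf, cj_of_mem_normalizer (TJ hγ), ← centralizer_cj, this]
  have zΓ : z ∉ S ⊓ 𝐂[W] ⊓ 𝐜[ρ] := fun e => z1 (mem_bot.1 (ρW.le ⟨zZ.1, e.2⟩))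
  have Γu : S ⊓ 𝐂[W] ⊓ 𝐜[ρ] ≤ 𝐜[u] := fun γ hγ => by
    have m1 : ⁅γ, u⁆ ∈ S ⊓ 𝐂[W] ⊓ 𝐜[ρ] := by
      have n : u ∈ 𝐍[S ⊓ 𝐂[W] ⊓ 𝐜[ρ]] := by
        rw [← cj_eq_iff, cj_inf, cj_inf, cj_of_mem (JT uJ).1, ← centralizer_cj, cj_of_mem_normalizer (JT uJ).2,
          ← centralizer_singleton_conj, ρu, ← Amb.centralizer_zpowers, zpowers_inv, Amb.centralizer_zpowers]
      have := mul_mem hγ (Amb.conj_mem_of_mem_normalizer n (inv_mem hγ))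
      rwa [← mul_assoc, ← mul_assoc] at this
    have m2 : ⁅γ, u⁆ ∈ cj(σ, W) := mul_mem (Amb.conj_mem_of_mem_normalizer
      (TW' ⟨hγ.1.1, centralizer_le_normalizer' W hγ.1.2⟩) hu) (inv_mem hu)
    rcases l2 _ m2 with e | e | e | e
    · exact mem_centralizer_singleton_iff.2 (commutatorElement_eq_one_iff_mul_comm.1 e)
    · exact absurd (e ▸ m1) zΓ
    · exact absurd (e ▸ m1.1.2) uC
    · exact absurd ((mul_mem_cancel_left (zC (mem_zpowers z))).1 (e ▸ m1.1.2)) uC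
  have Γt : S ⊓ 𝐂[W] ⊓ 𝐜[ρ] ≤ 𝐜[t] := fun γ hγ => mem_centralizer_singleton_iff.2 (hγ.1.2 t ht).symm
  have b : Fb S z t (t * u) (S ⊓ 𝐂[W] ⊓ 𝐜[ρ]) := by
    refine ⟨inf_le_left.trans inf_le_left, fun γ hγ => mem_centralizer_singleton_iff.2
      (Commute.mul_right (mem_centralizer_singleton_iff.1 (Γt hγ)) (mem_centralizer_singleton_iff.1 (Γu hγ))),
      Γt, zΓ, ?_, f1.symm ▸ nq⟩
    have m1 : t * u ∈ zpowers (t * u) ⊔ zpowers t := mem_sup_left (mem_zpowers _)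
    have m2 : t ∈ zpowers (t * u) ⊔ zpowers t := mem_sup_right (mem_zpowers _)
    have m3 : zpowers z ≤ zpowers (t * u) ⊔ zpowers t := zpowers_le.2 (ff ▸ mul_mem m1 m1)
    have R' := RΓ.trans (sup_le_sup_right (f1.ge.trans (sup_le m3 (zpowers_le.2 m2))) _)
    rw [f1]
    exact TR.trans (sup_le (e1.ge.trans (sup_le (le_sup_of_le_left (f2.ge.trans (sup_le m3 (zpowers_le.2
      ((mul_mem_cancel_left m2).1 m1))))) ((inf_le_inf_right _ (JT.trans inf_le_left)).trans R'))) R')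
  have b' := b.map (MulAut.conj σ) (cj_of_mem hσ.1)
  rw [map_mul, MulAut.conj_apply, MulAut.conj_apply, MulAut.conj_apply, σz, eu, σu, show u * t = (t * u)⁻¹ by
    rw [mul_inv_rev, inv_eq_of_mul_eq_one_right tt, inv_eq_of_mul_eq_one_right uu]] at b'
  obtain ⟨s₀, s1, s2⟩ := dh.ex
  have tf : t ∉ zpowers (t * u) := fun e => z1 (by
    have c : t * u * t = t * (t * u) := (mem_centralizer_singleton_iff.1
      (zpowers_le.2 (mem_centralizer_singleton_iff.2 rfl) e : t ∈ 𝐜[t * u])).symm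
    rw [← ff, ← mul_assoc, c, ← mul_assoc, tt, one_mul, uu])
  have uf : u ∉ zpowers (t * u) := fun e => tf ((mul_mem_cancel_right e).1 (mem_zpowers _))
  have all : ∀ s ∈ W ⊔ cj(σ, W), s ∉ zpowers (t * u) → (∃ Γ, Fb S z s (t * u) Γ) ∧
      (fg z s = W ∨ fg z s = cj(σ, W)) := fun s h1 h2 => by
    rcases key s h1 h2 with e | e
    · obtain ⟨a1, a2⟩ := Fb.congr dh (mem_sup_left ht) tf b e (.inl rfl)
      exact ⟨⟨_, a1⟩, .inl (a2.trans f1)⟩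
    · obtain ⟨a1, a2⟩ := Fb.congr dh (mem_sup_right hu) uf b'.dhE_inv e (.inl rfl)
      exact ⟨⟨_, a1⟩, .inr (a2.trans f2)⟩
  refine ⟨_, _, _, z, ⟨h.pg, dh, DJ.trans (JT.trans inf_le_left), fun s h1 h2 => (all s h1 h2).1,
    fun s h1 h2 s' h3 h4 => ?_⟩, JT.trans inf_le_left, k.jj, DJ,
    Amb.le_normalizer_sup (k.JL.trans k.nW) (k'.JL.trans k'.nW), fun s h1 h2 => ?_, fun s h1 h2 => ?_⟩
  · rcases (all s h1 h2).2 with e | e <;> rcases (all s' h3 h4).2 with e' | e' <;> rw [e, e']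
    exacts [⟨1, one_mem _, cj_one _⟩, ⟨σ, hσ.1, rfl⟩, ⟨σ⁻¹, inv_mem hσ.1, cj_inv_cj _ _⟩,
      ⟨1, one_mem _, cj_one _⟩]
  · rcases (all s h1 h2).2 with e | e <;> rw [e]
    exacts [hJ.le, eJ.le]
  · rcases (all s h1 h2).2 with e | e <;> rw [e]
    exacts [mJ.le, mJ'.le]

/-- `𝒱 = {z | ∃ D r f, Pr S J D r f z}`, `J = 𝐉[2, S]`; members are involutions of `J` central in `J`
(`Dh.norm`); `K = Γ` (`Pr.ne`); invariant under `Solv.Ext.hom G a` (`Pr.map`); `prod_fix`; `fp` with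
`K = ⊥`. -/
theorem Ce.chain_end {A : Type*} [Group A] [MulDistribMulAction A G] (c : Ce A S)
    (h : Pr S 𝐉[2, S] D r f z) : False := by
  obtain ⟨t, ht, ht'⟩ := h.dd.dh.ex
  obtain ⟨Γ, b⟩ := h.dd.fb t ht ht'
  obtain ⟨π, -, π1, π2, π3⟩ := prod_fix (𝒱 := {z | ∃ D r f, Pr S 𝐉[2, S] D r f z}) (v₀ := z) (K := Γ)
    (fun v ⟨_, _, _, h1⟩ w ⟨_, _, _, h2⟩ => mul_inv_eq_iff_eq_mul.1
      (h2.dd.dh.norm (h2.nD (h1.DY h1.dd.dh.basic.2.1))).2.1) ⟨D, r, f, h⟩ b.zΓ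
    fun v ⟨_, _, _, h1⟩ ne => (h.ne h1 ne).2 t ht ht' Γ b
  refine π1 (c.fp ⊥ Solv.Ext.inv_bot π (π2 fun v ⟨_, _, _, h1⟩ => h1.dd.dh.zz) fun a => ⟨1, one_mem _, ?_⟩)
  rw [one_mul, inv_one, mul_one]
  exact π3 (MulDistribMulAction.toMulAut A G a) fun v ⟨_, _, _, h1⟩ =>
    ⟨_, _, _, h1.map _ (c.inv.map_eq a) ((env_inv_J c.inv).map_eq a)⟩

end Cfsg.Agent.NFS
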