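import Cfsg.Agent.NFS.MdC

/-!
# Module lemma: `P2` and `P4` 
-/

set_option autoImplicit false
set_option linter.unusedSectionVars false

namespace Cfsg.Agent.NFS

open Cfsg.Agent.PLocal hiding centralizer_anti
open Subgroup Cfsg Cfsg.Agent.PLocal.Amb Cfsg.Agent.PLocal.TV
open Cfsg.Agent.PLocal.SL2Nat Cfsg.Agent.PLocal.Bk
open Cfsg.Agent.PLocal.CP (IsCharP MinOver ncl secCent)
open Cfsg.Agent.Solv.Ext (Inv)
open Cfsg.Agent.QT.Qrc (P2)
open scoped commutatorElement MatrixGroups Cfsg.Agent.PLocal.CP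

variable {G : Type*} [Group G] [Finite G] {V S D F : Subgroup G}

theorem mdd_cent {U : Subgroup G} {b y : G} (hy : Odd (orderOf y)) (hi : b * y * b⁻¹ = y⁻¹)
    (hn : y ∈ 𝐍[U]) (h1 : b ∈ 𝐂[U]) : y ∈ 𝐂[U] := by
  have h2 := mul_mem h1 (conj_mem_of_mem_normalizer (normalizer_le_normalizer_centralizer U hn)
    (inv_mem h1))
  rw [show b * (y * b⁻¹ * y⁻¹) = (b * y * b⁻¹) * y⁻¹ by group, hi, ← mul_inv_rev, inv_mem_iff,
    ← pow_two] at h2
  obtain ⟨k, hk⟩ := hy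
  have : y = (y ^ 2) ^ (k + 1) := by
    rw [← pow_mul, show 2 * (k + 1) = orderOf y + 1 by omega, pow_succ, pow_orderOf_eq_one, one_mul]
  rw [this]
  exact pow_mem h2 _

theorem mdd_mem {U : Subgroup G} {b : G} : b ∈ 𝐂[U] ↔ U ≤ 𝐜[b] :=
  ⟨fun h _ hu => mem_centralizer_singleton_iff.2 (h _ hu),
    fun h _ hu => mem_centralizer_singleton_iff.1 (h hu)⟩

theorem mdd_le {U X : Subgroup G} (h : X ≤ 𝐍[U]) : ⁅U, X⁆ ≤ U :=
  commutator_le.2 fun u hu x hx => by
    rw [commutatorElement_def, mul_assoc, mul_assoc, ← mul_assoc x]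
    exact mul_mem hu (conj_mem_of_mem_normalizer (h hx) (inv_mem hu))

/-- The index is a power of 2; if `< 8` then `Sm V S b`.  If `b` centralises `Z(D)`: `typeB`; else
`exists_inv_prime` for `D ⊓ 𝐂[D]`, `invz`, `three`, `five`. -/
theorem Md.two (h : Md V S D F) {b : G} (hb : b ∈ S) (h2 : b * b = 1) (h1 : b ≠ 1) :
    8 ≤ (𝐜[b]).relIndex V := by
  have := Fact.mk Nat.prime_two
  by_contra hlt
  obtain ⟨n, hn⟩ := isEA_card h.ea
  obtain ⟨k, -, hk⟩ := (Nat.dvd_prime_pow Nat.prime_two).1 (hn ▸ relIndex_dvd_card (𝐜[b]) V)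
  have hs : Sm V S b := ⟨hb, h2, h1, by
    rw [hk] at hlt ⊢
    have : k ≤ 2 := by
      by_contra h3
      exact hlt ((by norm_num : 8 = 2 ^ 3).trans_le (Nat.pow_le_pow_right two_pos (by omega)))
    exact (Nat.pow_le_pow_right two_pos this).trans (by norm_num)⟩
  by_cases hc : D ⊓ 𝐂[D] ≤ 𝐜[b]
  · exact h.typeB hs hc
  obtain ⟨z, hz, hp, hi⟩ := exists_inv_prime h2
    (le_normalizer_inf h.SD (le_normalizer_centralizer h.SD) hb) hc
  rcases (h.invz hs hz hp hi).1 with e | e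
  · exact h.three hs hz e hi
  · exact h.five hs hz e hi

theorem Md.relB (h : Md V S D F) {B : Subgroup G} (hB : B ≤ S) :
    (𝐂[V]).relIndex B = Nat.card B := by
  rw [← inf_relIndex_right, show 𝐂[V] ⊓ B = ⊥ from eq_bot_iff.2
    ((le_inf (inf_le_right.trans hB) inf_le_left).trans h.fS.le), relIndex_bot_left]

theorem Md.induct (h : Md V S D F) (Q : Subgroup G → Prop) (hQ : ∀ B B', B' ≤ B → Q B → Q B')
    (f : ℕ → ℕ) (c : ℕ) (mono : Monotone f) (f2 : f 2 ≤ 8) (fs : ∀ n, f (2 * n) ≤ c * f n)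
    (step : ∀ (B B₁ : Subgroup G) (b y : G), Q B → B ≤ S → IsElementaryAbelian 2 B → B₁ ≤ B →
      b ∈ B → y ∈ D → y ≠ 1 → y ∈ 𝐂[B₁] → b * y * b⁻¹ = y⁻¹ →
      c ≤ (𝐜[b]).relIndex (V ⊓ 𝐂[B₁]))
    (B : Subgroup G) : Q B → B ≤ S → IsElementaryAbelian 2 B → B ≠ ⊥ →
      f (Nat.card B) ≤ (𝐂[B]).relIndex V := by
  induction B using WellFoundedLT.induction with | ind B ih => ?_
  intro q hB hE h0
  obtain ⟨B₁, h1, b, hb, h2, h3, y, hy, hp, hi⟩ := exists_hyper h.odd h.nil hE (hB.trans h.SD)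
    fun k => h0 (eq_bot_iff.2 ((le_inf hB k).trans h.cD.le))
  have bb : b * b = 1 := by rw [← pow_two]; exact hE.2 b hb
  have eC : 𝐂[B] = 𝐂[B₁] ⊓ 𝐜[b] := by rw [← h3, Amb.centralizer_sup, Amb.centralizer_zpowers]
  have hc : Nat.card B ≤ 2 * Nat.card B₁ := by
    rw [← h3, sup_comm]
    refine (Nat.le_of_dvd (Nat.mul_pos Nat.card_pos Nat.card_pos)
      (Grp.card_sup_dvd_of_le_normalizer (zpowers_le.2 (centralizer_le_normalizer' _
        (centralizer_anti h1 (isEA_le_centralizer hE hb)))))).trans (Nat.mul_le_mul_right _ ?_)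
    rw [Nat.card_zpowers]
    exact orderOf_le_of_pow_eq_one two_pos (by rw [pow_two, bb])
  refine (mono hc).trans ?_
  by_cases h4 : B₁ = ⊥
  · subst h4
    rw [eC, card_bot, show 𝐂[(⊥ : Subgroup G)] = ⊤ from eq_top_iff.2 fun x _ => by
      simp, top_inf_eq]
    exact f2.trans (h.two (hB hb) bb fun e => h2 (e ▸ one_mem _))
  have k1 := ih B₁ (lt_of_le_of_ne h1 fun e => h2 (e ▸ hb)) (hQ _ _ h1 q) (h1.trans hB)
    (isEA_mono hE h1) h4
  have k2 := step B B₁ b y q hB hE h1 hb hy.1 (fun e => by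
    rw [e, orderOf_one] at hp; exact Nat.not_prime_one hp) hy.2 hi
  have k3 := relIndex_mul_relIndex (𝐜[b] ⊓ (V ⊓ 𝐂[B₁])) (V ⊓ 𝐂[B₁]) V inf_le_right inf_le_left
  rw [inf_relIndex_right, inf_comm V, inf_relIndex_right, ← inf_assoc, inf_relIndex_right,
    inf_comm 𝐜[b], ← eC, inf_comm _ V] at k3
  rw [← k3]
  exact (fs _).trans (Nat.mul_le_mul k2 k1)

theorem Md.oddy (h : Md V S D F) {y : G} (hy : y ∈ D) : Odd (orderOf y) :=
  h.odd.of_dvd_nat (orderOf_dvd_natCard D hy)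

theorem Md.ncy (h : Md V S D F) {y : G} (hy : y ∈ D) (h1 : y ≠ 1) : y ∉ 𝐂[V] := fun k =>
  h1 (mem_bot.1 (h.fD.le ⟨hy, k⟩))

/-- `(𝐂[V]).relIndex B = |B|` by `fS`.  Induction on `|B|` for elementary abelian `1 ≠ B ≤ S`. -/
theorem Md.p4 (h : Md V S D F) : P4 V S := by
  have := Fact.mk Nat.prime_two
  intro B hB hE hn
  rw [h.relB hB]
  refine h.induct (fun _ => True) (fun _ _ _ _ => trivial) (fun n => 4 * n) 2
    (fun a b k => Nat.mul_le_mul_left 4 k) le_rfl (fun n => by omega) ?_ B trivial hB hE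
    fun e => hn (e ▸ bot_le)
  intro B B₁ b y _ hB hE h1 hb hy y1 yc hi
  have k0 : (𝐜[b]).relIndex (V ⊓ 𝐂[B₁]) ≠ 0 := index_ne_zero_of_finite
  by_contra k
  have k1 : V ⊓ 𝐂[B₁] ≤ 𝐜[b] := relIndex_eq_one.1 (by omega)
  have k2 := mdd_cent (h.oddy hy) hi (le_normalizer_inf (zpowers_le.2 (h.DV hy))
    (le_normalizer_centralizer (zpowers_le.2 (centralizer_le_normalizer' _ yc))) (mem_zpowers y))
    (mdd_mem.2 k1)
  exact h.ncy hy y1 (CP.pxq_elem (h.pg.to_le (h1.trans hB)) (isEA_isPGroup h.ea)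
    ((h1.trans hB).trans h.SV) (Nat.coprime_two_right.2 (h.oddy hy)) yc (h.DV hy)
    fun u hu hc => (k2 u ⟨hu, hc⟩).symm)

/-- A quadratic `B ≤ S` is elementary abelian; `2 |B|² ≤ |V : C_V(B)|` by induction. -/
theorem Md.p2 (h : Md V S D F) : P2 V S := by
  have := Fact.mk Nat.prime_two
  intro B hB hq hn
  have hE : IsElementaryAbelian 2 B := by
    have q : ⁅V, B⁆ ≤ 𝐂[B] := commutator_eq_bot_iff_le_centralizer.1 hq
    have VB : ⁅V, B⁆ ≤ V := mdd_le (hB.trans h.SV)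
    have one : ∀ x ∈ B, x ∈ 𝐂[V] → x = 1 := fun x hx k => mem_bot.1 (h.fS.le ⟨hB hx, k⟩)
    refine isEA_iff.2 ⟨fun a ha b hb => ?_, fun a ha => one _ (pow_mem ha 2) fun v hv => ?_⟩
    · refine commutatorElement_eq_one_iff_mul_comm.1 (one _ (mul_mem (mul_mem (mul_mem ha hb)
        (inv_mem ha)) (inv_mem hb)) ?_)
      exact commutator_eq_bot_iff_le_centralizer.1 (commutator_commutator_eq_bot_of_rotate
        (H₁ := B) (H₂ := B) (H₃ := V) (by rwa [commutator_comm B V]) hq)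
        (commutator_mem_commutator ha hb)
    · have hm := commutator_mem_commutator hv ha
      have k1 := q hm a ha
      have k2 := h.ea.2 _ (VB hm)
      have e : v * a = ⁅v, a⁆ * a * v := by rw [commutatorElement_def]; group
      generalize ⁅v, a⁆ = m at *
      calc v * a ^ 2 = v * a * a := by rw [pow_two, mul_assoc]
        _ = m * a * (v * a) := by rw [← mul_assoc (m * a), ← e]
        _ = m * (a * m) * a * v := by rw [e]; group
        _ = m ^ 2 * a ^ 2 * v := by rw [k1, pow_two, pow_two]; group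
        _ = _ := by rw [k2, one_mul]
  have h0 : B ≠ ⊥ := fun e => hn (e ▸ bot_le)
  rw [h.relB hB]
  refine lt_of_lt_of_le (by have := Nat.card_pos (α := B); nlinarith) (h.induct
    (fun B => ⁅⁅V, B⁆, B⁆ = ⊥) (fun B B' k e => eq_bot_iff.2
      ((commutator_mono (commutator_mono le_rfl k) k).trans e.le)) (fun n => 2 * n ^ 2) 4
    (fun a b k => Nat.mul_le_mul_left 2 (Nat.pow_le_pow_left k 2)) le_rfl (fun n => by nlinarith)
    ?_ B hq hB hE h0)
  intro B B₁ b y hq hB hE h1 hb hy y1 yc hi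
  have yV : zpowers y ≤ 𝐍[V] := zpowers_le.2 (h.DV hy)
  have bb : b * b = 1 := by rw [← pow_two]; exact hE.2 b hb
  have k1 : y ∈ 𝐂[⁅V, B₁⁆] := mdd_cent (h.oddy hy) hi (le_normalizer_commutator yV
    (zpowers_le.2 (centralizer_le_normalizer' _ yc)) (mem_zpowers y))
    (centralizer_anti (commutator_mono le_rfl h1)
      (cent_symm (commutator_eq_bot_iff_le_centralizer.1 hq) hb))
  have k2 : ⁅V, zpowers y⁆ ≤ 𝐂[B₁] := by
    rw [commutator_comm]
    refine commutator_eq_bot_iff_le_centralizer.1 (commutator_commutator_eq_bot_of_rotate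
      (commutator_eq_bot_iff_le_centralizer.2 (cent_symm (zpowers_le.2 k1))) ?_)
    rw [commutator_eq_bot_iff_le_centralizer.2 (cent_symm (zpowers_le.2 yc)), commutator_bot_left]
  have hU := isEA_mono h.ea (mdd_le yV)
  have nb : b ∈ 𝐍[zpowers y] := mem_normalizer_of_cj_le (by
    rw [MonoidHom.map_zpowers, zpowers_le]
    change b * y * b⁻¹ ∈ _
    rw [hi]; exact inv_mem (mem_zpowers y))
  obtain ⟨s1, s2, -⟩ := odd_split h.ea (by rw [Nat.card_zpowers]; exact h.oddy hy) yV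
  obtain ⟨f1, -, -⟩ := free_inv hU bb (h.oddy hy) hi
    (le_normalizer_commutator (zpowers_le.2 (h.SV (hB hb))) (zpowers_le.2 nb) (mem_zpowers b))
    (le_normalizer_commutator yV le_normalizer (mem_zpowers y))
    (by rwa [Amb.centralizer_zpowers] at s2)
  have n4 := h.one hy (hB hb) hi
  have n1 : ⁅V, zpowers y⁆ ≠ ⊥ := fun e =>
    h.ncy hy y1 (cent_symm (commutator_eq_bot_iff_le_centralizer.1 e) (mem_zpowers y))
  refine le_trans ?_ (relIndex_le_of_le_right (le_inf (mdd_le yV) k2) index_ne_zero_of_finite)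
  generalize ⁅V, zpowers y⁆ = U at *
  have e := Grp.card_inf_mul_relIndex' 𝐜[b] U
  obtain ⟨n, hn⟩ := isEA_card (isEA_mono hU (inf_le_left : U ⊓ 𝐜[b] ≤ U))
  rw [inf_comm, f1, pow_two] at e
  rw [Nat.eq_of_mul_eq_mul_left Nat.card_pos e, hn]
  rw [hn] at f1
  match n, f1 with
  | 0, f1 => exact absurd (card_eq_one.1 f1) n1
  | 1, f1 => exact absurd f1 n4
  | n + 2, _ => exact (by norm_num : 4 = 2 ^ 2).trans_le (Nat.pow_le_pow_right two_pos (by omega))

end Cfsg.Agent.NFS
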