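import Cfsg.Agent.NFS.Defs

/-!
# Module lemma, basic facts 

Coprime action on an elementary abelian 2-group `V` normalised by odd order elements.  Library:
`ca find` coprime action lemmas (`commutator_sup_centralizer`, `inf = ⊥`, A×B lemma, generation by
centralisers of hyperplanes).
-/

set_option autoImplicit false
set_option linter.unusedSectionVars false
set_option linter.unusedVariables false

namespace Cfsg.Agent.NFS

open Cfsg.Agent.PLocal hiding centralizer_anti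
open Subgroup Cfsg Cfsg.Agent.PLocal.Amb Cfsg.Agent.PLocal.TV
open Cfsg.Agent.PLocal.SL2Nat Cfsg.Agent.PLocal.Bk
open Cfsg.Agent.PLocal.CP (IsCharP MinOver ncl secCent)
open Cfsg.Agent.Solv.Ext (Inv)
open Cfsg.Agent.QT.Qrc (P2)
open scoped commutatorElement MatrixGroups Cfsg.Agent.PLocal.CP

variable {G : Type*} [Group G] [Finite G] {V X Y D B : Subgroup G} {x b : G}

/-- `V = [V, X] × C_V(X)` for `X` of odd order; also `[V, X, X] = [V, X]`. -/
theorem odd_split (hV : IsElementaryAbelian 2 V) (hX : Odd (Nat.card X)) (hn : X ≤ 𝐍[V]) :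
    ⁅V, X⁆ ⊔ (V ⊓ 𝐂[X]) = V ∧ ⁅V, X⁆ ⊓ 𝐂[X] = ⊥ ∧ ⁅⁅V, X⁆, X⁆ = ⁅V, X⁆ := by
  have hcop : (Nat.card X).Coprime (Nat.card V) :=
    Solv.coprime_card_of_isPGroup (isEA_isPGroup hV) (Nat.coprime_two_right.2 hX)
  have hs : Group.IsSolvable X ∨ Group.IsSolvable V :=
    Or.inr (Solv.isSolvable_of_isPGroup (isEA_isPGroup hV))
  haveI := hV.1
  refine ⟨Solv.coprime_commutator_sup_centralizer X V hn hcop hs, ?_,
    Solv.coprime_commutator_commutator X V hn hcop hs⟩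
  have h := Solv.coprime_centralizer_inf_commutator X V hn hcop
  have hle := Solv.commutator_le_of_le_normalizer hn
  rw [eq_bot_iff, ← h]
  exact le_inf (le_inf (inf_le_left.trans hle) inf_le_right) inf_le_left

/-- `v ↦ ⁅v, b⁆` is a homomorphism `V → V` with kernel `C_V(b)` and image `[V, b]`. -/
theorem card_comm_inv (hV : IsElementaryAbelian 2 V) (hb : b * b = 1) (hn : b ∈ 𝐍[V]) :
    Nat.card ↥⁅V, zpowers b⁆ = (𝐜[b]).relIndex V ∧ ⁅V, zpowers b⁆ ≤ V ⊓ 𝐜[b] := by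
  have hc := (isEA_iff.1 hV).1
  constructor
  · have h1 := card_commutator_zpowers_mul_card_centralizer hc hn
    rw [Amb.centralizer_zpowers] at h1
    have h2 := Grp.card_inf_mul_relIndex' (𝐜[b]) V
    rw [inf_comm, ← h1, mul_comm] at h2
    exact (Nat.eq_of_mul_eq_mul_right Nat.card_pos h2).symm
  · refine le_inf (Solv.commutator_le_of_le_normalizer (zpowers_le.2 hn)) ?_
    rw [← commHom_range hc hn]
    rintro _ ⟨⟨v, hv⟩, rfl⟩
    show ⁅v, b⁆ ∈ 𝐜[b]
    rw [mem_centralizer_singleton_iff]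
    have hw : b * v * b⁻¹ ∈ V := Amb.conj_mem_of_mem_normalizer hn hv
    have hv2 : v⁻¹ = v := inv_eq_of_mul_eq_one_right (by rw [← pow_two]; exact hV.2 v hv)
    have hb2 : b⁻¹ = b := inv_eq_of_mul_eq_one_right hb
    have h3 := hc _ hw _ hv
    rw [commutatorElement_def, hv2, hb2]
    rw [hb2] at h3
    calc v * b * v * b * b = v * b * v * (b * b) := by group
      _ = (b * b) * v * b * v := by rw [hb]; group
      _ = b * (b * v * b * v) := by group
      _ = b * (v * b * v * b) := by rw [h3]; group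

/-- Free action.  Put `C = C_Y(b)`, `I = [Y, b] ≤ C`, `|Y| = |C| |I|`.  `C ∩ cj(x, C)` is centralised by
`b` and `x b x⁻¹ = x² b`, hence by `x²`, hence by `x` (odd order): trivial.  So `|C|² ≤ |Y| = |C||I|
≤ |C|²`: `I = C`, `|Y| = |C|²`, `Y = C ⊔ cj(x, C)`. -/
theorem free_inv (hY : IsElementaryAbelian 2 Y) (hb : b * b = 1) (hx : Odd (orderOf x))
    (hi : b * x * b⁻¹ = x⁻¹) (nb : b ∈ 𝐍[Y]) (nx : x ∈ 𝐍[Y]) (hf : Y ⊓ 𝐜[x] = ⊥) :
    Nat.card Y = Nat.card ↥(Y ⊓ 𝐜[b]) ^ 2 ∧ ⁅Y, zpowers b⁆ = Y ⊓ 𝐜[b] ∧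
      Y = (Y ⊓ 𝐜[b]) ⊔ cj(x, Y ⊓ 𝐜[b]) := by
  have hc := (isEA_iff.1 hY).1
  obtain ⟨-, hI⟩ := card_comm_inv hY hb nb
  have h1 := card_commutator_zpowers_mul_card_centralizer hc nb
  rw [Amb.centralizer_zpowers] at h1
  set C := Y ⊓ 𝐜[b] with hC
  have hCY : C ≤ Y := inf_le_left
  have hC'Y : cj(x, C) ≤ Y := cj_le_of_mem_normalizer hCY nx
  have hdis : C ⊓ cj(x, C) = ⊥ := by
    rw [eq_bot_iff, ← hf]
    rintro y ⟨hy, hy'⟩
    refine ⟨hy.1, ?_⟩
    have e1 : y * b = b * y := mem_centralizer_singleton_iff.1 hy.2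
    have e2 : x⁻¹ * y * x * b = b * (x⁻¹ * y * x) :=
      mem_centralizer_singleton_iff.1 (mem_cj.1 hy').2
    have e3 : b * x = x⁻¹ * b := by rw [← hi]; group
    have e4 : b * x⁻¹ = x * b := by
      calc b * x⁻¹ = (b * x * b⁻¹)⁻¹ * b := by group
        _ = x * b := by rw [hi, inv_inv]
    have e5 : x ^ 2 ∈ 𝐜[y] := by
      rw [mem_centralizer_singleton_iff]
      have : y * x * b = x * x * (y * x⁻¹) * b := by
        calc y * x * b = x * (x⁻¹ * y * x * b) := by group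
          _ = x * (b * x⁻¹) * y * x := by rw [e2]; group
          _ = x * x * (b * y) * x := by rw [e4]; group
          _ = x * x * y * (b * x) := by rw [← e1]; group
          _ = _ := by rw [e3]; group
      have h5 := mul_right_cancel this
      rw [pow_two]
      calc x * x * y = x * x * (y * x⁻¹) * x := by group
        _ = y * (x * x) := by rw [← h5, mul_assoc]
    have e6 : x ∈ 𝐜[y] := mem_of_pow_mem_of_coprime e5 (Nat.coprime_two_right.2 hx)
    exact mem_centralizer_singleton_iff.2 (mem_centralizer_singleton_iff.1 e6).symm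
  have h2 := Grp.card_sup_mul_card_inf_of_le_normalizer
    (le_normalizer_of_comm hc hCY hC'Y : C ≤ 𝐍[cj(x, C)])
  rw [hdis, card_bot, mul_one, card_cj] at h2
  have hs : C ⊔ cj(x, C) ≤ Y := sup_le hCY hC'Y
  have h3 := card_le_of_le hs
  have h4 := card_le_of_le hI
  have hp : 0 < Nat.card C := Nat.card_pos
  have h5 : Nat.card C ≤ Nat.card ↥⁅Y, zpowers b⁆ := by
    rw [h2, ← h1] at h3
    exact Nat.le_of_mul_le_mul_right h3 hp
  have h6 : ⁅Y, zpowers b⁆ = C := eq_of_le_of_card_ge hI h5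
  rw [h6] at h1
  refine ⟨by rw [← h1, pow_two], h6, ?_⟩
  exact (eq_of_le_of_card_ge hs (by rw [h2, h1])).symm

private theorem mem_zpowers_inv (hb : b * b = 1) {z : G} (hz : z ∈ zpowers b) :
    z = 1 ∨ z = b := by
  obtain ⟨n, rfl⟩ := mem_powers_iff_mem_zpowers.2 hz
  show b ^ n = 1 ∨ b ^ n = b
  induction n with
  | zero => exact Or.inl (pow_zero b)
  | succ n ih =>
    rcases ih (pow_mem (mem_zpowers b) n) with e | e
    · right; rw [pow_succ, e, one_mul]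
    · left; rw [pow_succ, e, hb]

private theorem comm_inverted (hb : b * b = 1) (hn : b ∈ 𝐍[D]) {d : G} (hd : d ∈ D) :
    ⁅d, b⁆ ∈ D ∧ b * ⁅d, b⁆ * b⁻¹ = ⁅d, b⁆⁻¹ := by
  constructor
  · have := mul_mem hd (Amb.conj_mem_of_mem_normalizer hn (inv_mem hd))
    rw [commutatorElement_def]
    simpa [mul_assoc] using this
  · have hb2 : b⁻¹ = b := inv_eq_of_mul_eq_one_right hb
    rw [commutatorElement_inv, commutatorElement_def, commutatorElement_def, hb2]
    calc b * (d * b * d⁻¹ * b) * b = b * d * b * d⁻¹ * (b * b) := by group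
      _ = _ := by rw [hb, mul_one]

/-- `⁅d, b⁆ = d (b d⁻¹ b⁻¹)` is inverted by the involution `b`; so `[D, b]` is generated by the
elements of `D` inverted by `b` (an inverted `y` of odd order is `⁅d, b⁆` with `d² = y`). -/
theorem comm_eq_closure_inv (hD : Odd (Nat.card D)) (hb : b * b = 1) (hn : b ∈ 𝐍[D]) :
    ⁅D, zpowers b⁆ = closure {y | y ∈ D ∧ b * y * b⁻¹ = y⁻¹} := by
  apply le_antisymm
  · rw [commutator_le]
    intro d hd z hz
    rcases mem_zpowers_inv hb hz with rfl | rfl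
    · simp
    · exact subset_closure (comm_inverted hb hn hd)
  · rw [closure_le]
    intro y hy
    obtain ⟨l, hl, rfl⟩ := RankOne.invertedBy_sqrt (t := b) hD hy
    have e : l * l = ⁅l, b⁆ := by
      have h2 : b * l * b⁻¹ = l⁻¹ := hl.2
      calc l * l = l * (b * l * b⁻¹)⁻¹ := by rw [h2, inv_inv]
        _ = ⁅l, b⁆ := by rw [commutatorElement_def]; group
    rw [e]
    exact commutator_mem_commutator hl.1 (mem_zpowers b)

/-- if `b` does not centralise `D` it inverts an element of prime order (a power of `⁅d, b⁆`) -/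
theorem exists_inv_prime (hb : b * b = 1) (hn : b ∈ 𝐍[D]) (h : ¬ D ≤ 𝐜[b]) :
    ∃ y ∈ D, (orderOf y).Prime ∧ b * y * b⁻¹ = y⁻¹ := by
  obtain ⟨d, hd, hdb⟩ := SetLike.not_le_iff_exists.1 h
  have h1 : ⁅d, b⁆ ≠ 1 := fun e =>
    hdb (mem_centralizer_singleton_iff.2 (commutatorElement_eq_one_iff_mul_comm.1 e))
  have h2 := comm_inverted hb hn hd
  obtain ⟨p, hp, hpd⟩ := Nat.exists_prime_and_dvd (n := orderOf ⁅d, b⁆)
    (fun e => h1 (orderOf_eq_one_iff.1 e))
  have h3 := RankOne.invertedBy_pow (t := b) (X := D) h2 (orderOf ⁅d, b⁆ / p)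
  refine ⟨_, h3.1, ?_, h3.2⟩
  rwa [orderOf_pow_orderOf_div (orderOf_pos _).ne' hpd]

/-- `d ↦ d (b d⁻¹ b⁻¹)` induces a bijection `D / C_D(b) → {inverted elements}`. -/
theorem card_inv_mul (hD : Odd (Nat.card D)) (hb : b * b = 1) (hn : b ∈ 𝐍[D]) :
    Nat.card {y // y ∈ D ∧ b * y * b⁻¹ = y⁻¹} * Nat.card ↥(D ⊓ 𝐜[b]) = Nat.card D := by
  rw [mul_comm]
  exact (RankOne.card_eq_cent_mul_inverted hb hD
    (fun x hx => Amb.conj_mem_of_mem_normalizer hn hx)).symm

/-- semiregular action on the nonidentity elements -/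
theorem card_dvd_of_fpf (hn : X ≤ 𝐍[Y]) (hf : ∀ y ∈ X, y ≠ 1 → Y ⊓ 𝐜[y] = ⊥) :
    Nat.card X ∣ Nat.card Y - 1 := by
  exact Solv.Frob.card_dvd_card_sub_one hn hf

/-- A hyperplane `B₁` of `B` with an element of `C_D(B₁)` inverted by `b ∈ B \ B₁`: `D` is generated
by the `C_D(B₁)`, `|B : B₁| ≤ 2` (coprime action of an elementary abelian group; or induction on
`|B|`), so some `C_D(B₁)` is not centralised by `B`; use `exists_inv_prime`. -/
theorem exists_hyper (hD : Odd (Nat.card D)) (hs : Group.IsNilpotent D)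
    (hB : IsElementaryAbelian 2 B) (hn : B ≤ 𝐍[D]) (h : ¬ B ≤ 𝐂[D]) :
    ∃ B₁ ≤ B, ∃ b ∈ B, b ∉ B₁ ∧ B₁ ⊔ zpowers b = B ∧ ∃ y ∈ D ⊓ 𝐂[B₁], (orderOf y).Prime ∧
      b * y * b⁻¹ = y⁻¹ := by
  have hc := (isEA_iff.1 hB).1
  have hB1 : B ≠ ⊥ := fun e => h (e ▸ bot_le)
  have h' : ¬ D ≤ 𝐂[B] := fun e => h (le_centralizer_iff.1 e)
  have h2 : ¬ ∀ B₁ ≤ B, B₁.relIndex B = 2 → D ⊓ 𝐂[B₁] ≤ 𝐂[B] := fun e =>
    h' (le_of_hyperplane_centralizers_le hB hB1 hn (Nat.coprime_two_right.2 hD) _ e)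
  push Not at h2
  obtain ⟨B₁, hle, hi, hnc⟩ := h2
  have h3 : ¬ B ≤ B₁ := fun e => by
    rw [relIndex_eq_one.2 e] at hi; omega
  obtain ⟨b, hb, hb1⟩ := SetLike.not_le_iff_exists.1 h3
  have hsup : B₁ ⊔ zpowers b = B := by
    have hle' : B₁ ⊔ zpowers b ≤ B := sup_le hle (zpowers_le.2 hb)
    have e := relIndex_mul_relIndex B₁ (B₁ ⊔ zpowers b) B le_sup_left hle'
    rw [hi] at e
    have e1 : B₁.relIndex (B₁ ⊔ zpowers b) ≠ 1 := fun e' =>
      hb1 (relIndex_eq_one.1 e' (mem_sup_right (mem_zpowers b)))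
    have e2 : (B₁ ⊔ zpowers b).relIndex B = 1 := by
      rcases (Nat.dvd_prime Nat.prime_two).1 (Dvd.intro _ e) with e3 | e3
      · exact absurd e3 e1
      · rw [e3] at e; omega
    exact le_antisymm hle' (relIndex_eq_one.1 e2)
  have hbb : b * b = 1 := by rw [← pow_two]; exact hB.2 b hb
  have hnb : b ∈ 𝐍[D ⊓ 𝐂[B₁]] :=
    Solv.le_normalizer_inf hn (Solv.le_normalizer_centralizer
      (le_normalizer_of_comm hc le_rfl hle)) hb
  have h4 : ¬ D ⊓ 𝐂[B₁] ≤ 𝐜[b] := fun e => hnc (by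
    rw [le_centralizer_iff, ← hsup]
    refine sup_le (le_centralizer_iff.1 inf_le_right) ?_
    rw [← le_centralizer_iff, Amb.centralizer_zpowers]
    exact e)
  obtain ⟨y, hy, hp, hyi⟩ := exists_inv_prime hbb hnb h4
  exact ⟨B₁, hle, b, hb, hb1, hsup, y, hy, hp, hyi⟩

/-- Two automorphisms "with disjoint supports" commute on `V`: direct computation
(`b v b⁻¹ = v i`, `i ∈ [V, b] ≤ C(c)`), or the three subgroups lemma. -/
theorem comm_mem_cent {c : G} (hV : IsElementaryAbelian 2 V) (nb : b ∈ 𝐍[V]) (nc : c ∈ 𝐍[V])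
    (h1 : ⁅V, zpowers b⁆ ≤ 𝐜[c]) (h2 : ⁅V, zpowers c⁆ ≤ 𝐜[b]) : ⁅b, c⁆ ∈ 𝐂[V] := by
  have e1 : ⁅⁅zpowers c, V⁆, zpowers b⁆ = ⊥ := by
    rw [commutator_eq_bot_iff_le_centralizer, Amb.centralizer_zpowers, Subgroup.commutator_comm]
    exact h2
  have e2 : ⁅⁅V, zpowers b⁆, zpowers c⁆ = ⊥ := by
    rw [commutator_eq_bot_iff_le_centralizer, Amb.centralizer_zpowers]
    exact h1
  have e3 := commutator_commutator_eq_bot_of_rotate e1 e2
  rw [commutator_eq_bot_iff_le_centralizer] at e3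
  exact e3 (commutator_mem_commutator (mem_zpowers b) (mem_zpowers c))

end Cfsg.Agent.NFS
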