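import Cfsg.Agent.NFS.Api
import Cfsg.Agent.NFS.MdA

/-!
# Module lemma (i): no inverted element with `|[V, x]| = 4` (STUB, ~250 lines)
-/

set_option autoImplicit false
set_option linter.unusedSectionVars false

namespace Cfsg.Agent.NFS

open Cfsg.Agent.PLocal hiding centralizer_anti
open Subgroup Cfsg Cfsg.Agent.PLocal.Amb Cfsg.Agent.PLocal.TV
open Cfsg.Agent.PLocal.SL2Nat Cfsg.Agent.PLocal.Bk
open Cfsg.Agent.PLocal.CP (IsCharP MinOver ncl secCent)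
open Cfsg.Agent.Solv.Ext (Inv)
open Cfsg.Agent.QT.Qrc (P2)
open scoped commutatorElement MatrixGroups Cfsg.Agent.PLocal.CP

variable {G : Type*} [Group G] [Finite G] {V S D F : Subgroup G}

theorem mdi_four {U : Subgroup G} (hU : IsElementaryAbelian 2 U) (h4 : Nat.card U = 4) {a b x : G}
    (ha : a ∈ U) (hb : b ∈ U) (a1 : a ≠ 1) (b1 : b ≠ 1) (ne : a ≠ b) (hx : x ∈ U) :
    x = 1 ∨ x = a ∨ x = b ∨ x = a * b := by
  have aa : a * a = 1 := by rw [← sq, hU.2 a ha]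
  have bb : b * b = 1 := by rw [← sq, hU.2 b hb]
  have ab := Misc.comm_of_sq hU.2 a ha b hb
  refine (Misc.mem_closure_pair_iff aa bb ab).1 ((eq_of_le_of_card_ge ((closure_le _).2 ?_) ?_).ge hx)
  · rintro _ (rfl | rfl) <;> assumption
  · rw [h4, Misc.card_closure_pair aa bb ab a1 b1 ne]

theorem mdi_dich {U : Subgroup G} (hU : IsElementaryAbelian 2 U) (h4 : Nat.card U = 4) {g : G}
    (hn : g ∈ 𝐍[U]) (o : Odd (orderOf g)) : U ≤ 𝐜[g] ∨ U ⊓ 𝐜[g] = ⊥ := by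
  refine or_iff_not_imp_right.2 fun h v hv => ?_
  obtain ⟨⟨a, ha, ca⟩, a1⟩ := ne_bot_iff_exists_ne_one.1 h
  replace a1 : a ≠ 1 := fun e => a1 (Subtype.ext e)
  replace ca : g * a * g⁻¹ = a := mul_inv_eq_iff_eq_mul.2 (mem_centralizer_singleton_iff.1 ca).symm
  by_contra n
  replace n : g * v * g⁻¹ ≠ v := fun e =>
    n (mem_centralizer_singleton_iff.2 (mul_inv_eq_iff_eq_mul.1 e).symm)
  have v1 : v ≠ 1 := fun e => n (by rw [e]; group)
  have av : a ≠ v := fun e => n (e ▸ ca)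
  rcases mdi_four hU h4 ha hv a1 v1 av (conj_mem_of_mem_normalizer hn hv) with e | e | e | e
  · exact v1 (conj_eq_one_iff.1 e)
  · exact av (by simpa using ca.trans e.symm)
  · exact n e
  · have h2 : g ^ 2 ∈ 𝐜[v] := mem_centralizer_singleton_iff.2 (mul_inv_eq_iff_eq_mul.1 (by
      calc g ^ 2 * v * (g ^ 2)⁻¹ = g * (g * v * g⁻¹) * g⁻¹ := by rw [sq]; group
        _ = g * a * g⁻¹ * (g * v * g⁻¹) := by nth_rewrite 1 [e]; group
        _ = v := by rw [ca, e, ← mul_assoc, ← sq, hU.2 a ha, one_mul]))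
    exact n (mul_inv_eq_iff_eq_mul.2 (mem_centralizer_singleton_iff.1
      (mem_of_pow_mem_of_coprime h2 (Nat.coprime_two_right.2 o))))

theorem mdi_norm {U P : Subgroup G} (hU : U ≤ V) (h : ⁅V, P⁆ ≤ U) : P ≤ 𝐍[U] := fun p hp =>
  mem_normalizer_of_cj_le (cj_le_iff_forall.2 fun u hu => by
    have := mul_mem (inv_mem (h (commutator_mem_commutator (hU hu) hp))) hu
    rwa [commutatorElement_inv, commutatorElement_def, inv_mul_cancel_right] at this)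

theorem mdi_sup {U P Q : Subgroup G} (hU : U ≤ V) (h1 : ⁅V, P⁆ ≤ U) (h2 : ⁅V, Q⁆ ≤ U) :
    ⁅V, P ⊔ Q⁆ ≤ U :=
  (CP.le_secCent_iff'.1 (sup_le (CP.le_secCent_iff'.2 ⟨mdi_norm hU h1, h1⟩)
    (CP.le_secCent_iff'.2 ⟨mdi_norm hU h2, h2⟩))).2

theorem mdi_orb {P Y : Subgroup G} (hP : IsPGroup 3 P) (hn : P ≤ 𝐍[Y]) (h : ¬ 9 ∣ Nat.card Y - 1) :
    ∃ a ∈ Y, a ≠ 1 ∧ (𝐜[a]).relIndex P ∣ 3 := by
  have : Fact (Nat.Prime 3) := ⟨Nat.prime_three⟩
  let X := {a : G // a ∈ Y ∧ a ≠ 1}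
  let _ : MulAction P X :=
    { smul := fun g a => ⟨g * a * (g : G)⁻¹, conj_mem_of_mem_normalizer (hn g.2) a.2.1,
        fun e => a.2.2 (conj_eq_one_iff.1 e)⟩
      one_smul := fun a => Subtype.ext (by change 1 * (a : G) * 1⁻¹ = a; group)
      mul_smul := fun g g' a => Subtype.ext (by
        change (g : G) * g' * (a : G) * ((g : G) * g')⁻¹ = g * (g' * a * (g' : G)⁻¹) * (g : G)⁻¹; group) }
  have h2 : Nat.card X = Nat.card Y - 1 := by
    have e : (Y : Set G) \ {1} = {a : G | a ∈ Y ∧ a ≠ 1} := rfl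
    have h3 : Nat.card X = ((Y : Set G) \ {1}).ncard := by rw [e]; rfl
    rw [h3, Set.ncard_sdiff_singleton_of_mem Y.one_mem]
    rfl
  by_contra k
  push Not at k
  refine h (h2 ▸ Fus.dvd_card_of_dvd_index (H := P) fun a => ?_)
  have e : MulAction.stabilizer P a = (𝐜[a.1]).subgroupOf P := by
    ext g
    rw [MulAction.mem_stabilizer_iff, mem_subgroupOf, mem_centralizer_singleton_iff, Subtype.ext_iff]
    exact mul_inv_eq_iff_eq_mul
  have k' := k a a.2.1 a.2.2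
  obtain ⟨n, hn⟩ := hP.index ((𝐜[a.1]).subgroupOf P)
  rw [relIndex, hn] at k'
  rw [e, hn]
  rcases n with _ | _ | n
  · simp at k'
  · simp at k'
  · exact ⟨3 ^ n, by ring⟩

theorem mdi_zp (g x : G) : cj(g, zpowers x) = zpowers (g * x * g⁻¹) :=
  MonoidHom.map_zpowers (MulAut.conj g).toMonoidHom x

theorem mdi_max {P Q R : Subgroup G} (h : Q.relIndex P ∣ 3) (h1 : Q ≤ R) (h2 : R ≤ P) (h3 : ¬ R ≤ Q) :
    P ≤ R := by
  rw [← relIndex_mul_relIndex Q R P h1 h2] at h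
  have h4 := ((Nat.dvd_prime Nat.prime_three).1 (dvd_of_mul_right_dvd h)).resolve_left
    fun e => h3 (relIndex_eq_one.1 e)
  rw [h4] at h
  exact relIndex_eq_one.1 (Nat.eq_one_of_dvd_one (Nat.dvd_of_mul_dvd_mul_left (by norm_num) h))

section
variable (h : Md V S D F) {x y : G}
include h

theorem Md.i_odd {P : Subgroup G} (hP : P ≤ D) : Odd (Nat.card P) := h.odd.of_dvd_nat (card_dvd_of_le hP)

theorem Md.i_ord (hx : x ∈ D) : Odd (orderOf x) := Nat.card_zpowers x ▸ h.i_odd (zpowers_le.2 hx)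

theorem Md.i_le (hx : x ∈ D) : ⁅V, zpowers x⁆ ≤ V :=
  Solv.commutator_le_of_le_normalizer (zpowers_le.2 (h.DV hx))

theorem Md.i_ea {U : Subgroup G} (hU : U ≤ V) : IsElementaryAbelian 2 U :=
  Misc.IsElementaryAbelian.mono' h.ea hU

theorem Md.i_bot (hx : x ∈ D) : ⁅V, zpowers x⁆ ⊓ 𝐜[x] = ⊥ := by
  rw [← Amb.centralizer_zpowers]
  exact (odd_split h.ea (h.i_odd (zpowers_le.2 hx)) (zpowers_le.2 (h.DV hx))).2.1

theorem Md.i_nx (hx : x ∈ D) : x ∈ 𝐍[⁅V, zpowers x⁆] := mdi_norm (h.i_le hx) le_rfl (mem_zpowers x)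

theorem Md.i_three {P U : Subgroup G} (hP : P ≤ D) (hU : U ≤ V) (h4 : Nat.card U = 4) (hc : ⁅V, P⁆ ≤ U) :
    Nat.card P ∣ 3 := by
  have := card_dvd_of_fpf (mdi_norm hU hc) fun g hg g1 =>
    (mdi_dich (h.i_ea hU) h4 (mdi_norm hU hc hg) (h.i_ord (hP hg))).resolve_left fun k => g1 (by
      have h1 := h.i_bot (hP hg)
      rw [inf_eq_left.2 (((commutator_mono le_rfl (zpowers_le.2 hg)).trans hc).trans k),
        commutator_comm, commutator_eq_bot_iff_le_centralizer] at h1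
      exact mem_bot.1 (h.fD.le ⟨hP hg, h1 (mem_zpowers g)⟩))
  rwa [h4] at this

theorem Md.i_card (hx : x ∈ D) (h4 : Nat.card ↥⁅V, zpowers x⁆ = 4) : Nat.card (zpowers x) = 3 :=
  ((Nat.dvd_prime Nat.prime_three).1 (h.i_three (zpowers_le.2 hx) (h.i_le hx) h4 le_rfl)).resolve_left
    fun e => by rw [card_eq_one.1 e, commutator_bot_right, card_bot] at h4; omega

theorem Md.i_same (hx : x ∈ D) (hy : y ∈ D) (h4 : Nat.card ↥⁅V, zpowers x⁆ = 4)
    (e : ⁅V, zpowers y⁆ = ⁅V, zpowers x⁆) : zpowers y = zpowers x := by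
  have h1 := Nat.le_of_dvd (by norm_num) (h.i_three (sup_le (zpowers_le.2 hx) (zpowers_le.2 hy))
    (h.i_le hx) h4 (mdi_sup (h.i_le hx) le_rfl e.le))
  exact (eq_of_le_of_card_ge le_sup_right (by rwa [h.i_card hy (e ▸ h4)])).trans
    (eq_of_le_of_card_ge le_sup_left (by rwa [h.i_card hx h4])).symm

theorem Md.i_cen (hx : x ∈ D) (hy : y ∈ D) (h4 : Nat.card ↥⁅V, zpowers x⁆ = 4)
    (h4' : Nat.card ↥⁅V, zpowers y⁆ = 4) (hn : x ∈ 𝐍[⁅V, zpowers y⁆]) :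
    zpowers y = zpowers x ∨ ⁅V, zpowers y⁆ ≤ 𝐜[x] := by
  refine ((mdi_dich (h.i_ea (h.i_le hy)) h4' hn (h.i_ord hx)).imp_right fun k => ?_).symm
  have h1 := (odd_split (h.i_ea (h.i_le hy)) (h.i_odd (zpowers_le.2 hx)) (zpowers_le.2 hn)).1
  rw [Amb.centralizer_zpowers, k, sup_bot_eq] at h1
  exact h.i_same hx hy h4 (eq_of_le_of_card_ge (h1.ge.trans (commutator_mono (h.i_le hy) le_rfl))
    (by rw [h4, h4']))

theorem Md.i_swap (hx : x ∈ D) (hy : y ∈ D) (h4 : Nat.card ↥⁅V, zpowers x⁆ = 4)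
    (hn : y ∈ 𝐍[⁅V, zpowers x⁆]) : x ∈ 𝐍[⁅V, zpowers y⁆] := by
  have h1 : zpowers (y * x * y⁻¹) = zpowers x :=
    h.i_same hx (mul_mem (mul_mem hy hx) (inv_mem hy)) h4 (by
      conv_rhs => rw [← cj_of_mem_normalizer hn, ← commutator_cj, cj_of_mem_normalizer (h.DV hy),
        mdi_zp])
  have x3 : orderOf x = 3 := Nat.card_zpowers x ▸ h.i_card hx h4
  have h2 : y ∈ 𝐜[x] := by
    classical
    obtain ⟨i, hi, e⟩ := Finset.mem_image.1 (mem_zpowers_iff_mem_range_orderOf.1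
      (h1.le (mem_zpowers _)))
    rw [x3, Finset.mem_range] at hi
    refine mem_of_pow_mem_of_coprime (n := 2) (mem_centralizer_singleton_iff.2
      (mul_inv_eq_iff_eq_mul.1 ?_)) (Nat.coprime_two_right.2 (h.i_ord hy))
    have e2 : y ^ 2 * x * (y ^ 2)⁻¹ = x ^ (i * i) := by
      rw [pow_mul, e, conj_pow, e, sq]; group
    interval_cases i
    · rw [pow_zero, eq_comm, conj_eq_one_iff] at e
      rw [e, orderOf_one] at x3
      omega
    · rw [e2, pow_one]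
    · rw [e2, show 2 * 2 = 3 + 1 from rfl, pow_succ, ← x3, pow_orderOf_eq_one, one_mul]
  refine le_normalizer_commutator (zpowers_le.2 (h.DV hx)) (zpowers_le.2
    (centralizer_le_normalizer' _ ?_)) (mem_zpowers x)
  rw [Amb.centralizer_zpowers, mem_centralizer_singleton_iff]
  exact (mem_centralizer_singleton_iff.1 h2).symm

theorem Md.i_key {P : Subgroup G} (hP : IsPGroup 3 P) (hx : x ∈ D) (xP : x ∈ P)
    (h4 : Nat.card ↥⁅V, zpowers x⁆ = 4) {a : G} (ha : a ∈ V) (hi : (𝐜[a]).relIndex P ∣ 3)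
    (hxa : x ∉ 𝐜[a]) : P ≤ 𝐍[⁅V, zpowers x⁆] := by
  have : Fact (Nat.Prime 3) := ⟨Nat.prime_three⟩
  rw [← inf_relIndex_left] at hi
  have h1 := lt_inf_normalizer hP (inf_lt_left.2 fun k => hxa (k xP) : P ⊓ 𝐜[a] < P)
  have h2 := (mdi_max hi h1.le inf_le_left h1.not_ge xP).2
  have h3 : a ∈ 𝐂[(P ⊓ 𝐜[a] : Subgroup G)] := fun q hq => mem_centralizer_singleton_iff.1 hq.2
  have nC := normalizer_le_normalizer_centralizer _ h2
  have uU : ⁅a, x⁆ ∈ ⁅V, zpowers x⁆ := commutator_mem_commutator ha (mem_zpowers x)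
  have uC : ⁅a, x⁆ ∈ 𝐂[(P ⊓ 𝐜[a] : Subgroup G)] := by
    rw [commutatorElement_def, mul_assoc, mul_assoc, ← mul_assoc x]
    exact mul_mem h3 (conj_mem_of_mem_normalizer nC (inv_mem h3))
  have u1 : ⁅a, x⁆ ≠ 1 := fun e => hxa (mem_centralizer_singleton_iff.2
    (commutatorElement_eq_one_iff_mul_comm.1 e).symm)
  generalize ⁅a, x⁆ = u at uU uC u1
  have h5 : ⁅V, zpowers x⁆ ≤ 𝐂[(P ⊓ 𝐜[a] : Subgroup G)] := fun v hv => by
    have u' := conj_mem_of_mem_normalizer nC uC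
    rcases mdi_four (h.i_ea (h.i_le hx)) h4 uU (conj_mem_of_mem_normalizer (h.i_nx hx) uU) u1
      (fun e => u1 (conj_eq_one_iff.1 e)) (fun e => u1 (mem_bot.1 ((h.i_bot hx).le ⟨uU,
        mem_centralizer_singleton_iff.2 (mul_inv_eq_iff_eq_mul.1 e.symm).symm⟩))) hv
      with e | e | e | e <;> rw [e]
    · exact one_mem _
    · exact uC
    · exact u'
    · exact mul_mem uC u'
  exact (mdi_max hi (le_inf inf_le_left ((le_centralizer_iff.1 h5).trans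
    (centralizer_le_normalizer' _))) inf_le_left fun k => hxa (k ⟨xP, h.i_nx hx⟩).2).trans inf_le_right

theorem Md.i_b (hx : x ∈ D) (hy : y ∈ D) (h4 : Nat.card ↥⁅V, zpowers x⁆ = 4)
    (h4' : Nat.card ↥⁅V, zpowers y⁆ = 4) : zpowers y = zpowers x ∨ ⁅V, zpowers y⁆ ≤ 𝐜[x] := by
  have : Fact (Nat.Prime 3) := ⟨Nat.prime_three⟩
  refine h.i_cen hx hy h4 h4' ?_
  have p3 : ∀ {x}, x ∈ D → Nat.card ↥⁅V, zpowers x⁆ = 4 → zpowers x ≤ pCoreOf 3 D := fun hx h4 =>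
    Solv.NA.le_pCoreOf_of_isNilpotent h.nil (IsPGroup.of_card (n := 1) (h.i_card hx h4)) (zpowers_le.2 hx)
  have hP := (isPGroup_pCoreOf 3 D).to_le (sup_le (p3 hx h4) (p3 hy h4'))
  have PD := sup_le (zpowers_le.2 hx) (zpowers_le.2 hy)
  have YV := sup_le (h.i_le hx) (h.i_le hy)
  obtain ⟨a, ha, a1, hi⟩ := mdi_orb hP (mdi_norm YV (mdi_sup YV le_sup_left le_sup_right)) (by
    have h1 := Grp.card_sup_dvd_of_le_normalizer (H := ⁅V, zpowers x⁆) (N := ⁅V, zpowers y⁆)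
      fun u hu => centralizer_le_normalizer' _
        fun v hv => Misc.comm_of_sq h.ea.2 v (h.i_le hy hv) u (h.i_le hx hu)
    have h2 := card_le_of_le (le_sup_left : ⁅V, zpowers x⁆ ≤ ⁅V, zpowers x⁆ ⊔ ⁅V, zpowers y⁆)
    rw [h4, h4'] at h1
    rw [h4] at h2
    have h3 := Nat.le_of_dvd (by norm_num) h1
    generalize Nat.card ↥(⁅V, zpowers x⁆ ⊔ ⁅V, zpowers y⁆) = n at h1 h2 h3
    interval_cases n <;> omega)
  by_cases c : x ∈ 𝐜[a]
  · refine h.i_key hP hy (mem_sup_right (mem_zpowers y)) h4' (YV ha) hi (fun c' => a1 (mem_bot.1 ?_))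
      (mem_sup_left (mem_zpowers x))
    refine (odd_split h.ea (h.i_odd PD) (PD.trans h.DV)).2.1.le ⟨sup_le (commutator_mono le_rfl le_sup_left)
      (commutator_mono le_rfl le_sup_right) ha, fun p hp => ?_⟩
    exact mem_centralizer_singleton_iff.1 (sup_le (zpowers_le.2 c) (zpowers_le.2 c') hp)
  · exact h.i_swap hx hy h4 (h.i_key hP hx (mem_sup_left (mem_zpowers x)) h4 (YV ha) hi c
      (mem_sup_right (mem_zpowers y)))

end

/-- Call `x ∈ D` of *type 2* if `|U_x| = 4`, `U_x = ⁅V, zpowers x⁆`.  `V = U_x × C_V(x)` (`odd_split`), so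
`⟨x⟩` acts faithfully (`fD`) on the four-group `U_x`, fixed point freely: `x` has order 3
(`card_dvd_of_fpf`, every `1 ≠ y ∈ ⟨x⟩` has `U_x ⊓ 𝐜[y]` `x`-invariant of order 1, 2, 4; order 2
gives a fixed point, order 4 makes `y` centralise `V`).
(a) Two type 2 elements `x, y` commute: they have order 3 in the nilpotent `D`, so `P = ⟨x, y⟩` is a
3-group; `P` centralises `V / (U_x U_y)` and acts faithfully on `Y = U_x ⊔ U_y` (`|Y| ≤ 16`; an odd
element centralising `Y` and `V / Y` centralises `V`); a 3-subgroup of `Aut(Y) ≤ GL₄(2)`,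
order `20160 = 2⁶·9·5·7`, has order `≤ 9`, so it is abelian.  (Alternative: induction on `|P|`: if
`x, y` do not commute, `x, x^y, x^{y²}` generate three distinct subgroups inside a maximal normal
subgroup, pairwise commuting by induction, and (b) gives 64 elements in `Y`.)
(b) If `⟨x⟩ ≠ ⟨y⟩` then `U_y ≤ 𝐜[x]`: `x` normalises `U_y`; if it does not centralise it then
`U_y = [U_y, x] ≤ U_x`, so `U_x = U_y`, `C_V(x)` is `y`-invariant with `[C_V(x), y] ≤ C_V(x) ⊓ U_y = ⊥`,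
and `x y^{±1}` centralises `U_x` (odd part of `Aut(2²)` is `C₃`; or `card_dvd_of_fpf` for `⟨x, y⟩`)
and `C_V(x)`, hence `V`, so `x = y^{∓1}`.
(c) Let `𝒱 = {v | ∃ x type 2, (∃ s ∈ S, s x s⁻¹ = x⁻¹) ∧ v ∈ U_x ∧ v ≠ 1 ∧ v ∈ 𝐂[S ⊓ 𝐍[zpowers x]]}`.
Nonempty: the 2-group `S ⊓ 𝐍[zpowers x]` normalises `U_x` and fixes an involution.  For one `⟨x⟩`
the `v` is unique (two of them generate `U_x`, then `s` centralises `U_x`, so does `⁅s, x⁆ = x^{±2}`,
absurd).  So with `K = 𝐜[x]`: `v₀ ∉ K`, all others in `K` by (b).  `𝒱 ⊆ V` is invariant under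
conjugation by `f ∈ F` (`FV, FD, FS`).  `prod_fix` gives `1 ≠ π ∈ V ⊓ 𝐂[F] = ⊥`. -/
theorem Md.one (h : Md V S D F) {x s : G} (hx : x ∈ D) (hs : s ∈ S) (hi : s * x * s⁻¹ = x⁻¹) :
    Nat.card ↥⁅V, zpowers x⁆ ≠ 4 := by
  intro h4
  let 𝒱 : Set G := {v | ∃ y ∈ D, Nat.card ↥⁅V, zpowers y⁆ = 4 ∧ (∃ s ∈ S, s * y * s⁻¹ = y⁻¹) ∧
    v ∈ ⁅V, zpowers y⁆ ∧ v ≠ 1 ∧ v ∈ 𝐂[(S ⊓ 𝐍[zpowers y] : Subgroup G)]}
  have hV : ∀ v ∈ 𝒱, v ∈ V := fun v ⟨y, hy, _, _, hv, _⟩ => h.i_le hy hv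
  obtain ⟨⟨v₀, hv, vc⟩, v1⟩ := ne_bot_iff_exists_ne_one.1 (inf_centralizer_ne_bot
    (h.pg.to_le (inf_le_left (b := 𝐍[zpowers x]))) (Misc.isPGroup_of_isElementaryAbelian
      (h.i_ea (h.i_le hx))) (le_normalizer_commutator (inf_le_left.trans h.SV) inf_le_right)
    fun e => by rw [e, card_bot] at h4; omega)
  replace v1 : v₀ ≠ 1 := fun e => v1 (Subtype.ext e)
  have sn : s ∈ S ⊓ 𝐍[zpowers x] := ⟨hs, cj_eq_iff.1 (by rw [mdi_zp, hi, zpowers_inv])⟩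
  obtain ⟨π, h1, h2, -, h3⟩ := prod_fix (𝒱 := 𝒱)
    (fun v hv w hw => Misc.comm_of_sq h.ea.2 v (hV v hv) w (hV w hw))
    (v₀ := v₀) ⟨x, hx, h4, ⟨s, hs, hi⟩, hv, v1, vc⟩ (K := 𝐜[x])
    (fun k => v1 (mem_bot.1 ((h.i_bot hx).le ⟨hv, k⟩))) (by
      rintro v ⟨y, hy, h4', -, hv', v1', vc'⟩ ne
      rcases h.i_b hx hy h4 h4' with e | e
      · rw [e] at hv' vc'
        have cs : ∀ u ∈ ⁅V, zpowers x⁆, s * u = u * s := fun u hu => by
          rcases mdi_four (h.i_ea (h.i_le hx)) h4 hv' hv v1' v1 ne hu with e | e | e | e <;> rw [e]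
          · simp
          · exact vc' s sn
          · exact vc s sn
          · exact mul_mem vc' vc s sn
        have c1 := cs _ (conj_mem_of_mem_normalizer (h.i_nx hx) hv')
        have c2 : x ^ 2 ∈ 𝐜[v] := mem_centralizer_singleton_iff.2 (by
          calc x ^ 2 * v = x * (x * v * x⁻¹) * x := by rw [sq]; group
            _ = x * (s * (x * v * x⁻¹) * s⁻¹) * x := by rw [c1]; group
            _ = x * ((s * x * s⁻¹) * (s * v * s⁻¹) * (s * x * s⁻¹)⁻¹) * x := by group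
            _ = v * x ^ 2 := by rw [hi, cs v hv', sq]; group)
        exact mem_centralizer_singleton_iff.2 (mem_centralizer_singleton_iff.1
          (mem_of_pow_mem_of_coprime c2 (Nat.coprime_two_right.2 (h.i_ord hx)))).symm
      · exact e hv')
  refine h2 (mem_bot.1 (h.fV.le ⟨(closure_le _).2 hV h1, fun f hf =>
    mul_inv_eq_iff_eq_mul.1 (h3 (MulAut.conj f) ?_)⟩))
  rintro v ⟨y, hy, h4', ⟨t, ht, e⟩, hv', v1', vc'⟩
  have z : zpowers (f * y * f⁻¹) = cj(f, zpowers y) := (mdi_zp f y).symm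
  have c : ⁅V, zpowers (f * y * f⁻¹)⁆ = cj(f, ⁅V, zpowers y⁆) := by
    rw [z, ← commutator_cj, cj_of_mem_normalizer (h.FV hf)]
  refine ⟨f * y * f⁻¹, conj_mem_of_mem_normalizer (h.FD hf) hy, by rw [c, card_cj, h4'],
    ⟨f * t * f⁻¹, conj_mem_of_mem_normalizer (h.FS hf) ht, ?_⟩, c ▸ conj_mem_cj f hv',
    fun e => v1' (conj_eq_one_iff.1 e), ?_⟩
  · rw [conj_inv (a := y), ← e]; group
  · rw [z, normalizer_cj, ← cj_of_mem_normalizer (h.FS hf), ← cj_inf, centralizer_cj]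
    exact conj_mem_cj f vc'

end Cfsg.Agent.NFS
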