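import Cfsg.Agent.NFS.DhA

/-!
# Involutions normalising a dihedral block
-/

set_option autoImplicit false
set_option linter.unusedSectionVars false

namespace Cfsg.Agent.NFS

open Cfsg.Agent.PLocal hiding centralizer_anti
open Subgroup Cfsg Cfsg.Agent.PLocal.Amb Cfsg.Agent.PLocal.TV
open Cfsg.Agent.PLocal.SL2Nat Cfsg.Agent.PLocal.Bk
open Cfsg.Agent.PLocal.CP (IsCharP MinOver ncl secCent)
open Cfsg.Agent.Solv.Ext (Inv)
open Cfsg.Agent.QT.Qrc (P2)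
open scoped commutatorElement MatrixGroups Cfsg.Agent.PLocal.CP

variable {G : Type*} [Group G] [Finite G] {S Y D D' : Subgroup G} {r f z r' f' z' u : G}

theorem Dh.rot_mem (h : Dh D r f z) {x : G} (hx : x ∈ zpowers r) : x ∈ D := zpowers_le.2 h.rD hx

/-- the rotation `x = u s u⁻¹ s` is inverted by the involution `u` -/
theorem Dh.xs (h : Dh D r f z) (hu : u ∈ 𝐍[D]) (h2 : u * u = 1) {s : G} (hs : s ∈ D)
    (hs' : s ∉ zpowers r) : u * s * u⁻¹ * s ∈ zpowers r ∧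
      ∀ y ∈ zpowers (u * s * u⁻¹ * s), u * y * u⁻¹ = y⁻¹ := by
  obtain ⟨a, b⟩ := (h.norm hu).2.2.2 s hs hs'
  refine ⟨h.idx _ a b s hs hs', ?_⟩
  rintro _ ⟨i, rfl⟩
  have : u * (u * s * u⁻¹ * s) * u⁻¹ = (u * s * u⁻¹ * s)⁻¹ := by
    rw [eq_inv_iff_mul_eq_one]
    calc _ = u * u * s * u⁻¹ * (s * s) * u⁻¹ * s := by group
      _ = u * u * s * (u * u)⁻¹ * s := by rw [h.sq s hs hs']; group
      _ = 1 := by rw [h2, one_mul, inv_one, mul_one, h.sq s hs hs']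
  show u * (u * s * u⁻¹ * s) ^ i * u⁻¹ = ((u * s * u⁻¹ * s) ^ i)⁻¹
  rw [← conj_zpow, this, inv_zpow]

/-- An involution centralising `f` centralises all reflections. -/
theorem DD.cent_of_f (h : DD S D r f z) (hu : u ∈ S ⊓ 𝐍[D]) (h2 : u * u = 1)
    (hf : u * f = f * u) : u ∈ 𝐂[D] := by
  have d := h.dh
  obtain ⟨fD, -, -, ff, -, -, -, gen, -⟩ := d.basic
  suffices ∀ s ∈ D, s ∉ zpowers r → s ∈ 𝐜[u] by
    have : D ≤ 𝐜[u] := by rw [gen, closure_le]; exact fun s hs => this s hs.1 hs.2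
    exact fun x hx => mem_centralizer_singleton_iff.1 (this hx)
  intro s hs hs'
  have ss := d.sq s hs hs'
  obtain ⟨xr, xi⟩ := d.xs hu.2 h2 hs hs'
  have xx : u * s * u⁻¹ * s * (u * s * u⁻¹ * s) = 1 := by
    by_contra e
    exact ff (by rw [← xi f ((d.cyc xr).2.2.1 e), hf, mul_inv_cancel_right])
  have e0 : u * s * u⁻¹ = u * s * u⁻¹ * s * s := by rw [mul_assoc _ s s, ss, mul_one]
  rcases (d.cyc xr).1 xx with e | e
  · rw [e, one_mul] at e0
    exact mem_centralizer_singleton_iff.2 (mul_inv_eq_iff_eq_mul.1 e0).symm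
  rw [e] at e0
  obtain ⟨Γ, b⟩ := h.fb s hs hs'
  have nW : u ∈ 𝐍[fg z s] := by
    rw [← cj_eq_iff, fg_map]
    show fg (u * z * u⁻¹) (u * s * u⁻¹) = _
    rw [(d.norm hu.2).2.1, e0]
    exact (b.congr d hs hs' (.inr rfl) (.inl rfl)).2
  obtain ⟨δ, hδ, c, hc, rfl⟩ := (b.cent d hs hs').2.2.2 u ⟨hu.1, nW⟩
  have cf := mem_centralizer_singleton_iff.1 (b.Γf hc)
  have cs := mem_centralizer_singleton_iff.1 (b.Γt hc)
  have δc : δ * c = c * δ := mem_centralizer_singleton_iff.1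
    ((sup_le (zpowers_le.2 (mem_centralizer_singleton_iff.2 cf.symm))
      (zpowers_le.2 (mem_centralizer_singleton_iff.2 cs.symm)) : _ ≤ 𝐜[c]) hδ)
  have δD : δ ∈ D := (sup_le (zpowers_le.2 fD) (zpowers_le.2 hs) : _ ≤ D) hδ
  have δr : δ ∈ zpowers r := by
    by_contra e'
    refine ff (Eq.trans ?_ (d.inv δD e' d.fr))
    calc f = δ * c * f * c⁻¹ * δ⁻¹ := by rw [hf]; group
      _ = _ := by rw [mul_assoc δ c f, cf]; group
  have δδ : δ * δ = z := by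
    have a : δ * s * δ⁻¹ = z * s := by
      rw [← e0]
      calc _ = δ * (s * c) * c⁻¹ * δ⁻¹ := by group
        _ = _ := by rw [← cs]; group
    refine mul_right_cancel (b := s) ?_
    calc δ * δ * s = δ * (s * δ * s⁻¹)⁻¹ * s := by rw [d.inv hs hs' δr, inv_inv]
      _ = _ := by rw [← a]; group
  refine (b.zΓ ?_).elim
  have : z = (c * c)⁻¹ := by
    rw [eq_inv_iff_mul_eq_one, ← δδ, ← h2]
    calc _ = δ * (δ * c) * c := by group
      _ = _ := by rw [δc, ← δc]; nth_rw 1 [δc]; group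
  rw [this]
  exact inv_mem (mul_mem hc hc)

/-- Involutions normalising `D`. -/
theorem DD.invol (h : DD S D r f z) (hu : u ∈ S ⊓ 𝐍[D]) (h2 : u * u = 1) :
    (u ∈ 𝐂[D] ∨ u * r * u⁻¹ = r⁻¹) ∧
    ((∃ s ∈ D, s ∉ zpowers r ∧ u * s = s * u) ∨ (u * r * u⁻¹ = r⁻¹ ∧
      ∀ s ∈ D, s ∉ zpowers r → zpowers (u * s * u⁻¹ * s) = zpowers r)) := by
  have d := h.dh
  obtain ⟨s₀, hs₀, hs₀'⟩ := d.ex
  obtain ⟨nr, -, uf | uf, -⟩ := d.norm hu.2
  · have c := h.cent_of_f hu h2 (mul_inv_eq_iff_eq_mul.1 uf)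
    exact ⟨.inl c, .inl ⟨s₀, hs₀, hs₀', (c s₀ hs₀).symm⟩⟩
  by_cases hc : ∃ s ∈ D, s ∉ zpowers r ∧ u * s = s * u
  · refine ⟨.inr ?_, .inl hc⟩
    obtain ⟨s, hs, hs', c⟩ := hc
    have ss := d.sq s hs hs'
    have v := h.cent_of_f (u := u * s) (mul_mem hu ⟨h.le hs, le_normalizer hs⟩) (by
      calc _ = u * (s * u) * s := by group
        _ = u * u * (s * s) := by rw [← c]; group
        _ = 1 := by rw [h2, ss, one_mul]) (mul_inv_eq_iff_eq_mul.1 (by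
      calc _ = u * (s * f * s⁻¹) * u⁻¹ := by group
        _ = (u * f * u⁻¹)⁻¹ := by rw [d.inv hs hs' d.fr]; group
        _ = f := by rw [uf, inv_inv]))
    have a := v r d.rD
    calc _ = (u * (s * r * s⁻¹) * u⁻¹)⁻¹ := by rw [d.inv hs hs' (mem_zpowers r)]; group
      _ = (u * s * r * (u * s)⁻¹)⁻¹ := by group
      _ = _ := by rw [← a, mul_inv_cancel_right]
  have key : ∀ s ∈ D, s ∉ zpowers r → zpowers (u * s * u⁻¹ * s) = zpowers r := by
    intro s hs hs'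
    refine (d.cyc (d.xs hu.2 h2 hs hs').1).2.2.2.2 fun hx => hc ?_
    haveI : Fact (Nat.Prime 2) := ⟨Nat.prime_two⟩
    obtain ⟨a, ha⟩ := conj_mem_of_mem_normalizer nr (mem_zpowers r)
    replace ha : r ^ a = u * r * u⁻¹ := ha
    have o4 : orderOf f = 2 ^ (1 + 1) := orderOf_eq_prime_pow
      (by rw [pow_one, pow_two, d.ff]; exact d.z1)
      (by rw [pow_succ 2 1, pow_mul, pow_one, pow_two, pow_two, d.ff, d.zz])
    have fa : f ^ (a + 1) = 1 := by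
      obtain ⟨k, hk⟩ := d.fr
      replace hk : r ^ k = f := hk
      have : f ^ a = f⁻¹ := by rw [← uf, ← hk, ← conj_zpow, ← ha, ← zpow_mul, ← zpow_mul, mul_comm]
      rw [zpow_add, this, zpow_one, inv_mul_cancel]
    obtain ⟨m, hm⟩ := orderOf_dvd_iff_zpow_eq_one.2 fa
    rw [o4] at hm
    obtain ⟨j, hj⟩ := IsPGroup.iff_orderOf.1 d.pg ⟨r * r, mul_mem d.rD d.rD⟩
    rw [← orderOf_coe] at hj
    have mem : r * r ∈ zpowers ((r * r) ^ (1 - 2 * m)) := by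
      rw [mem_zpowers_zpow_iff, show orderOf (r * r) = 2 ^ j from hj, ← Int.isCoprime_iff_gcd_eq_one]
      push_cast
      exact IsCoprime.pow_right ⟨1, m, by ring⟩
    obtain ⟨i, hi⟩ := zpowers_le.2 mem hx
    replace hi : ((r * r) ^ (1 - 2 * m)) ^ i = u * s * u⁻¹ * s := hi
    refine ⟨r ^ i * s, mul_mem (zpow_mem d.rD i) hs,
      fun e => hs' ((mul_mem_cancel_left (zpow_mem (mem_zpowers r) i)).1 e),
      mul_inv_eq_iff_eq_mul.1 ?_⟩
    calc _ = (u * r * u⁻¹) ^ i * (u * s * u⁻¹ * s) * s := by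
          rw [conj_zpow, mul_assoc _ _ s, mul_assoc _ s s, d.sq s hs hs']; group
      _ = _ := by
          rw [← ha, ← hi, ← zpow_two, ← zpow_mul, ← zpow_mul, ← zpow_mul, ← zpow_add]
          congr 2
          push_cast at hm
          linear_combination i * hm
  have ur := (d.xs hu.2 h2 hs₀ hs₀').2 r (by rw [key s₀ hs₀ hs₀']; exact mem_zpowers r)
  exact ⟨.inr ur, .inr ⟨ur, key⟩⟩

/-- two elements of `X` inverting `r` have a product centralising `f` -/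
theorem DD.idx (h : DD S D r f z) {X : Subgroup G} (hX : IsElementaryAbelian 2 X)
    (hn : X ≤ S ⊓ 𝐍[D]) : (𝐂[D]).relIndex X ≤ 2 := by
  refine Nat.le_of_dvd two_pos (relIndex_dvd_two_iff.2 ?_)
  have sq : ∀ x ∈ X, x * x = 1 := fun x hx => by rw [← pow_two]; exact hX.2 x hx
  by_cases hc : X ≤ 𝐂[D]
  · exact ⟨1, one_mem _, fun b hb => .inr (hc hb)⟩
  obtain ⟨a, ha, ha'⟩ := SetLike.not_le_iff_exists.1 hc
  refine ⟨a, ha, fun b hb => ?_⟩
  refine (h.invol (hn hb) (sq b hb)).1.symm.imp_left fun e => ?_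
  have e' := (h.invol (hn ha) (sq a ha)).1.resolve_left ha'
  have c : r ∈ 𝐜[b * a] := mem_centralizer_singleton_iff.2 (mul_inv_eq_iff_eq_mul.1 (by
    calc b * a * r * (b * a)⁻¹ = b * (a * r * a⁻¹) * b⁻¹ := by group
      _ = (b * r * b⁻¹)⁻¹ := by rw [e']; group
      _ = r := by rw [e, inv_inv])).symm
  exact h.cent_of_f (hn (mul_mem hb ha)) (sq _ (mul_mem hb ha))
    (mem_centralizer_singleton_iff.1 (zpowers_le.2 c h.dh.fr)).symm

/-- `A₀ = X ⊓ 𝐂[D] < A₀ ⊔ W ≤ T_t`, so `|A₀ W| ≥ 2 |A₀| ≥ |X|`. -/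
theorem DD.card_le (h : DD S D r f z) {X : Subgroup G} (hX : IsElementaryAbelian 2 X)
    (hn : X ≤ S ⊓ 𝐍[D]) {t : G} (ht : t ∈ D) (ht' : t ∉ zpowers r) :
    Nat.card X ≤ mx (S ⊓ 𝐍[fg z t]) := by
  obtain ⟨ea, -, le, mem, -⟩ := h.dh.fg ht ht'
  have c : X ⊓ 𝐂[D] ≤ 𝐂[fg z t] := inf_le_right.trans (Amb.centralizer_anti le)
  refine le_trans ?_ (card_le_mx (A := (X ⊓ 𝐂[D]) ⊔ fg z t) (sup_le
    (le_inf (inf_le_left.trans (hn.trans inf_le_left)) (c.trans (centralizer_le_normalizer' _)))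
    (le_inf (le.trans h.le) le_normalizer)) (isEA_sup (isEA_mono hX inf_le_left) ea c))
  have lt : X ⊓ 𝐂[D] < (X ⊓ 𝐂[D]) ⊔ fg z t := by
    refine lt_of_le_of_ne le_sup_left fun e => h.dh.basic.2.2.2.1 ?_
    have : t ∈ X ⊓ 𝐂[D] := by
      rw [e]; exact mem_sup_right ((mem t).2 (.inr (.inr (.inl rfl))))
    rw [← h.dh.inv ht ht' h.dh.fr, ← this.2 f h.dh.basic.1, mul_inv_cancel_right]
  obtain ⟨k, hk⟩ := card_dvd_of_le lt.le
  have k2 : 2 ≤ k := by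
    by_contra hk2
    have p : 0 < Nat.card ↥((X ⊓ 𝐂[D]) ⊔ fg z t) := Nat.card_pos
    obtain rfl | rfl : k = 0 ∨ k = 1 := by omega
    · omega
    · exact lt.ne (eq_of_le_of_card_ge lt.le (by omega))
  rw [hk, ← BM.relIndex_mul_card 𝐂[D] X]
  have := h.idx hX hn
  nlinarith

/-- distinct links commute -/
theorem Pr.ne (h : Pr S Y D r f z) (h' : Pr S Y D' r' f' z') (hz : z' ≠ z) : D' ≤ 𝐂[D] ∧
    ∀ t ∈ D, t ∉ zpowers r → ∀ Γ, Fb S z t f Γ → z' ∈ Γ := by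
  have d := h.dd.dh
  have d' := h'.dd.dh
  have dis : D ⊓ D' = ⊥ := by
    by_contra e
    have a := d.z_mem inf_le_left (le_normalizer_inf le_normalizer (h.DY.trans h'.nD)) e
    have b : z ∈ D' ⊓ 𝐂[D'] := ⟨a.2, fun g hg =>
      mul_inv_eq_iff_eq_mul.1 (d.norm (h.nD (h'.DY hg))).2.1⟩
    rw [d'.basic.2.2.2.2.2.2.1] at b
    rcases (d'.cyc (zpowers_le.2 d'.basic.2.2.1 b)).1 d.zz with e | e
    exacts [d.z1 e, hz e.symm]
  have c : D' ≤ 𝐂[D] := by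
    rw [← commutator_eq_bot_iff_le_centralizer, eq_bot_iff, ← dis]
    exact le_inf (le_normalizer_iff_commutator_le_right.1 (h'.DY.trans h.nD))
      (le_normalizer_iff_commutator_le_left.1 (h.DY.trans h'.nD))
  refine ⟨c, fun t ht ht' Γ b => ?_⟩
  obtain ⟨s, hs, hs'⟩ := d'.ex
  have le : D' ≤ S ⊓ 𝐂[fg z t] :=
    le_inf h'.dd.le (c.trans (Amb.centralizer_anti (d.fg ht ht').2.2.1))
  rw [← (d'.fg hs hs').2.2.2.2.2.2.2]
  exact (b.cent d ht ht').2.1 (commutator_mem_commutator (le d'.basic.1) (le hs))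

end Cfsg.Agent.NFS
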