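import Cfsg.Agent.NFS.MdD

/-!
# Transport of the module lemma to `G` 
-/

set_option autoImplicit false
set_option linter.unusedSectionVars false

namespace Cfsg.Agent.NFS

open Cfsg.Agent.PLocal hiding centralizer_anti
open Subgroup Cfsg Cfsg.Agent.PLocal.Amb Cfsg.Agent.PLocal.TV
open Cfsg.Agent.PLocal.SL2Nat Cfsg.Agent.PLocal.Bk
open Cfsg.Agent.PLocal.CP (IsCharP MinOver ncl secCent)
open Cfsg.Agent.Solv.Ext (Inv)
open Cfsg.Agent.QT.Qrc (P2)
open scoped commutatorElement MatrixGroups Cfsg.Agent.PLocal.CP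

variable {G : Type*} [Group G] [Finite G] {A : Type*} [Group A] [MulDistribMulAction A G]

/-- a faithful model of the action of `H` and `A` on `V` -/
structure Mo {Γ : Type*} [Group Γ] {V H : Subgroup G} (i : V →* Γ) (j : H →* Γ) (f : A →* Γ) :
    Prop where
  inj : Function.Injective i
  ji : ∀ (h : H) (v w : V), (w : G) = h * v * (h : G)⁻¹ → j h * i v * (j h)⁻¹ = i w
  ker : ∀ h : H, (h : G) ∈ 𝐂[V] → j h = 1
  fi : ∀ (a : A) (v w : V), (w : G) = a • (v : G) → f a * i v * (f a)⁻¹ = i w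
  fj : ∀ (a : A) (h k : H), (k : G) = a • (h : G) → f a * j h * (f a)⁻¹ = j k

theorem exists_mo {V H : Subgroup G} (hV : Inv A V) (hn : H ≤ 𝐍[V]) :
    ∃ (i : V →* Solv.Ext.SD (MulAut V) V) (j : H →* Solv.Ext.SD (MulAut V) V)
      (f : A →* Solv.Ext.SD (MulAut V) V), Mo i j f := by
  obtain ⟨_, hα⟩ := Solv.Ext.exists_subAction hV
  refine ⟨Solv.Ext.iG _ _, (Solv.Ext.iA _ _).comp (V.normalizerMonoidHom.comp (inclusion hn)),
    (Solv.Ext.iA _ _).comp (MulDistribMulAction.toMulAut A V), Solv.Ext.iG_injective,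
    fun h v w e => ?_, fun h e => ?_, fun a v w e => ?_, fun a h k e => ?_⟩
  · rw [MonoidHom.comp_apply, ← Solv.Ext.iG_smul]
    exact congrArg _ (Subtype.ext e.symm)
  · have : inclusion hn h ∈ V.normalizerMonoidHom.ker := by
      rw [normalizerMonoidHom_ker]; exact e
    rw [MonoidHom.comp_apply, MonoidHom.comp_apply, this, map_one]
  · rw [MonoidHom.comp_apply, ← Solv.Ext.iG_smul]
    exact congrArg _ (Subtype.ext ((hα a v).trans e.symm))
  · simp only [MonoidHom.comp_apply]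
    rw [← map_inv, ← map_mul, ← map_mul, ← map_inv]
    refine congrArg _ (MulEquiv.ext fun v => Subtype.ext ?_)
    change ((a • (V.normalizerMonoidHom (inclusion hn h) (a⁻¹ • v)) : V) : G) =
      (k : G) * v * (k : G)⁻¹
    rw [hα, e]
    change a • ((h : G) * ((a⁻¹ • v : V) : G) * (h : G)⁻¹) = _
    rw [hα, smul_mul', smul_mul', smul_inv_smul, smul_inv']

namespace Mo

variable {Γ : Type*} [Group Γ] [Finite Γ] {V H : Subgroup G} {i : V →* Γ} {j : H →* Γ} {f : A →* Γ}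
  (m : Mo i j f) (hn : H ≤ 𝐍[V])
include m hn

theorem comm_iff (h : H) (v : V) : j h * i v = i v * j h ↔ (h : G) * v = v * h := by
  rw [← mul_inv_eq_iff_eq_mul, m.ji h v ⟨_, (mem_normalizer_iff.1 (hn h.2) _).1 v.2⟩ rfl,
    m.inj.eq_iff, Subtype.ext_iff, mul_inv_eq_iff_eq_mul]

theorem comap_j : (𝐂[i.range]).comap j = (𝐂[V]).subgroupOf H := by
  ext h
  simp only [mem_comap, mem_subgroupOf, mem_centralizer_iff]
  refine ⟨fun k v hv => ((m.comm_iff hn h ⟨v, hv⟩).1 (k _ ⟨_, rfl⟩).symm).symm, ?_⟩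
  rintro k _ ⟨v, rfl⟩
  exact ((m.comm_iff hn h v).2 (k v v.2).symm).symm

theorem comap_i {B : Subgroup G} (hB : B ≤ H) :
    (𝐂[(B.subgroupOf H).map j]).comap i = (𝐂[B]).subgroupOf V := by
  ext v
  simp only [mem_comap, mem_subgroupOf, mem_centralizer_iff]
  refine ⟨fun k b hb => (m.comm_iff hn ⟨b, hB hb⟩ v).1 (k _ ⟨⟨b, hB hb⟩, hb, rfl⟩), ?_⟩
  rintro k _ ⟨b, hb, rfl⟩
  exact (m.comm_iff hn b v).2 (k b hb)

theorem idx_j {B : Subgroup G} (hB : B ≤ H) :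
    (𝐂[i.range]).relIndex ((B.subgroupOf H).map j) = (𝐂[V]).relIndex B := by
  rw [← relIndex_comap, m.comap_j hn, relIndex_subgroupOf hB]

theorem idx_i {B : Subgroup G} (hB : B ≤ H) :
    (𝐂[(B.subgroupOf H).map j]).relIndex i.range = (𝐂[B]).relIndex V := by
  rw [MonoidHom.range_eq_map, ← relIndex_comap, m.comap_i hn hB, relIndex_top_right]
  rfl

theorem not_le {B : Subgroup G} (hB : B ≤ H) (h : ¬ B ≤ 𝐂[V]) :
    ¬ (B.subgroupOf H).map j ≤ 𝐂[i.range] := fun h' => h fun b hb => by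
  rw [map_le_iff_le_comap, m.comap_j hn] at h'
  exact h' (x := ⟨b, hB hb⟩) hb

theorem quad {B : Subgroup G} (hB : B ≤ H) (h : ⁅⁅V, B⁆, B⁆ = ⊥) :
    ⁅⁅i.range, (B.subgroupOf H).map j⁆, (B.subgroupOf H).map j⁆ = ⊥ := by
  rw [commutator_eq_bot_iff_le_centralizer] at h ⊢
  refine commutator_le.2 ?_
  rintro _ ⟨v, rfl⟩ _ ⟨b, hb, rfl⟩
  have e := m.ji b v⁻¹ ⟨_, (mem_normalizer_iff.1 (hn b.2) _).1 (v⁻¹).2⟩ rfl
  rw [commutatorElement_def, mul_assoc, mul_assoc, ← mul_assoc (j b), ← map_inv i, e, ← map_mul,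
    ← mem_comap, m.comap_i hn hB]
  have := h (commutator_mem_commutator v.2 (show (b : G) ∈ B from hb))
  rwa [commutatorElement_def, mul_assoc, mul_assoc, ← mul_assoc (b : G)] at this

theorem faith : j.range ⊓ 𝐂[i.range] = ⊥ := by
  refine eq_bot_iff.2 ?_
  rintro _ ⟨⟨h, rfl⟩, h1⟩
  exact m.ker h ((m.comap_j hn).le h1)

theorem j_norm : j.range ≤ 𝐍[i.range] := le_normalizer_iff_cj.2 (by
  rintro _ ⟨h, rfl⟩
  refine cj_le_iff_forall.2 ?_
  rintro _ ⟨v, rfl⟩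
  exact ⟨_, (m.ji h v ⟨_, (mem_normalizer_iff.1 (hn h.2) _).1 v.2⟩ rfl).symm⟩)

omit hn in
theorem f_norm (hV : Inv A V) : f.range ≤ 𝐍[i.range] := le_normalizer_iff_cj.2 (by
  rintro _ ⟨a, rfl⟩
  refine cj_le_iff_forall.2 ?_
  rintro _ ⟨v, rfl⟩
  exact ⟨_, (m.fi a v ⟨_, hV a _ v.2⟩ rfl).symm⟩)

omit hn in
theorem f_norm' (hH : Inv A H) {B : Subgroup G} (hB : Inv A B) :
    f.range ≤ 𝐍[(B.subgroupOf H).map j] := le_normalizer_iff_cj.2 (by
  rintro _ ⟨a, rfl⟩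
  refine cj_le_iff_forall.2 ?_
  rintro _ ⟨b, hb, rfl⟩
  exact ⟨⟨_, hH a _ b.2⟩, hB a _ hb, (m.fj a b ⟨_, hH a _ b.2⟩ rfl).symm⟩)

theorem core (h : CP.RedMod 2 𝐂[V] H) : pCore 2 j.range = ⊥ := by
  have h1 := h (((pCore 2 j.range).comap j.rangeRestrict).map H.subtype) (map_subtype_le _)
    (le_normalizer_map_subtype _) (pRes_le_of_pow (by
      rintro _ ⟨g, hg, rfl⟩
      obtain ⟨k, hk⟩ := isPGroup_pCore' 2 j.range ⟨_, hg⟩
      refine ⟨k, (m.comap_j hn).le (x := g ^ 2 ^ k) ?_⟩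
      rw [mem_comap, map_pow, show j g ^ 2 ^ k = 1 from
        congrArg Subtype.val (congrArg Subtype.val hk)]
      exact one_mem _))
  refine eq_bot_iff.2 ?_
  rintro ⟨_, g, rfl⟩ hg
  exact Subtype.ext (m.ker g (h1 ⟨g, hg, rfl⟩))

theorem md {S : Subgroup G} (h : Ce A S) (hH : Inv A H) (hI : Inv A V) (hSH : S ≤ H)
    (hs : Group.IsSolvable H) (hV : IsElementaryAbelian 2 V) (hr : CP.RedMod 2 𝐂[V] H) :
    Md i.range ((S.subgroupOf H).map j) ((fittingSubgroup j.range).map j.range.subtype)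
      f.range := by
  haveI : Group.IsSolvable j.range := solvable_of_surjective j.rangeRestrict_surjective
  have hS : (S.subgroupOf H).map j ≤ j.range := map_le_range _ _
  have hp : IsPGroup 2 ((S.subgroupOf H).map j) := (h.syl.pgrp.comap_subtype).map j
  have hc := Grp.coprime_of_le_pPrimeCore (Grp.fitting_le_pPrimeCore_of_pCore_eq_bot (m.core hn hr))
  rw [← Subgroup.card_map_of_injective j.range.subtype_injective] at hc
  have hF : f.range ≤ 𝐍[j.range] := by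
    have := m.f_norm' hH hH
    rwa [subgroupOf_self, ← MonoidHom.range_eq_map] at this
  refine ⟨?_, hp, Grp.isNilpotent_map_fitting _, Nat.coprime_two_right.1 hc,
    hS.trans (m.j_norm hn), (map_subtype_le _).trans (m.j_norm hn), m.f_norm hI,
    hS.trans (le_normalizer_map_subtype _),
    hF.trans (CP.normalizer_le_normalizer_map_subtype _ _), m.f_norm' hH h.inv,
    eq_bot_iff.2 ((inf_le_inf_right _ (map_subtype_le _)).trans (m.faith hn).le),
    eq_bot_iff.2 ((inf_le_inf_right _ hS).trans (m.faith hn).le), ?_, ?_, ?_⟩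
  · have := isEA_map (isEA_subgroupOf hV V) i
    rwa [subgroupOf_self, ← MonoidHom.range_eq_map] at this
  · refine eq_bot_iff.2 fun s hs => ?_
    have h1 : s ∈ (fittingSubgroup j.range).map j.range.subtype :=
      ⟨⟨s, hS hs.1⟩, Grp.centralizer_fitting_le _ fun x hx => Subtype.ext (hs.2 _ ⟨x, hx, rfl⟩), rfl⟩
    obtain ⟨k, hk⟩ := hp ⟨s, hs.1⟩
    exact orderOf_eq_one_iff.1 (Nat.eq_one_of_dvd_coprimes (hc.pow_right k)
      (Subgroup.orderOf_dvd_natCard _ h1) (orderOf_dvd_of_pow_eq_one (congrArg Subtype.val hk)))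
  · refine eq_bot_iff.2 ?_
    rintro _ ⟨⟨v, rfl⟩, hv⟩
    have : (v : G) = 1 := h.fp ⊥ Solv.Ext.inv_bot v (by rw [← pow_two, hV.2 v v.2]) fun a =>
      ⟨1, one_mem _, by
        have e := m.fi a v ⟨_, hI a _ v.2⟩ rfl
        rw [hv _ ⟨a, rfl⟩, mul_inv_cancel_right] at e
        simpa using (congrArg Subtype.val (m.inj e)).symm⟩
    rw [show v = 1 from Subtype.ext this, map_one]
    exact one_mem _
  · rintro N hN hFN _ ⟨g, hg, rfl⟩ h1
    have h2 := h.fq (S ⊓ (N.comap j).map H.subtype) inf_le_left (h.inv.inf (by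
      rintro a _ ⟨x, hx, rfl⟩
      refine ⟨⟨_, hH a _ x.2⟩, mem_comap.2 ?_, rfl⟩
      rw [← m.fj a x ⟨_, hH a _ x.2⟩ rfl]
      exact (mem_normalizer_iff.1 (hFN ⟨a, rfl⟩) _).1 hx)) g hg fun a =>
        ⟨S.mul_mem (S.inv_mem hg) (h.inv a _ hg), g⁻¹ * ⟨_, hH a _ g.2⟩, mem_comap.2 (by
          rw [map_mul, map_inv, ← m.fj a g ⟨_, hH a _ g.2⟩ rfl]
          exact h1 _ ⟨a, rfl⟩), rfl⟩
    obtain ⟨x, hx, e⟩ := h2.2
    rwa [← Subtype.ext e]

end Mo

/-- Transport of `Md.p2`, `Md.p4` through the holomorph of `V = ⟨Z^H⟩`. -/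
theorem Ce.p24 {S H : Subgroup G} (h : Ce A S) (hH : Inv A H) (hSH : S ≤ H)
    (hs : Group.IsSolvable H) (hV : IsElementaryAbelian 2 (ncl 𝐙[S] H)) :
    P2 (ncl 𝐙[S] H) S ∧ P4 (ncl 𝐙[S] H) S := by
  have hZ : Inv A 𝐙[S] := fun a x hx => by
    rw [CP.mem_omegaZ] at hx ⊢
    exact ⟨h.inv a x hx.1, h.inv.centralizer a x hx.2.1, by rw [← smul_pow', hx.2.2, smul_one]⟩
  have hI : Inv A (ncl 𝐙[S] H) := Solv.Ext.inv_iff_map_eq.2 fun a => by
    rw [CP.map_ncl, hZ.map_eq, hH.map_eq]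
  have hn := CP.le_normalizer_ncl 𝐙[S] H
  obtain ⟨i, j, f, m⟩ := exists_mo hI hn
  haveI : Finite (Solv.Ext.SD (MulAut (ncl 𝐙[S] H)) (ncl 𝐙[S] H)) := Solv.Ext.finite_SD
  have hm := m.md hn h hH hI hSH hs hV ((CP.redMod_of_le (CP.le_centralizer_omegaZ S)).ncl
    (h.syl.mono hSH le_top) le_rfl hSH)
  refine ⟨fun B hB h1 h2 => ?_, fun B hB h1 h2 => ?_⟩
  · rw [← m.idx_j hn (hB.trans hSH), ← m.idx_i hn (hB.trans hSH)]
    exact hm.p2 _ (map_mono (comap_mono hB)) (m.quad hn (hB.trans hSH) h1)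
      (m.not_le hn (hB.trans hSH) h2)
  · rw [← m.idx_j hn (hB.trans hSH), ← m.idx_i hn (hB.trans hSH)]
    exact hm.p4 _ (map_mono (comap_mono hB)) (isEA_map (isEA_subgroupOf h1 H) j)
      (m.not_le hn (hB.trans hSH) h2)

end Cfsg.Agent.NFS
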