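import Cfsg.Agent.Baum.EXa
import Cfsg.Agent.QT.QrcC
import Cfsg.Agent.NFP.Act

/-!
# Definitions for the NFS engine (S4124 and relatives; captain helper49)

ENGINE: `Ce A S → False` (`NFS/Core`).  `Ce` is an abstract minimal counterexample: `G` simple,
`A` ANY group of operators, `S` an invariant Sylow 2-subgroup, invariant proper overgroups of `S`
solvable, no invariant class of involutions under an invariant subgroup (`fp`), no fixed coset in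
invariant sections of `S` (`fq`).

Notation: `Z = 𝐙[S] = Ω₁Z(S)`, `J = 𝐉[2, S]`, `V = VV S = ⟨Z^{N(J)}⟩`, `M = 𝐍[V]`.
1. `Md`: faithful module situation; gives `P2 V S`, `P4 V S` (no small offenders), then `En S`.
2. `Bq`, `Mx`: bad local subgroups and the maximal choice; `Lc`: rank one configuration;
   pushing up gives a block `Bl` (containing the rank one datum `Rk` over `J(T)`).
3. `Rk` over `J(S)` is impossible; otherwise `q = 2` and a dihedral chain `Pr` reaches `J(S)`.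
-/

set_option autoImplicit false
set_option linter.unusedSectionVars false

namespace Cfsg.Agent.NFS

open Cfsg.Agent.PLocal hiding centralizer_anti
open Subgroup Cfsg Cfsg.Agent.PLocal.Amb Cfsg.Agent.PLocal.TV
open Cfsg.Agent.PLocal.SL2Nat Cfsg.Agent.PLocal.Bk
open Cfsg.Agent.PLocal.CP (IsCharP MinOver ncl secCent)
open Cfsg.Agent.Solv.Ext (Inv)
open scoped commutatorElement MatrixGroups Cfsg.Agent.PLocal.CP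

/-- centraliser of an element -/
scoped notation:max "𝐜[" x "]" => Subgroup.centralizer ({x} : Set _)
/-- `Ω₁ Z(B)` -/
scoped notation:max "𝐙[" B "]" => ΩZ[2, B]

variable {G : Type*} [Group G]

/-- the abstract minimal counterexample -/
structure Ce (A : Type*) [Group A] [MulDistribMulAction A G] (S : Subgroup G) : Prop where
  simple : IsSimpleGroup G
  nsol : ¬ Group.IsSolvable G
  syl : IsSyl 2 S ⊤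
  inv : Inv A S
  sol : ∀ H : Subgroup G, Inv A H → S ≤ H → H ≠ ⊤ → Group.IsSolvable H
  fp : ∀ K : Subgroup G, Inv A K → ∀ x : G, x * x = 1 →
    (∀ a : A, ∃ k ∈ K, a • x = k * x * k⁻¹) → x = 1
  fq : ∀ N : Subgroup G, N ≤ S → Inv A N → ∀ g ∈ S, (∀ a : A, g⁻¹ * a • g ∈ N) → g ∈ N

/-- `V = ⟨Z^{N(J)}⟩` -/
def VV (S : Subgroup G) : Subgroup G := ncl 𝐙[S] 𝐍[𝐉[2, S]]

/-- no elementary abelian `B` with `|V : C_V(B)| < 4 |B : C_B(V)|` -/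
def P4 (V T : Subgroup G) : Prop := ∀ B ≤ T, IsElementaryAbelian 2 B → ¬ B ≤ 𝐂[V] →
  4 * (𝐂[V]).relIndex B ≤ (𝐂[B]).relIndex V

/-- faithful module situation: `S D` acts on `V`, operators `F` -/
structure Md (V S D F : Subgroup G) : Prop where
  ea : IsElementaryAbelian 2 V
  pg : IsPGroup 2 S
  nil : Group.IsNilpotent D
  odd : Odd (Nat.card D)
  SV : S ≤ 𝐍[V]
  DV : D ≤ 𝐍[V]
  FV : F ≤ 𝐍[V]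
  SD : S ≤ 𝐍[D]
  FD : F ≤ 𝐍[D]
  FS : F ≤ 𝐍[S]
  fD : D ⊓ 𝐂[V] = ⊥
  fS : S ⊓ 𝐂[V] = ⊥
  cD : S ⊓ 𝐂[D] = ⊥
  fV : V ⊓ 𝐂[F] = ⊥
  fq : ∀ N : Subgroup G, N ≤ S → F ≤ 𝐍[N] → ∀ g ∈ S,
    (∀ f ∈ F, g⁻¹ * (f * g * f⁻¹) ∈ N) → g ∈ N

/-- `b` is a small involution: `|V : C_V(b)| ≤ 4` -/
structure Sm (V S : Subgroup G) (b : G) : Prop where
  mem : b ∈ S
  sq : b * b = 1
  ne : b ≠ 1
  le : (𝐜[b]).relIndex V ≤ 4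

/-- `g` is good -/
def Gd (S : Subgroup G) (g : G) : Prop := cj(g, 𝐙[S]) ≤ VV S

/-- `g` acts on `X` like an element of `M = N(V)` -/
def Ag (S X : Subgroup G) (g : G) : Prop := ∃ m ∈ 𝐍[VV S], ∀ x ∈ X, g * x * g⁻¹ = m * x * m⁻¹

/-- what part 2 needs from part 1 -/
structure En (S : Subgroup G) : Prop where
  syl : IsSyl 2 S ⊤
  g1 : ∀ (X : Subgroup G) (g : G), 𝐙[S] ≤ X → X ≤ S → cj(g, X) ≤ S → Gd S g → Ag S X g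
  s1 : ∀ C : Subgroup G, Ch 𝐁[2, S] C → S ⊓ 𝐂[C] ≤ C → ∀ h ∈ 𝐍[C], Gd S h

/-- bad local subgroups -/
def Bq (S Q : Subgroup G) : Prop := 𝐙[S] ≤ Q ∧ Q ≤ S ∧ ∃ k ∈ 𝐍[Q], ¬ Gd S k

/-- the largest order of an elementary abelian 2-subgroup -/
noncomputable def mx (X : Subgroup G) : ℕ :=
  sSup ((fun A : Subgroup G => Nat.card A) '' {A | A ≤ X ∧ IsElementaryAbelian 2 A})

/-- `(mx X, |J(X)|)` lexicographically -/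
noncomputable def nu (X : Subgroup G) : ℕ := Nat.card G * mx X + Nat.card 𝐉[2, X]

/-- lexicographically maximal choice of `(ν(T), |B(T)|, |Q ∩ B(T)|, |T|)`, `T = N_S(Q)` -/
structure Mx (S Q : Subgroup G) : Prop where
  bq : Bq S Q
  m1 : ∀ Q', Bq S Q' → nu (S ⊓ 𝐍[Q']) ≤ nu (S ⊓ 𝐍[Q])
  m2 : ∀ Q', Bq S Q' → nu (S ⊓ 𝐍[Q]) ≤ nu (S ⊓ 𝐍[Q']) →
    Nat.card 𝐁[2, S ⊓ 𝐍[Q']] ≤ Nat.card 𝐁[2, S ⊓ 𝐍[Q]]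
  m3 : ∀ Q', Bq S Q' → nu (S ⊓ 𝐍[Q]) ≤ nu (S ⊓ 𝐍[Q']) →
    Nat.card 𝐁[2, S ⊓ 𝐍[Q]] ≤ Nat.card 𝐁[2, S ⊓ 𝐍[Q']] →
    Nat.card ↥(Q' ⊓ 𝐁[2, S ⊓ 𝐍[Q']]) ≤ Nat.card ↥(Q ⊓ 𝐁[2, S ⊓ 𝐍[Q]])
  m4 : ∀ Q', Bq S Q' → nu (S ⊓ 𝐍[Q]) ≤ nu (S ⊓ 𝐍[Q']) →
    Nat.card 𝐁[2, S ⊓ 𝐍[Q]] ≤ Nat.card 𝐁[2, S ⊓ 𝐍[Q']] →
    Nat.card ↥(Q ⊓ 𝐁[2, S ⊓ 𝐍[Q]]) ≤ Nat.card ↥(Q' ⊓ 𝐁[2, S ⊓ 𝐍[Q']]) →
    Nat.card ↥(S ⊓ 𝐍[Q']) ≤ Nat.card ↥(S ⊓ 𝐍[Q])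

/-- rank one configuration in a minimal parabolic with Sylow `T` and 2-core `R`; `B = 𝐁[2, T]` -/
structure Lc (T R W L : Subgroup G) {F : Type} [Field F]
    (D : SD (Fin 2 → F) W (W ⊓ 𝐂[L])) : Prop where
  pg : IsPGroup 2 T
  RT : R ≤ T
  nR : R ≤ 𝐍[L]
  Rn : L ≤ 𝐍[R]
  ea : IsElementaryAbelian 2 W
  WB : W ≤ 𝐁[2, T]
  WR : W ≤ R ⊓ 𝐂[R]
  syl : IsSyl 2 𝐁[2, T] L
  LN : L ≤ D.N
  imL : D.im L = (slG F).range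
  imB : D.im 𝐁[2, T] = Ui F
  ker : L ⊓ D.ker ≤ 𝐂[W]
  off : ¬ 𝐉[2, T] ≤ 𝐂[W]
  min : ∀ X, 𝐁[2, T] ≤ X → X ≤ L → D.im X = (slG F).range → X = L
  wl : W ≤ ⁅W, L⁆
  nT : 𝐁[2, T] ⊓ 𝐂[W] ≤ R → T ≤ D.N ∧ D.im T ≤ 𝐍[(slG F).range] ∧ T ⊓ D.ker ≤ R

/-- rank one datum over a Thompson subgroup `J` -/
structure Rk (J W L : Subgroup G) (q : ℕ) : Prop where
  pg : IsPGroup 2 J
  jj : 𝐉[2, J] = J
  WJ : W ≤ J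
  JL : J ≤ L
  ea : IsElementaryAbelian 2 W
  gen : L ≤ 𝐎[2, L] ⊔ J
  cm : ⁅J ⊓ 𝐂[W], 𝐎[2, L]⁆ ≤ W
  wl : W ≤ ⁅W, L⁆
  sd : ∃ (F : Type) (_ : Field F) (_ : Fintype F) (_ : CharP F 2)
    (D : SD (Fin 2 → F) W (W ⊓ 𝐂[L])), Nat.card F = q ∧ L ≤ D.N ∧ D.im L = (slG F).range ∧
      D.im J = Ui F ∧ L ⊓ D.ker ≤ 𝐂[W] ∧ (slG F).range ⊓ 𝐍[Ui F] ≤ D.im (L ⊓ 𝐍[J])

/-- a block; `T = S ⊓ 𝐍[W]`, `J₀ = 𝐉[2, T]`, `R = S ⊓ 𝐂[W]` -/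
structure Bl (S W L : Subgroup G) (q : ℕ) : Prop where
  pg : IsPGroup 2 S
  rk : Rk 𝐉[2, S ⊓ 𝐍[W]] W L q
  cmR : ⁅S ⊓ 𝐂[W], 𝐎[2, L]⁆ ≤ W
  nR : S ⊓ 𝐂[W] ≤ 𝐍[L]
  nC : S ⊓ 𝐍[W] ≤ 𝐍[W ⊓ 𝐂[L]]
  nq : S ⊓ 𝐍[𝐉[2, S ⊓ 𝐍[W]] ⊓ 𝐂[W]] ≤ 𝐍[W]
  rt : S ⊓ 𝐍[W] ⊓ secCent (W ⊓ 𝐂[𝐉[2, S ⊓ 𝐍[W]]]) (W ⊓ 𝐂[L]) ≤ 𝐉[2, S ⊓ 𝐍[W]] ⊔ (S ⊓ 𝐂[W])
  fld : (secCent (W ⊓ 𝐂[𝐉[2, S ⊓ 𝐍[W]]]) (W ⊓ 𝐂[L])).relIndex (S ⊓ 𝐍[W]) < q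

/-- the torus `O²(N_L(J))` -/
def HH (J L : Subgroup G) : Subgroup G := 𝐎[2, L ⊓ 𝐍[J]]

/-- `Y = [[W, J], H]` -/
def YY (J W L : Subgroup G) : Subgroup G := ⁅⁅W, J⁆, HH J L⁆

/-- `H` is abelian and transitive on the section `U / U₀` -/
structure Tr (H U U₀ : Subgroup G) : Prop where
  ab : ⁅H, H⁆ ≤ secCent U U₀
  tr : ∀ u ∈ U, u ∉ U₀ → ∀ v ∈ U, v ∉ U₀ → ∃ h ∈ H, h * u * h⁻¹ * v⁻¹ ∈ U₀

/-- the four-group `⟨z, t⟩` -/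
def fg (z t : G) : Subgroup G := zpowers z ⊔ zpowers t

/-- `N_S(⟨z, t⟩) = ⟨f, t⟩ × Γ` -/
structure Fb (S : Subgroup G) (z t f : G) (Γ : Subgroup G) : Prop where
  ΓS : Γ ≤ S
  Γf : Γ ≤ 𝐜[f]
  Γt : Γ ≤ 𝐜[t]
  zΓ : z ∉ Γ
  nrm : S ⊓ 𝐍[fg z t] ≤ (zpowers f ⊔ zpowers t) ⊔ Γ
  nq : S ⊓ 𝐍[𝐉[2, S ⊓ 𝐍[fg z t]] ⊓ 𝐂[fg z t]] ≤ 𝐍[fg z t]

/-- `D` is a dihedral 2-group of order at least 8 with rotation `r`; `f` has order 4, `z = f²`;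
"reflections" are the `t ∈ D`, `t ∉ zpowers r` -/
structure Dh (D : Subgroup G) (r f z : G) : Prop where
  pg : IsPGroup 2 D
  rD : r ∈ D
  fr : f ∈ zpowers r
  ff : f * f = z
  zz : z * z = 1
  z1 : z ≠ 1
  ex : ∃ s ∈ D, s ∉ zpowers r
  sq : ∀ s ∈ D, s ∉ zpowers r → s * s = 1
  idx : ∀ s ∈ D, s ∉ zpowers r → ∀ t ∈ D, t ∉ zpowers r → s * t ∈ zpowers r

/-- a dihedral subgroup of `S` all of whose four-groups are blocks -/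
structure DD (S D : Subgroup G) (r f z : G) : Prop where
  pg : IsPGroup 2 S
  dh : Dh D r f z
  le : D ≤ S
  fb : ∀ t ∈ D, t ∉ zpowers r → ∃ Γ, Fb S z t f Γ
  cj : ∀ t ∈ D, t ∉ zpowers r → ∀ t' ∈ D, t' ∉ zpowers r → ∃ g ∈ S, cj(g, fg z t) = fg z t'

/-- a link of the dihedral chain -/
structure Pr (S Y D : Subgroup G) (r f z : G) : Prop where
  dd : DD S D r f z
  YS : Y ≤ S
  jj : 𝐉[2, Y] = Y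
  DY : D ≤ Y
  nD : Y ≤ 𝐍[D]
  JY : ∀ t ∈ D, t ∉ zpowers r → 𝐉[2, S ⊓ 𝐍[fg z t]] ≤ Y
  mY : ∀ t ∈ D, t ∉ zpowers r → mx Y ≤ mx (S ⊓ 𝐍[fg z t])

end Cfsg.Agent.NFS
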