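import Cfsg.Agent.NFS.Api

/-!
# Dihedral API .  Reflections: `t ∈ D`, `t ∉ zpowers r`.
-/

set_option autoImplicit false
set_option linter.unusedSectionVars false

namespace Cfsg.Agent.NFS

open Cfsg.Agent.PLocal hiding centralizer_anti
open Subgroup Cfsg Cfsg.Agent.PLocal.Amb Cfsg.Agent.PLocal.TV
open Cfsg.Agent.PLocal.SL2Nat Cfsg.Agent.PLocal.Bk
open Cfsg.Agent.PLocal.CP (IsCharP MinOver ncl secCent)
open Cfsg.Agent.Solv.Ext (Inv)
open Cfsg.Agent.QT.Qrc (P2)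
open scoped commutatorElement MatrixGroups Cfsg.Agent.PLocal.CP

variable {G : Type*} [Group G] [Finite G] {S Y D Γ : Subgroup G} {r f z t s x g : G}

private theorem mem_zp_of_dvd {a b : G} (ha : a ∈ zpowers r) (hb : b ∈ zpowers r)
    (h : orderOf a ∣ orderOf b) : a ∈ zpowers b := by
  obtain ⟨k, hk⟩ := Transfer.mem_zpowers_of_isCyclic (G := zpowers r) (x := ⟨a, ha⟩) (y := ⟨b, hb⟩)
    (by rw [← Subgroup.orderOf_coe, ← Subgroup.orderOf_coe]; exact h)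
  exact ⟨k, congrArg Subtype.val hk⟩

private theorem zp_comm {a b : G} (ha : a ∈ zpowers r) (hb : b ∈ zpowers r) : a * b = b * a := by
  obtain ⟨m, rfl⟩ := ha
  obtain ⟨n, rfl⟩ := hb
  exact zpow_mul_comm r m n

private theorem mem_zp_inv {a w : G} (ha : a * a = 1) (hw : w ∈ zpowers a) : w = 1 ∨ w = a := by
  obtain ⟨m, rfl⟩ := hw
  have h2 : a ^ (2 : ℤ) = 1 := by rw [zpow_two, ha]
  rcases Int.even_or_odd' m with ⟨k, rfl | rfl⟩
  · left; show a ^ (2 * k) = 1; rw [zpow_mul, h2, one_zpow]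
  · right; show a ^ (2 * k + 1) = a; rw [zpow_add_one, zpow_mul, h2, one_zpow, one_mul]

private theorem inv_eq_of_sq {a : G} (ha : a * a = 1) : a⁻¹ = a := inv_eq_of_mul_eq_one_right ha

private theorem Dh.rle (h : Dh D r f z) : zpowers r ≤ D := zpowers_le.2 h.rD

private theorem Dh.zr (h : Dh D r f z) : z ∈ zpowers r := h.ff ▸ mul_mem h.fr h.fr

private theorem Dh.oz (h : Dh D r f z) : orderOf z = 2 := orderOf_eq_prime (by rw [pow_two, h.zz]) h.z1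

private theorem Dh.of (h : Dh D r f z) : orderOf f = 4 := by
  have := orderOf_eq_prime_pow (p := 2) (n := 1) (x := f)
    (by rw [pow_one, pow_two, h.ff]; exact h.z1)
    (by rw [show (2 ^ (1 + 1) : ℕ) = 2 * 2 by norm_num, pow_mul, pow_two f, h.ff, pow_two, h.zz])
  simpa using this

private theorem Dh.ord (h : Dh D r f z) (hx : x ∈ D) : ∃ k, orderOf x = 2 ^ k := by
  obtain ⟨k, hk⟩ := isPGroup_iff.1 h.pg x hx
  obtain ⟨j, -, hj⟩ := (Nat.dvd_prime_pow Nat.prime_two).1 (orderOf_dvd_of_pow_eq_one hk)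
  exact ⟨j, hj⟩

private theorem Dh.rr (h : Dh D r f z) : r * r ≠ 1 := by
  intro h1
  rcases mem_zp_inv h1 h.fr with h2 | h2
  · exact h.z1 (by rw [← h.ff, h2, mul_one])
  · exact h.z1 (by rw [← h.ff, h2, h1])

private theorem Dh.finv (h : Dh D r f z) : f⁻¹ = z * f := by
  rw [inv_eq_iff_mul_eq_one, ← mul_assoc, zp_comm h.fr h.zr, mul_assoc, h.ff, h.zz]

private theorem Dh.mul_refl (h : Dh D r f z) (ht : t ∈ D) (ht' : t ∉ zpowers r) (hx : x ∈ zpowers r) :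
    x * t ∈ D ∧ x * t ∉ zpowers r :=
  ⟨mul_mem (h.rle hx) ht, fun h1 => ht' ((Subgroup.mul_mem_cancel_left _ hx).1 h1)⟩

/-- `x t` is a reflection, so `(x t)² = 1` -/
theorem Dh.inv (h : Dh D r f z) (ht : t ∈ D) (ht' : t ∉ zpowers r) (hx : x ∈ zpowers r) :
    t * x * t⁻¹ = x⁻¹ := by
  obtain ⟨h1, h2⟩ := h.mul_refl ht ht' hx
  have h3 := h.sq _ h1 h2
  rw [inv_eq_of_sq (h.sq t ht ht'), eq_inv_iff_mul_eq_one]
  calc t * x * t * x = x⁻¹ * (x * t * (x * t)) * x := by group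
    _ = 1 := by rw [h3]; group

/-- cyclic 2-group: unique involution, chain of subgroups -/
theorem Dh.cyc (h : Dh D r f z) (hx : x ∈ zpowers r) : (x * x = 1 → x = 1 ∨ x = z) ∧
    (x ≠ 1 → z ∈ zpowers x) ∧ (x * x ≠ 1 → f ∈ zpowers x) ∧ (x * x = z → x = f ∨ x = f⁻¹) ∧
    (x ∉ zpowers (r * r) → zpowers x = zpowers r) := by
  obtain ⟨k, hk⟩ := h.ord (h.rle hx)
  have a1 : ∀ y ∈ zpowers r, y * y = 1 → y = 1 ∨ y = z := fun y hy h1 =>
    mem_zp_inv h.zz (mem_zp_of_dvd hy h.zr (by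
      rw [h.oz]; exact orderOf_dvd_of_pow_eq_one (by rw [pow_two, h1])))
  refine ⟨a1 x hx, fun h1 => mem_zp_of_dvd h.zr hx ?_, fun h1 => mem_zp_of_dvd h.fr hx ?_,
    fun h1 => ?_, fun h1 => ?_⟩
  · rw [h.oz, hk]
    refine dvd_pow_self 2 fun h0 => h1 ?_
    rw [h0, pow_zero] at hk
    exact orderOf_eq_one_iff.1 hk
  · rw [h.of, hk]
    refine pow_dvd_pow 2 (show 2 ≤ k from ?_)
    by_contra h0
    refine h1 ?_
    rw [← pow_two]
    refine orderOf_dvd_iff_pow_eq_one.1 ?_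
    rw [hk]
    exact (pow_dvd_pow 2 (show k ≤ 1 by omega)).trans (by norm_num)
  · have h2 : x * f⁻¹ * (x * f⁻¹) = 1 := by
      calc x * f⁻¹ * (x * f⁻¹) = x * (f⁻¹ * x) * f⁻¹ := by group
        _ = x * (x * f⁻¹) * f⁻¹ := by rw [zp_comm (inv_mem h.fr) hx]
        _ = x * x * (f * f)⁻¹ := by group
        _ = 1 := by rw [h1, h.ff, mul_inv_cancel]
    rcases a1 _ (mul_mem hx (inv_mem h.fr)) h2 with h3 | h3
    · left; exact mul_inv_eq_one.1 h3
    · right; rw [h.finv, ← h3, inv_mul_cancel_right]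
  · refine le_antisymm (zpowers_le.2 hx) (zpowers_le.2 ?_)
    obtain ⟨m, rfl⟩ := (mem_powers_iff_mem_zpowers.2 hx : x ∈ Submonoid.powers r)
    obtain ⟨n, hn⟩ := h.ord h.rD
    refine mem_zpowers_pow_iff.2 ?_
    rw [hn]
    refine Nat.Coprime.pow_right n (Nat.coprime_two_right.2 ?_)
    rcases Nat.even_or_odd' m with ⟨j, rfl | rfl⟩
    · refine absurd ?_ h1
      show r ^ (2 * j) ∈ _
      rw [pow_mul, pow_two]
      exact pow_mem (mem_zpowers _) j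
    · exact ⟨j, rfl⟩

/-- elements of `D` that are not involutions lie in `zpowers r`, and `r² ≠ 1` -/
theorem Dh.norm (h : Dh D r f z) (hg : g ∈ 𝐍[D]) : g ∈ 𝐍[zpowers r] ∧ g * z * g⁻¹ = z ∧
    (g * f * g⁻¹ = f ∨ g * f * g⁻¹ = f⁻¹) ∧
    ∀ t ∈ D, t ∉ zpowers r → g * t * g⁻¹ ∈ D ∧ g * t * g⁻¹ ∉ zpowers r := by
  have h1 : g * r * g⁻¹ ∈ zpowers r := by
    by_contra h0
    have h2 := h.sq _ (conj_mem_of_mem_normalizer hg h.rD) h0
    refine h.rr ?_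
    calc r * r = g⁻¹ * (g * r * g⁻¹ * (g * r * g⁻¹)) * g := by group
      _ = 1 := by rw [h2]; group
  have h2 : g ∈ 𝐍[zpowers r] := by
    refine mem_normalizer_of_cj_le ?_
    rw [MonoidHom.map_zpowers, zpowers_le]
    exact h1
  have h3 : g * z * g⁻¹ = z := by
    refine ((h.cyc (conj_mem_of_mem_normalizer h2 h.zr)).1 ?_).resolve_left fun h0 => h.z1 ?_
    · calc g * z * g⁻¹ * (g * z * g⁻¹) = g * (z * z) * g⁻¹ := by group
        _ = 1 := by rw [h.zz]; group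
    · calc z = g⁻¹ * (g * z * g⁻¹) * g := by group
        _ = 1 := by rw [h0]; group
  refine ⟨h2, h3, (h.cyc (conj_mem_of_mem_normalizer h2 h.fr)).2.2.2.1 ?_, fun t ht ht' =>
    ⟨conj_mem_of_mem_normalizer hg ht, fun h0 => ht' ?_⟩⟩
  · calc g * f * g⁻¹ * (g * f * g⁻¹) = g * (f * f) * g⁻¹ := by group
      _ = z := by rw [h.ff, h3]
  · have := inv_conj_mem_of_mem_normalizer h2 h0
    rwa [show g⁻¹ * (g * t * g⁻¹) * g = t by group] at this

theorem Dh.basic (h : Dh D r f z) : f ∈ D ∧ z ∈ D ∧ z ∈ zpowers r ∧ f ≠ f⁻¹ ∧ r * r ≠ 1 ∧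
    D ≤ 𝐜[z] ∧ D ⊓ 𝐂[D] = zpowers z ∧ D = closure {t | t ∈ D ∧ t ∉ zpowers r} ∧
    Nat.card D = 2 * orderOf r := by
  have hf : f ≠ f⁻¹ := fun h0 => h.z1 (by
    rw [← h.ff]; nth_rewrite 2 [h0]; exact mul_inv_cancel f)
  have hz : D ≤ 𝐜[z] := fun g hg => mem_centralizer_singleton_iff.2
    (mul_inv_eq_iff_eq_mul.1 (h.norm (le_normalizer hg)).2.1)
  obtain ⟨s, hs, hs'⟩ := h.ex
  refine ⟨h.rle h.fr, h.rle h.zr, h.zr, hf, h.rr, hz, le_antisymm ?_ ?_, le_antisymm ?_ ?_, ?_⟩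
  · rintro y ⟨hy, hc⟩
    have hyr : y ∈ zpowers r := by
      by_contra h0
      refine hf ?_
      rw [← h.inv hy h0 h.fr, ← mem_centralizer_iff.1 hc f (h.rle h.fr), mul_inv_cancel_right]
    have h1 := h.inv hs hs' hyr
    rw [mem_centralizer_iff.1 hc s hs, mul_inv_cancel_right] at h1
    rcases (h.cyc hyr).1 (by nth_rewrite 2 [h1]; exact mul_inv_cancel y) with rfl | rfl
    · exact one_mem _
    · exact mem_zpowers _
  · refine zpowers_le.2 ⟨h.rle h.zr, mem_centralizer_iff.2 fun g hg => ?_⟩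
    exact mem_centralizer_singleton_iff.1 (hz hg)
  · intro y hy
    by_cases h0 : y ∈ zpowers r
    · have : y = y * s * s := by rw [mul_assoc, h.sq s hs hs', mul_one]
      rw [this]
      exact mul_mem (subset_closure (h.mul_refl hs hs' h0)) (subset_closure ⟨hs, hs'⟩)
    · exact subset_closure ⟨hy, h0⟩
  · exact (closure_le _).2 fun y hy => hy.1
  · have h2 : (zpowers r).relIndex D = 2 := by
      refine relIndex_eq_two_iff.2 ⟨s, hs, fun b hb => ?_⟩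
      by_cases h0 : b ∈ zpowers r
      · exact Or.inr ⟨h0, (h.mul_refl hs hs' h0).2⟩
      · exact Or.inl ⟨h.idx b hb h0 s hs hs', h0⟩
    rw [← PLocal.card_mul_relIndex_of_le h.rle, h2, Nat.card_zpowers, mul_comm]

/-- a nontrivial normal subgroup of the 2-group `D` meets `Z(D) = ⟨z⟩` -/
theorem Dh.z_mem (h : Dh D r f z) {N : Subgroup G} (h1 : N ≤ D) (h2 : D ≤ 𝐍[N]) (h3 : N ≠ ⊥) :
    z ∈ N := by
  haveI : Fact (Nat.Prime 2) := ⟨Nat.prime_two⟩
  obtain ⟨⟨w, hw, hc⟩, h0⟩ := (ne_bot_iff_exists_ne_one).1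
    (inf_centralizer_ne_bot h.pg (h.pg.to_le h1) h2 h3)
  have h4 : w ∈ zpowers z := h.basic.2.2.2.2.2.2.1 ▸ (⟨h1 hw, hc⟩ : w ∈ D ⊓ 𝐂[D])
  rcases mem_zp_inv h.zz h4 with rfl | rfl
  · exact absurd rfl h0
  · exact hw

/-- the four-group of a reflection -/
theorem Dh.fg (h : Dh D r f z) (ht : t ∈ D) (ht' : t ∉ zpowers r) :
    IsElementaryAbelian 2 (fg z t) ∧ Nat.card (fg z t) = 4 ∧ fg z t ≤ D ∧
      (∀ w, w ∈ fg z t ↔ w = 1 ∨ w = z ∨ w = t ∨ w = z * t) ∧ f ∈ 𝐍[fg z t] ∧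
      (zpowers f ⊔ zpowers t) ⊓ 𝐜[t] = fg z t ∧ f * t * f⁻¹ = z * t ∧ ⁅f, t⁆ = z := by
  have tt := h.sq t ht ht'
  have zt : z * t = t * z := (mem_centralizer_singleton_iff.1 (h.basic.2.2.2.2.2.1 ht)).symm
  have c1 : zpowers z ≤ 𝐂[zpowers t] := by
    rw [Amb.centralizer_zpowers, zpowers_le, mem_centralizer_singleton_iff]; exact zt
  have m : ∀ w, w ∈ NFS.fg z t ↔ w = 1 ∨ w = z ∨ w = t ∨ w = z * t := by
    intro w
    constructor
    · intro hw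
      obtain ⟨a, ha, b, hb, rfl⟩ :=
        (mem_sup_of_le_normalizer_right (c1.trans (centralizer_le_normalizer' _))).1 hw
      rcases mem_zp_inv h.zz ha with rfl | rfl <;> rcases mem_zp_inv tt hb with rfl | rfl <;> simp
    · rintro (rfl | rfl | rfl | rfl)
      · exact one_mem _
      · exact mem_sup_left (mem_zpowers _)
      · exact mem_sup_right (mem_zpowers _)
      · exact mul_mem (mem_sup_left (mem_zpowers _)) (mem_sup_right (mem_zpowers _))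
  have t1 : t ≠ 1 := fun h0 => ht' (h0 ▸ one_mem _)
  have ft : f * t * f⁻¹ = z * t := by
    have := h.inv ht ht' (inv_mem h.fr)
    rw [inv_inv] at this
    calc f * t * f⁻¹ = f * (t * f⁻¹ * t⁻¹) * t := by group
      _ = z * t := by rw [this, h.ff]
  have fz : f * z * f⁻¹ = z := by rw [zp_comm h.fr h.zr, mul_inv_cancel_right]
  refine ⟨isEA_sup (isEA_zpowers (by rw [pow_two, h.zz])) (isEA_zpowers (by rw [pow_two, tt])) c1,
    ?_, sup_le (zpowers_le.2 (h.rle h.zr)) (zpowers_le.2 ht), m, ?_, le_antisymm ?_ ?_, ft, ?_⟩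
  · have h1 := PLocal.card_sup_mul_card_inf (c1.trans (centralizer_le_normalizer' _))
    have h2 : zpowers z ⊓ zpowers t = ⊥ := by
      refine eq_bot_iff.2 ?_
      rintro w ⟨ha, hb⟩
      rcases mem_zp_inv tt hb with rfl | rfl
      · exact one_mem _
      · exact absurd (zpowers_le.2 h.zr ha) ht'
    rw [h2, card_bot, mul_one, Nat.card_zpowers, Nat.card_zpowers, h.oz,
      orderOf_eq_prime (p := 2) (by rw [pow_two, tt]) t1] at h1
    exact h1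
  · refine mem_normalizer_of_cj_le ?_
    rw [NFS.fg, cj_sup, MonoidHom.map_zpowers, MonoidHom.map_zpowers]
    refine sup_le (zpowers_le.2 ((m _).2 (Or.inr (Or.inl fz))))
      (zpowers_le.2 ((m _).2 (Or.inr (Or.inr (Or.inr ft)))))
  · rintro w ⟨hw, hc⟩
    have n1 : zpowers t ≤ 𝐍[zpowers f] := by
      refine zpowers_le.2 (mem_normalizer_of_cj_le ?_)
      rw [MonoidHom.map_zpowers, zpowers_le]
      show t * f * t⁻¹ ∈ _
      rw [h.inv ht ht' h.fr]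
      exact inv_mem (mem_zpowers f)
    obtain ⟨a, ha, b, hb, rfl⟩ := (mem_sup_of_le_normalizer_left n1).1 hw
    refine mul_mem ?_ (mem_sup_right hb)
    have hb' : b ∈ 𝐜[t] := zpowers_le.2 (mem_centralizer_singleton_iff.2 rfl) hb
    have ha' := mem_centralizer_singleton_iff.1 ((Subgroup.mul_mem_cancel_right _ hb').1 hc)
    have har : a ∈ zpowers r := zpowers_le.2 h.fr ha
    have h1 := h.inv ht ht' har
    rw [← ha', mul_inv_cancel_right] at h1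
    rcases (h.cyc har).1 (by nth_rewrite 2 [h1]; exact mul_inv_cancel a) with rfl | rfl
    · exact one_mem _
    · exact mem_sup_left (mem_zpowers _)
  · refine le_inf (sup_le (zpowers_le.2 (mem_sup_left (h.ff ▸ mul_mem (mem_zpowers f)
      (mem_zpowers f)))) le_sup_right) (sup_le (zpowers_le.2 ?_) (zpowers_le.2 ?_))
    · exact mem_centralizer_singleton_iff.2 zt
    · exact mem_centralizer_singleton_iff.2 rfl
  · rw [commutatorElement_def, ft, mul_inv_cancel_right]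

/-- `C_S(W) ≤ W Γ` (write `x = δ γ`, `δ ∈ ⟨f, t⟩ ⊓ 𝐜[t]`), and `[W Γ, W Γ] ≤ Γ` as `W` is central in it -/
theorem Fb.cent (h : Dh D r f z) (ht : t ∈ D) (ht' : t ∉ zpowers r) (b : Fb S z t f Γ) :
    S ⊓ 𝐂[fg z t] ≤ fg z t ⊔ Γ ∧ ⁅S ⊓ 𝐂[fg z t], S ⊓ 𝐂[fg z t]⁆ ≤ Γ ∧ Γ ≤ 𝐂[fg z t] ∧
      ∀ x ∈ S ⊓ 𝐍[fg z t], ∃ d ∈ zpowers f ⊔ zpowers t, ∃ c ∈ Γ, x = d * c := by
  have c1 : Γ ≤ 𝐂[zpowers f ⊔ zpowers t] := by
    rw [Amb.centralizer_sup, Amb.centralizer_zpowers, Amb.centralizer_zpowers]; exact le_inf b.Γf b.Γt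
  obtain ⟨ea, -, -, -, -, e1, -, -⟩ := h.fg ht ht'
  have c2 : Γ ≤ 𝐂[fg z t] := c1.trans (centralizer_anti (e1 ▸ inf_le_left))
  have d1 : ∀ x ∈ S ⊓ 𝐍[fg z t], ∃ d ∈ zpowers f ⊔ zpowers t, ∃ c ∈ Γ, x = d * c := fun x hx =>
    (mem_sup_of_le_normalizer_left (c1.trans (centralizer_le_normalizer' _))).1 (b.nrm hx)
  have tW : t ∈ fg z t := mem_sup_right (mem_zpowers t)
  have d2 : ∀ x ∈ S ⊓ 𝐂[fg z t], ∃ d ∈ fg z t, ∃ c ∈ Γ, x = d * c := by
    intro x hx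
    obtain ⟨d, hd, c, hc, rfl⟩ := d1 x ⟨hx.1, centralizer_le_normalizer' _ hx.2⟩
    refine ⟨d, e1 ▸ ⟨hd, ?_⟩, c, hc, rfl⟩
    have h1 : d ∈ 𝐂[fg z t] := (Subgroup.mul_mem_cancel_right _ (c2 hc)).1 hx.2
    exact mem_centralizer_singleton_iff.2 (mem_centralizer_iff.1 h1 t tW).symm
  refine ⟨fun x hx => ?_, commutator_le.2 fun x hx y hy => ?_, c2, d1⟩
  · obtain ⟨d, hd, c, hc, rfl⟩ := d2 x hx
    exact mul_mem (mem_sup_left hd) (mem_sup_right hc)
  · obtain ⟨d, hd, c, hc, e⟩ := d2 x hx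
    obtain ⟨d', hd', c', hc', e'⟩ := d2 y hy
    have k1 : d * y = y * d := mem_centralizer_iff.1 hy.2 d hd
    have k2 : d * c = c * d := mem_centralizer_iff.1 (c2 hc) d hd
    have k3 : d' * c = c * d' := mem_centralizer_iff.1 (c2 hc) d' hd'
    have k4 : d' * c' = c' * d' := mem_centralizer_iff.1 (c2 hc') d' hd'
    have k5 : ⁅x, y⁆ = ⁅c, c'⁆ := by
      calc ⁅x, y⁆ = c * (d * y) * d⁻¹ * c⁻¹ * y⁻¹ := by
            rw [commutatorElement_def, e, k2]; group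
        _ = c * y * c⁻¹ * y⁻¹ := by rw [k1]; group
        _ = c * c' * (c⁻¹ * (c * d')) * c⁻¹ * d'⁻¹ * c'⁻¹ := by rw [e', k4]; group
        _ = ⁅c, c'⁆ := by rw [← k3, commutatorElement_def]; group
    rw [k5, commutatorElement_def]
    exact mul_mem (mul_mem (mul_mem hc hc') (inv_mem hc)) (inv_mem hc')

theorem fg_map {G' : Type*} [Group G'] (φ : G →* G') (z t : G) :
    (fg z t).map φ = fg (φ z) (φ t) := by
  rw [fg, Subgroup.map_sup, MonoidHom.map_zpowers, MonoidHom.map_zpowers, fg]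

theorem Dh.map (h : Dh D r f z) (φ : G ≃* G) :
    Dh (D.map φ.toMonoidHom) (φ r) (φ f) (φ z) := by
  have m : ∀ y, φ y ∈ zpowers (φ r) ↔ y ∈ zpowers r := fun y => by
    rw [show zpowers (φ r) = (zpowers r).map φ.toMonoidHom from
      (MonoidHom.map_zpowers φ.toMonoidHom r).symm]
    exact mem_map_iff_mem (f := φ.toMonoidHom) φ.injective
  refine ⟨h.pg.map _, mem_map_of_mem φ.toMonoidHom h.rD, (m f).2 h.fr, by rw [← map_mul, h.ff],
    by rw [← map_mul, h.zz, map_one], fun h0 => h.z1 (φ.injective (h0.trans (map_one φ).symm)),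
    ?_, ?_, ?_⟩
  · obtain ⟨s, hs, hs'⟩ := h.ex
    exact ⟨φ s, mem_map_of_mem φ.toMonoidHom hs, fun h0 => hs' ((m s).1 h0)⟩
  · rintro _ ⟨s, hs, rfl⟩ hs'
    show φ s * φ s = 1
    rw [← map_mul, h.sq s hs fun h0 => hs' ((m s).2 h0), map_one]
  · rintro _ ⟨s, hs, rfl⟩ hs' _ ⟨t, ht, rfl⟩ ht'
    show φ s * φ t ∈ _
    rw [← map_mul, m]
    exact h.idx s hs (fun h0 => hs' ((m s).2 h0)) t ht fun h0 => ht' ((m t).2 h0)

private theorem nrm_map (φ : G ≃* G) (hS : S.map φ.toMonoidHom = S) (X : Subgroup G) :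
    (S ⊓ 𝐍[X]).map φ.toMonoidHom = S ⊓ 𝐍[X.map φ.toMonoidHom] := by
  rw [Subgroup.map_inf _ _ _ φ.injective, hS, map_equiv_normalizer_eq]

theorem Fb.map (b : Fb S z t f Γ) (φ : G ≃* G) (hS : S.map φ.toMonoidHom = S) :
    Fb S (φ z) (φ t) (φ f) (Γ.map φ.toMonoidHom) := by
  have e : fg (φ z) (φ t) = (fg z t).map φ.toMonoidHom := (fg_map φ.toMonoidHom z t).symm
  have c : ∀ y : G, Γ ≤ 𝐜[y] → Γ.map φ.toMonoidHom ≤ 𝐜[φ y] := by
    rintro y hy _ ⟨w, hw, rfl⟩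
    refine mem_centralizer_singleton_iff.2 ?_
    show φ w * φ y = φ y * φ w
    rw [← map_mul, ← map_mul, mem_centralizer_singleton_iff.1 (hy hw)]
  refine ⟨hS ▸ map_mono b.ΓS, c f b.Γf, c t b.Γt,
    fun h0 => b.zΓ ((mem_map_iff_mem (f := φ.toMonoidHom) φ.injective).1 h0), ?_, ?_⟩
  · have := map_mono (f := φ.toMonoidHom) b.nrm
    rwa [nrm_map φ hS, Subgroup.map_sup, Subgroup.map_sup, MonoidHom.map_zpowers,
      MonoidHom.map_zpowers, ← e] at this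
  · have := map_mono (f := φ.toMonoidHom) b.nq
    rwa [nrm_map φ hS, PLocal.map_inf_centralizer_of_injective φ.injective,
      map_thompsonSubgroupOf _ φ.injective, nrm_map φ hS, map_equiv_normalizer_eq, ← e] at this

/-- same four-group, same `⟨f, t⟩` -/
theorem Fb.congr (h : Dh D r f z) (ht : t ∈ D) (ht' : t ∉ zpowers r) (b : Fb S z t f Γ)
    {t' f' : G} (h1 : t' = t ∨ t' = z * t) (h2 : f' = f ∨ f' = f⁻¹) :
    Fb S z t' f' Γ ∧ fg z t' = fg z t := by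
  have zf : z ∈ zpowers f := h.ff ▸ mul_mem (mem_zpowers f) (mem_zpowers f)
  have e0 : ∀ K : Subgroup G, z ∈ K → K ⊔ zpowers t' = K ⊔ zpowers t := by
    intro K hK
    rcases h1 with rfl | rfl
    · rfl
    · refine le_antisymm (sup_le le_sup_left (zpowers_le.2 ?_)) (sup_le le_sup_left (zpowers_le.2 ?_))
      · exact mul_mem (mem_sup_left hK) (mem_sup_right (mem_zpowers t))
      · exact (Subgroup.mul_mem_cancel_left _ (mem_sup_left hK)).1 (mem_sup_right (mem_zpowers _))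
  have e1 : fg z t' = fg z t := e0 _ (mem_zpowers z)
  have e2 : zpowers f' = zpowers f := by
    rcases h2 with rfl | rfl
    · rfl
    · exact zpowers_inv
  have c2 := (Fb.cent h ht ht' b).2.2.1
  refine ⟨⟨b.ΓS, ?_, ?_, b.zΓ, ?_, ?_⟩, e1⟩
  · rw [← Amb.centralizer_zpowers, e2, Amb.centralizer_zpowers]; exact b.Γf
  · rw [← Amb.centralizer_zpowers]
    exact c2.trans (centralizer_anti (e1 ▸ le_sup_right))
  · rw [e1, e2, e0 _ zf]; exact b.nrm
  · rw [e1]; exact b.nq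

theorem DD.map (h : DD S D r f z) (φ : G ≃* G) (hS : S.map φ.toMonoidHom = S) :
    DD S (D.map φ.toMonoidHom) (φ r) (φ f) (φ z) := by
  have m : ∀ y, y ∈ zpowers r → φ y ∈ zpowers (φ r) := fun y hy => by
    rw [show zpowers (φ r) = (zpowers r).map φ.toMonoidHom from
      (MonoidHom.map_zpowers φ.toMonoidHom r).symm]
    exact mem_map_of_mem φ.toMonoidHom hy
  refine ⟨h.pg, h.dh.map φ, hS ▸ map_mono h.le, ?_, ?_⟩
  · rintro _ ⟨t, ht, rfl⟩ ht'
    obtain ⟨Γ, b⟩ := h.fb t ht fun h0 => ht' (m t h0)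
    exact ⟨_, b.map φ hS⟩
  · rintro _ ⟨t, ht, rfl⟩ ht' _ ⟨u, hu, rfl⟩ hu'
    obtain ⟨g, hg, e⟩ := h.cj t ht (fun h0 => ht' (m t h0)) u hu fun h0 => hu' (m u h0)
    refine ⟨φ g, hS ▸ mem_map_of_mem φ.toMonoidHom hg, ?_⟩
    have := congrArg (Subgroup.map φ.toMonoidHom) e
    rw [map_cj, fg_map φ.toMonoidHom z t, fg_map φ.toMonoidHom z u] at this
    exact this

theorem Pr.map (h : Pr S Y D r f z) (φ : G ≃* G) (hS : S.map φ.toMonoidHom = S)
    (hY : Y.map φ.toMonoidHom = Y) : Pr S Y (D.map φ.toMonoidHom) (φ r) (φ f) (φ z) := by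
  have m : ∀ y, y ∈ zpowers r → φ y ∈ zpowers (φ r) := fun y hy => by
    rw [show zpowers (φ r) = (zpowers r).map φ.toMonoidHom from
      (MonoidHom.map_zpowers φ.toMonoidHom r).symm]
    exact mem_map_of_mem φ.toMonoidHom hy
  refine ⟨h.dd.map φ hS, h.YS, h.jj, hY ▸ map_mono h.DY, ?_, ?_, ?_⟩
  · rw [← map_equiv_normalizer_eq, ← hY]; exact map_mono h.nD
  · rintro _ ⟨t, ht, rfl⟩ ht'
    have := map_mono (f := φ.toMonoidHom) (h.JY t ht fun h0 => ht' (m t h0))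
    rwa [map_thompsonSubgroupOf _ φ.injective, nrm_map φ hS, fg_map, hY] at this
  · rintro _ ⟨t, ht, rfl⟩ ht'
    have := h.mY t ht fun h0 => ht' (m t h0)
    rwa [← mx_map (f := φ.toMonoidHom) φ.injective (S ⊓ _), nrm_map φ hS, fg_map] at this

theorem Pr.cj (h : Pr S Y D r f z) (hg : g ∈ S ⊓ 𝐍[Y]) :
    Pr S Y cj(g, D) (g * r * g⁻¹) (g * f * g⁻¹) (g * z * g⁻¹) := by
  exact h.map (MulAut.conj g) (cj_of_mem hg.1) (cj_of_mem_normalizer hg.2)

end Cfsg.Agent.NFS
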