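import Cfsg.Agent.NFS.Defs

/-!
# Facts in `GA (Fin 2 → F)`.  `SL = (slG F).range`, `U = Ui F`, `ℓ = ln F`.
Library: `PLocal/BkPL` (`PL.*`), `BkExR` (`isSyl_Ui`, `exists_Ui_sup_cj`, `fx_range`), `SL2Nat*`.
-/

set_option autoImplicit false
set_option linter.unusedSectionVars false
set_option linter.unusedVariables false

namespace Cfsg.Agent.NFS

open Cfsg.Agent.PLocal hiding centralizer_anti
open Subgroup Cfsg Cfsg.Agent.PLocal.Amb Cfsg.Agent.PLocal.TV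
open Cfsg.Agent.PLocal.SL2Nat Cfsg.Agent.PLocal.Bk
open Cfsg.Agent.PLocal.CP (IsCharP MinOver ncl secCent)
open Cfsg.Agent.Solv.Ext (Inv)
open Cfsg.Agent.QT.Qrc (P2)
open scoped commutatorElement MatrixGroups Cfsg.Agent.PLocal.CP

variable {F : Type} [Field F] [Fintype F] [CharP F 2]

/-- `U` lies in a unique maximal subgroup of `SL₂(F)` (BN-pair; `U ⊔ cj(s, U) = SL` for
`s ∈ SL \ 𝐍[U]`). -/
theorem le_norm_Ui {X : Subgroup (GA (Fin 2 → F))} (h1 : Ui F ≤ X) (h2 : X ≤ (slG F).range)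
    (h3 : X ≠ (slG F).range) : X ≤ 𝐍[Ui F] := by
  exact (le_normalizer_Ui_or h1 h2).resolve_right h3

/-- A normal subgroup `N` of `SL₂(F)` with `N U ≠ SL₂(F)` is trivial: `N ≤ 𝐍[U]` (`le_norm_Ui`), so `N`
stabilises `ℓ` and all its `SL`-images, i.e. all lines; so it consists of scalars of determinant 1. -/
theorem normal_eq_bot {N : Subgroup (GA (Fin 2 → F))} (h1 : N ≤ (slG F).range)
    (h2 : (slG F).range ≤ 𝐍[N]) (h3 : N ⊔ Ui F ≠ (slG F).range) : N = ⊥ := by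
  have h2' : (2 : F) = 0 := CharTwo.two_eq_zero
  have k := le_sup_left.trans (le_norm_Ui le_sup_right (sup_le h1 PL.Ui_le) h3)
  refine (eq_bot_iff_forall _).2 fun n hn => ?_
  obtain ⟨g, rfl⟩ := h1 hn
  have c : ∀ s : SL(2, F), (s * g * s⁻¹).1 1 0 = 0 := fun s => PL.slG_mem_normalizer.1 (k (by
    rw [map_mul, map_mul, map_inv]; exact conj_mem_of_mem_normalizer (h2 ⟨s, rfl⟩) hn))
  have c0 := PL.slG_mem_normalizer.1 (k hn)
  have c1 := c (nn 1 one_ne_zero)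
  have c2 := c (ll 1)
  have d := det_eq g
  simp [mul_apply', inv_apply₀₀, inv_apply₁₀, coe_nn, coe_ll] at c1 c2
  have e : (g.1 0 0 + 1) ^ 2 = 0 := by grind
  rw [show g = 1 from sl_ext (by simp; grind) (by simp; grind) (by simp; grind) (by simp; grind),
    map_one]

/-- `SL₂(F)` is not a 2-group, `O²(SL) U = SL`, `O²(SL)` has no fixed vector. -/
theorem sl_facts : ¬ IsPGroup 2 (slG F).range ∧ 𝐎[2, (slG F).range] ⊔ Ui F = (slG F).range ∧
    fx (Fin 2 → F) 𝐎[2, (slG F).range] = ⊥ := by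
  refine ⟨fun h => ?_, by rw [pRes_range, SLi_sup_Ui], ?_⟩
  · have := PL.slG_mem_normalizer.1 (le_normalizer (((isSyl_Ui 2).eq h PL.Ui_le le_rfl).le
      (⟨ll 1, rfl⟩ : slG F (ll 1) ∈ (slG F).range)))
    simp [coe_ll] at this
  · rw [pRes_range]
    refine (AddSubgroup.eq_bot_iff_forall _).2 fun v hv => by_contra fun n => ?_
    obtain ⟨s, hs, e⟩ := SLi_trans n PL.e0_ne
    obtain ⟨s', hs', e'⟩ := SLi_trans n PL.e1_ne
    have := congrFun (e.symm.trans ((hv s hs).trans ((hv s' hs').symm.trans e'))) 0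
    simp at this

theorem Fld.semi {t : GA (Fin 2 → F)} (h : t ∈ 𝐍[(slG F).range]) : ∃ σ : F →+* F, PL.Semi t σ := by
  rcases (show 2 ≤ Nat.card F from Finite.one_lt_card).eq_or_lt with e | e
  · refine ⟨RingHom.id F, fun a v => ?_⟩
    rcases eq_or_ne a 0 with rfl | n
    · simp
    · obtain ⟨y, -, hy⟩ := (Nat.card_eq_two_iff' (0 : F)).1 e.symm
      rw [(hy a n).trans (hy 1 one_ne_zero).symm]; simp
  · exact PL.exists_semi e (pRes_range (F := F) 2 ▸ normalizer_le_normalizer_pRes 2 _ h)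

/-- Let `t` be a 2-element normalising `SL` and `U` and trivial on `ℓ`.  For `u_λ ∈ U`,
`t u_λ t⁻¹ = u_{λ'}`; evaluating `(u - 1)` on `(0, y)` shows that `t` induces a scalar `μ` on `F² / ℓ`;
`μ` has 2-power order, so `μ = 1`, `t (x, y) = (x + φ y, y)` with `φ` additive.  `t` conjugates the
opposite root group `U'` to a Sylow 2-subgroup of `SL`, i.e. an `SL`-conjugate of `U`, whose fixed
space is an `F`-line; it equals `t ℓ' = {(φ y, y)}`; so `φ` is linear and `t ∈ U`. -/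
theorem mem_Ui_of_fix {X : Subgroup (GA (Fin 2 → F))} (hX : IsPGroup 2 X)
    (h1 : X ≤ 𝐍[(slG F).range]) (h2 : X ≤ 𝐍[Ui F]) {t : GA (Fin 2 → F)} (ht : t ∈ X)
    (h : ∀ v ∈ ln F, t • v = v) : t ∈ Ui F := by
  obtain ⟨σ, hσ⟩ := Fld.semi (h1 ht)
  refine PL.mem_Ui_of_e0 (PL.mem_range_of_semi (isPGroup_iff.1 hX t ht) hσ fun a =>
    PL.smul_inj PL.e0_ne ?_) (h _ rfl)
  rw [← h (a • ![1, 0]) (by simp [mem_ln]), hσ, h _ rfl]

/-- `X` normalises `ℓ = fx U` and the Borel subgroup `SL ⊓ 𝐍[U]`, which acts on `ℓ` as the group of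
all scalars.  The 2-group `X` fixes some `0 ≠ v₀ ∈ ℓ` (`q - 1` is odd).  Let `c` generate `Fˣ`, `h` the
diagonal element.  If `t ∈ X` fixes `c v₀ = h v₀` then `t h t⁻¹` and `h` (both scalars on `ℓ`) agree on
`v₀`, so on `ℓ`, so `t` fixes all `cⁱ v₀`.  Hence the stabiliser of `c v₀` in `X` is `X ⊓ cent ℓ` and
the index is the length of an orbit in `ℓ \ 0`. -/
theorem relIndex_cent_lt {X : Subgroup (GA (Fin 2 → F))} (hX : IsPGroup 2 X)
    (h1 : X ≤ 𝐍[(slG F).range]) (h2 : X ≤ 𝐍[Ui F]) :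
    (cent (GA (Fin 2 → F)) (ln F)).relIndex X < Nat.card F := by
  obtain ⟨s, -, hs⟩ := PL.exists_fix (isPGroup_sup hX (isSyl_Ui 2).pgrp h2)
  have v0 : s • (![1, 0] : Fin 2 → F) ≠ 0 := PL.smul_ne PL.e0_ne
  generalize s • (![1, 0] : Fin 2 → F) = v at hs v0
  have v1 : v 1 = 0 := mem_ln.1 (fx_Ui.le fun x hx => hs x (mem_sup_right hx))
  have v2 : v 0 ≠ 0 := fun e => v0 (vec_ext e v1)
  choose σ hσ using fun t : X => Fld.semi (h1 t.2)
  obtain ⟨c, hc⟩ := IsCyclic.exists_monoid_generator (α := Fˣ)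
  have := PL.card_le_mul ((cent (GA (Fin 2 → F)) (ln F)).subgroupOf X)
    (fun t => Units.map (σ t).toMonoidHom c) fun x y e w hw => by
      have e1 : ∀ a, σ x a = σ y a := fun a => by
        rcases eq_or_ne a 0 with rfl | n
        · simp
        · obtain ⟨k, hk⟩ := hc (Units.mk0 a n)
          have : a = (c : F) ^ k := by simpa using congrArg Units.val hk.symm
          rw [this, map_pow, map_pow, show σ x c = σ y c from congrArg Units.val e]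
      have e2 : w = (w 0 / v 0) • v := vec_ext (by simp [v2]) (by simp [v1, mem_ln.1 hw])
      change (x.1⁻¹ * y.1) • w = w
      rw [mul_smul, inv_smul_eq_iff, e2, hσ, hσ, hs _ (mem_sup_left x.2), hs _ (mem_sup_left y.2), e1]
  rw [← ((cent (GA (Fin 2 → F)) (ln F)).subgroupOf X).card_mul_index, Nat.card_units] at this
  exact (Nat.le_of_mul_le_mul_left this Nat.card_pos).trans_lt (Nat.sub_one_lt Nat.card_pos.ne')

theorem Fld.hh_mem (s : F) (h0 : s ≠ 0) : slG F (hh s h0) ∈ 𝐎[2, (slG F).range ⊓ 𝐍[Ui F]] := by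
  refine mem_pRes ⟨⟨_, rfl⟩, PL.slG_mem_normalizer.2 rfl⟩ ?_
  have e : slG F (hh s h0) ^ (Fintype.card F - 1) = 1 := by
    rw [← map_pow, PL.hh_pow]
    simp only [FiniteField.pow_card_sub_one_eq_one s h0, hh_one, map_one]
  refine Nat.Coprime.coprime_dvd_left (orderOf_dvd_of_pow_eq_one e) ?_
  obtain ⟨n, -, e⟩ := FiniteField.card F 2
  have : (Fintype.card F - 1).Coprime (Fintype.card F) := by
    rw [Nat.coprime_comm]
    exact (Nat.coprime_self_sub_right Fintype.card_pos).2 (Nat.coprime_one_right _)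
  exact Nat.Coprime.coprime_dvd_right (e ▸ dvd_pow_self 2 n.ne_zero) this

/-- The torus: `Bo = SL ⊓ 𝐍[U]`, `H = O²(Bo)`.  Elements of `Bo` are upper triangular `(a, *; 0, a⁻¹)`;
the diagonal ones have odd order, so lie in `H`.  They act on `ℓ`, `F² / ℓ` and `U` as
multiplication by `a`, `a⁻¹`, `a²`; commutators in `Bo` lie in `U`. -/
theorem borel_facts : ⁅(slG F).range ⊓ 𝐍[Ui F], (slG F).range ⊓ 𝐍[Ui F]⁆ ≤ Ui F ∧
    (∀ v ∈ ln F, v ≠ 0 → ∀ w ∈ ln F, w ≠ 0 → ∃ h ∈ 𝐎[2, (slG F).range ⊓ 𝐍[Ui F]], h • v = w) ∧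
    (∀ v ∉ ln F, ∀ w ∉ ln F, ∃ h ∈ 𝐎[2, (slG F).range ⊓ 𝐍[Ui F]], h • v - w ∈ ln F) ∧
    (∀ u ∈ Ui F, u ≠ 1 → ∀ u' ∈ Ui F, u' ≠ 1 →
      ∃ h ∈ 𝐎[2, (slG F).range ⊓ 𝐍[Ui F]], h * u * h⁻¹ = u') ∧
    Odd ((Ui F).relIndex ((slG F).range ⊓ 𝐍[Ui F])) := by
  refine ⟨commutator_le.2 fun x hx y hy => ?_, fun v hv v0 w hw w0 => ?_, fun v hv w hw => ?_,
    fun u hu u1 u' hu' u1' => ?_, Nat.odd_iff.2 (Nat.two_dvd_ne_zero.1 ((isSyl_Ui 2).mono
      (le_inf PL.Ui_le le_normalizer) inf_le_left).not_dvd_relIndex)⟩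
  · refine PL.mem_Ui_of_e0 (mul_mem (mul_mem (mul_mem hx.1 hy.1) (inv_mem hx.1)) (inv_mem hy.1)) ?_
    have k : ∀ x ∈ (slG F).range ⊓ 𝐍[Ui F], ∃ a : F, ∀ b : F,
        x⁻¹ • b • (![1, 0] : Fin 2 → F) = (b * a) • ![1, 0] := fun x hx => by
      obtain ⟨g, e⟩ := (inv_mem hx).1
      have := PL.slG_mem_normalizer.1 (e ▸ (inv_mem hx).2)
      exact ⟨g.1 0 0, fun b => by
        rw [← e]
        exact vec_ext (by simp [PL.smul0, mul_comm]) (by simp [PL.smul1, this])⟩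
    obtain ⟨a, ha⟩ := k x hx
    obtain ⟨b, hb⟩ := k y hy
    rw [commutatorElement_def, mul_smul, mul_smul, mul_smul, smul_eq_iff_eq_inv_smul,
      smul_eq_iff_eq_inv_smul, ← one_smul F ![1, 0], ha, hb, ha, hb, mul_right_comm]
  · have v1 : v 0 ≠ 0 := fun e => v0 (vec_ext e hv)
    have w1 : w 0 ≠ 0 := fun e => w0 (vec_ext e hw)
    exact ⟨_, Fld.hh_mem _ (div_ne_zero w1 v1), vec_ext (by simp [PL.smul0, coe_hh, v1])
      (by simp [PL.smul1, coe_hh, mem_ln.1 hv, mem_ln.1 hw])⟩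
  · rw [mem_ln] at hv hw
    exact ⟨_, Fld.hh_mem _ (div_ne_zero hv hw), mem_ln.2 (by simp [PL.smul1, coe_hh, hv])⟩
  · obtain ⟨a, rfl⟩ := PL.mem_Ui.1 hu
    obtain ⟨a', rfl⟩ := PL.mem_Ui.1 hu'
    have a0 : a ≠ 0 := fun e => u1 (by rw [e, uu_zero, map_one])
    have a0' : a' ≠ 0 := fun e => u1' (by rw [e, uu_zero, map_one])
    obtain ⟨z, hz⟩ : IsSquare (a' / a) := FiniteField.isSquare_of_char_two (ringChar.eq F 2) _
    have z0 : z ≠ 0 := fun e => div_ne_zero a0' a0 (by rw [hz, e, mul_zero])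
    refine ⟨_, Fld.hh_mem z z0, ?_⟩
    rw [← map_mul, hh_mul_uu, map_mul, mul_inv_cancel_right, pow_two, ← hz, div_mul_cancel₀ _ a0]

end Cfsg.Agent.NFS
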