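import Cfsg.Agent.NFS.MdI

/-!
# Module lemma (ii): small involutions, common facts and type A

`I_b = ⁅V, zpowers b⁆` (order `≤ 4` by `card_comm_inv`), `U_x = ⁅V, zpowers x⁆`.
-/

set_option autoImplicit false
set_option linter.unusedSectionVars false

namespace Cfsg.Agent.NFS

open Cfsg.Agent.PLocal hiding centralizer_anti
open Subgroup Cfsg Cfsg.Agent.PLocal.Amb Cfsg.Agent.PLocal.TV
open Cfsg.Agent.PLocal.SL2Nat Cfsg.Agent.PLocal.Bk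
open Cfsg.Agent.PLocal.CP (IsCharP MinOver ncl secCent)
open Cfsg.Agent.Solv.Ext (Inv)
open Cfsg.Agent.QT.Qrc (P2)
open scoped commutatorElement MatrixGroups Cfsg.Agent.PLocal.CP

variable {G : Type*} [Group G] [Finite G] {V S D F : Subgroup G} {b : G}

theorem mb_zp {y z : G} (hp : (orderOf z).Prime) (hy : y ∈ zpowers z) (h1 : y ≠ 1) :
    zpowers y = zpowers z := by
  refine eq_of_le_of_card_ge (zpowers_le.2 hy) ?_
  rw [Nat.card_zpowers, Nat.card_zpowers]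
  exact ((hp.eq_one_or_self_of_dvd _ (orderOf_dvd_of_mem_zpowers hy)).resolve_left
    (by simpa using h1)).ge

theorem mb_inv {x y : G} (hi : b * x * b⁻¹ = x⁻¹) (hy : y ∈ zpowers x) : b * y * b⁻¹ = y⁻¹ := by
  obtain ⟨k, rfl⟩ := hy
  rw [← conj_zpow, hi, inv_zpow]

theorem mb_cj {g : G} (hg : g ∈ 𝐍[V]) (x : G) :
    cj(g, ⁅V, zpowers x⁆) = ⁅V, zpowers (g * x * g⁻¹)⁆ := by
  rw [← commutator_cj, cj_of_mem_normalizer hg, MonoidHom.map_zpowers]; rfl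

theorem mb_nc {g x : G} (hg : g ∈ 𝐍[V]) (h : g * x = x * g) : g ∈ 𝐍[⁅V, zpowers x⁆] := by
  rw [← cj_eq_iff, mb_cj hg, h, mul_inv_cancel_right]

theorem mb_ni {g x : G} (hg : g ∈ 𝐍[V]) (h : g * x * g⁻¹ = x⁻¹) : g ∈ 𝐍[⁅V, zpowers x⁆] := by
  rw [← cj_eq_iff, mb_cj hg, h, zpowers_inv]

theorem mb_inf {g : G} {A B : Subgroup G} (hA : g ∈ 𝐍[A]) (hB : g ∈ 𝐍[B]) : g ∈ 𝐍[A ⊓ B] :=
  zpowers_le.1 (le_normalizer_inf (zpowers_le.2 hA) (zpowers_le.2 hB))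

theorem mb_ncc {g x : G} (h : g * x = x * g) : g ∈ 𝐍[𝐜[x]] :=
  le_normalizer (mem_centralizer_singleton_iff.2 h)

/-- a commutator bounded by two subgroups with trivial intersection -/
theorem mb_cen {Y A : Subgroup G} {g : G} (hg : g ∈ 𝐍[Y]) (h1 : ⁅Y, zpowers g⁆ ≤ A)
    (h2 : Y ⊓ A = ⊥) : Y ≤ 𝐜[g] := by
  rw [← Amb.centralizer_zpowers, ← commutator_eq_bot_iff_le_centralizer, eq_bot_iff, ← h2]
  exact le_inf (le_normalizer_iff_commutator_le_left.1 (zpowers_le.2 hg)) h1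

theorem mb_fifteen {x z : G} (hp : orderOf z = 3 ∨ orderOf z = 5) (hc : x * z = z * x)
    (hx : ∃ k, orderOf x = orderOf z ^ k) (h : Nat.card ↥(zpowers x ⊔ zpowers z) ∣ 16 - 1) :
    x ∈ zpowers z := by
  obtain ⟨k, hk⟩ := hx
  have : Fact (orderOf z).Prime := ⟨by rcases hp with h | h <;> rw [h] <;> norm_num⟩
  obtain ⟨n, hn⟩ := (isPGroup_sup (p := orderOf z) (isPGroup_zpowers ⟨k, hk ▸ pow_orderOf_eq_one x⟩)
    (isPGroup_zpowers ⟨1, by rw [pow_one, pow_orderOf_eq_one]⟩) (zpowers_le.2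
      (centralizer_le_normalizer' _ (by
        rw [Amb.centralizer_zpowers]; exact mem_centralizer_singleton_iff.2 hc)))).exists_card_eq
  have h2 : n ≤ 1 := by
    by_contra h2
    have := (pow_dvd_pow _ (show 2 ≤ n by omega)).trans (hn ▸ h)
    rcases hp with h | h <;> rw [h] at this <;> norm_num at this
  have h3 : zpowers z = zpowers x ⊔ zpowers z := eq_of_le_of_card_ge le_sup_right (by
    rw [hn, Nat.card_zpowers]
    exact (Nat.pow_le_pow_right (orderOf_pos z) h2).trans_eq (pow_one _))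
  rw [h3]
  exact mem_sup_left (mem_zpowers x)

theorem Md.mb_odd (h : Md V S D F) {x : G} (hx : x ∈ D) : Odd (orderOf x) :=
  h.odd.of_dvd_nat (D.orderOf_dvd_natCard hx)

theorem Md.mb_le (h : Md V S D F) {x : G} (hx : x ∈ D) : ⁅V, zpowers x⁆ ≤ V :=
  le_normalizer_iff_commutator_le_left.1 (zpowers_le.2 (h.DV hx))

theorem Md.mb_split (h : Md V S D F) {x : G} (hx : x ∈ D) :
    ⁅V, zpowers x⁆ ⊔ (V ⊓ 𝐜[x]) = V ∧ ⁅V, zpowers x⁆ ⊓ 𝐜[x] = ⊥ := by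
  have := odd_split h.ea (X := zpowers x) (by rw [Nat.card_zpowers]; exact h.mb_odd hx)
    (zpowers_le.2 (h.DV hx))
  rw [Amb.centralizer_zpowers] at this
  exact ⟨this.1, this.2.1⟩

theorem Md.mb_cent (h : Md V S D F) {x g : G} (hx : x ∈ D) (h1 : ⁅V, zpowers x⁆ ≤ 𝐜[g])
    (h2 : V ⊓ 𝐜[x] ≤ 𝐜[g]) : g ∈ 𝐂[V] := fun _ hv =>
  mem_centralizer_singleton_iff.1 (sup_le h1 h2 ((h.mb_split hx).1.ge hv))

theorem Md.mb_six (h : Md V S D F) (hb : Sm V S b) {x : G} (hx : x ∈ D) (h1 : x ≠ 1)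
    (hi : b * x * b⁻¹ = x⁻¹) : Nat.card ↥⁅V, zpowers x⁆ = 16 ∧ Nat.card ↥⁅V, zpowers b⁆ = 4 ∧
      ⁅V, zpowers x⁆ ⊓ 𝐜[b] = ⁅V, zpowers b⁆ ∧
      ⁅V, zpowers x⁆ = ⁅V, zpowers b⁆ ⊔ cj(x, ⁅V, zpowers b⁆) := by
  have hU := elemAb_mono h.ea (h.mb_le hx)
  obtain ⟨a1, a2, a3⟩ := free_inv hU hb.sq (h.mb_odd hx) hi (mb_ni (h.SV hb.mem) hi)
    (mb_nc (h.DV hx) rfl) (h.mb_split hx).2
  have a4 : ⁅V, zpowers x⁆ ⊓ 𝐜[b] ≤ ⁅V, zpowers b⁆ := a2 ▸ commutator_mono (h.mb_le hx) le_rfl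
  have a5 := (card_comm_inv h.ea hb.sq (h.SV hb.mem)).1.trans_le hb.le
  have a6 := card_le_of_le a4
  obtain ⟨k, hk⟩ := ((elemAb_isPGroup hU).to_le (inf_le_left (b := 𝐜[b]))).exists_card_eq
  have a7 : k = 2 := by
    rcases k with _ | _ | _ | k
    · rw [hk, pow_zero, one_pow, card_eq_one] at a1
      exact (h1 (mem_bot.1 (h.fD ▸ mem_inf.2 ⟨hx, h.mb_cent hx (a1 ▸ bot_le) inf_le_right⟩))).elim
    · exact (h.one hx hb.mem hi (by rw [a1, hk]; rfl)).elim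
    · rfl
    · have := Nat.one_le_two_pow (n := k)
      rw [hk, pow_succ, pow_succ, pow_succ] at a6
      omega
  subst a7
  have a8 := eq_of_le_of_card_ge a4 (by omega)
  exact ⟨by rw [a1, hk]; rfl, by omega, a8, by rw [← a8]; exact a3⟩

theorem Md.mb_I (h : Md V S D F) (hb : Sm V S b) {x : G} (hx : x ∈ D) (h1 : x ≠ 1)
    (hi : b * x * b⁻¹ = x⁻¹) : ⁅V, zpowers b⁆ ≤ ⁅V, zpowers x⁆ :=
  (h.mb_six hb hx h1 hi).2.2.1.ge.trans inf_le_left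

/-- `U_x` is normalised by `x, b`, `U_x ⊓ 𝐜[x] = ⊥` (`odd_split`), `U_x ≠ ⊥` (`fD`).  `free_inv`:
`|U_x| = |C|²`, `C = [U_x, b] ≤ I_b`, so `|C| ∈ {2, 4}`; `|C| = 2` contradicts `Md.one`; so `C = I_b`. -/
theorem Md.sixteen (h : Md V S D F) (hb : Sm V S b) {x : G} (hx : x ∈ D) (h1 : x ≠ 1)
    (hi : b * x * b⁻¹ = x⁻¹) : Nat.card ↥⁅V, zpowers x⁆ = 16 ∧ Nat.card ↥⁅V, zpowers b⁆ = 4 ∧
      ⁅V, zpowers x⁆ = ⁅V, zpowers b⁆ ⊔ cj(x, ⁅V, zpowers b⁆) :=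
  have := h.mb_six hb hx h1 hi
  ⟨this.1, this.2.1, this.2.2.2⟩

/-- IND.  Distinct members commute: `I_b ≤ U_b ≤ 𝐜[b']` and symmetrically, `comm_mem_cent`, `fS`.
`prod_fix` with `K = 𝐂[U_{b₀}]` gives `1 ≠ π ∈ S` fixed by conjugation with every `f ∈ F`; `fq` with
`N = ⊥` gives `π = 1`. -/
theorem Md.ind (h : Md V S D F) {𝔅 : Set G} (hne : 𝔅.Nonempty) (hS : ∀ b ∈ 𝔅, b ∈ S)
    (hF : ∀ f ∈ F, ∀ b ∈ 𝔅, f * b * f⁻¹ ∈ 𝔅)
    (hU : ∀ b ∈ 𝔅, ∃ U : Subgroup G, ⁅V, zpowers b⁆ ≤ U ∧ ¬ U ≤ 𝐜[b] ∧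
      ∀ b' ∈ 𝔅, b' ≠ b → U ≤ 𝐜[b']) : False := by
  choose! U h1 h2 h3 using hU
  obtain ⟨b₀, h0⟩ := hne
  obtain ⟨π, a1, a2, -, a3⟩ := prod_fix (𝒱 := 𝔅) (K := 𝐂[U b₀]) (fun v hv w hw => by
      by_cases e : v = w
      · rw [e]
      refine commutatorElement_eq_one_iff_mul_comm.1 (mem_bot.1 (h.fS ▸ mem_inf.2 ⟨?_,
        comm_mem_cent h.ea (h.SV (hS v hv)) (h.SV (hS w hw))
          ((h1 v hv).trans (h3 v hv w hw (Ne.symm e))) ((h1 w hw).trans (h3 w hw v hv e))⟩))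
      exact mul_mem (mul_mem (mul_mem (hS v hv) (hS w hw)) (inv_mem (hS v hv))) (inv_mem (hS w hw)))
    h0 (fun h4 => h2 b₀ h0 fun u hu => mem_centralizer_singleton_iff.2 (h4 u hu))
    fun v hv e u hu => mem_centralizer_singleton_iff.1 (h3 b₀ h0 v hv e hu)
  refine a2 (mem_bot.1 (h.fq ⊥ bot_le le_normalizer_of_normal π ((closure_le S).2 hS a1)
    fun f hf => ?_))
  rw [show f * π * f⁻¹ = π from a3 (MulAut.conj f) (hF f hf), inv_mul_cancel]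
  exact one_mem _

/-- `b` inverts `z ∈ Z(D)` of prime order `p` and `x ∈ D` of order a power of `p`.  All elements of
the abelian group `X = ⟨x, z⟩` are inverted by `b`.  For `1 ≠ y ∈ X`: `U_y = U_z`.  (`Y = U_y ⊓ U_z ≥ I_b`
is normalised by `y` and `b`, `Y ⊓ 𝐜[y] = ⊥`; `free_inv`: `|Y| = |Y ⊓ 𝐜[b]|² ≥ |I_b|² = 16`.)  So every
`1 ≠ y ∈ X` is fixed point free on `U_z`, `|X|` divides 15 (`card_dvd_of_fpf`); `X` is a `p`-group, so
`p ∈ {3, 5}`, `|X| = p`, `X = ⟨z⟩`. -/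
theorem Md.invz (h : Md V S D F) (hb : Sm V S b) {z : G} (hz : z ∈ D ⊓ 𝐂[D])
    (hp : (orderOf z).Prime) (hi : b * z * b⁻¹ = z⁻¹) : (orderOf z = 3 ∨ orderOf z = 5) ∧
      ∀ x ∈ D, (∃ k, orderOf x = orderOf z ^ k) → b * x * b⁻¹ = x⁻¹ → x ∈ zpowers z := by
  have z1 : z ≠ 1 := fun e => hp.ne_one (orderOf_eq_one_iff.2 e)
  obtain ⟨c1, c2, c3, -⟩ := h.mb_six hb hz.1 z1 hi
  have key : ∀ y ∈ D, b * y * b⁻¹ = y⁻¹ → y ≠ 1 → ⁅V, zpowers z⁆ ⊓ 𝐜[y] = ⊥ := by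
    intro y hy hy2 hy1
    have a1 := (free_inv (elemAb_mono h.ea (inf_le_left.trans (h.mb_le hy))) hb.sq (h.mb_odd hy) hy2
      (mb_inf (mb_ni (h.SV hb.mem) hy2) (mb_ni (h.SV hb.mem) hi))
      (mb_inf (mb_nc (h.DV hy) rfl) (mb_nc (h.DV hy) (hz.2 y hy)))
      (eq_bot_iff.2 ((inf_le_inf_right _ inf_le_left).trans (h.mb_split hy).2.le))).1
    have a2 := card_le_of_le (le_inf (le_inf (h.mb_I hb hy hy1 hy2) (c3.ge.trans inf_le_left))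
      (c3.ge.trans inf_le_right))
    have a3 := eq_of_le_of_card_ge (inf_le_right (a := ⁅V, zpowers y⁆) (b := ⁅V, zpowers z⁆))
      (by rw [a1, c1]; nlinarith)
    rw [← a3]
    exact eq_bot_iff.2 ((inf_le_inf_right _ inf_le_left).trans (h.mb_split hy).2.le)
  have key2 : ∀ x ∈ D, b * x * b⁻¹ = x⁻¹ → Nat.card ↥(zpowers x ⊔ zpowers z) ∣ 16 - 1 := by
    intro x hx hx2
    have hX : zpowers x ⊔ zpowers z ≤ D := sup_le (zpowers_le.2 hx) (zpowers_le.2 hz.1)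
    rw [← c1]
    refine card_dvd_of_fpf (fun y hy => mb_nc (h.DV (hX hy)) (hz.2 y (hX hy))) fun y hy =>
      key y (hX hy) ?_
    obtain ⟨a, ha, c, hc, rfl⟩ := (mem_sup_of_le_normalizer_right (zpowers_le.2
      (centralizer_le_normalizer' _ (by
        rw [Amb.centralizer_zpowers]; exact mem_centralizer_singleton_iff.2 (hz.2 x hx))))).1 hy
    have e := (zpowers_le.2 hz.2 hc) a (zpowers_le.2 hx ha)
    rw [← conj_mul, mb_inv hx2 ha, mb_inv hi hc, e, mul_inv_rev]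
  have h35 : orderOf z = 3 ∨ orderOf z = 5 := by
    have := key2 z hz.1 hi
    rw [sup_idem, Nat.card_zpowers, show 16 - 1 = 3 * 5 from rfl, hp.dvd_mul] at this
    exact this.imp (Nat.prime_dvd_prime_iff_eq hp Nat.prime_three).1
      (Nat.prime_dvd_prime_iff_eq hp Nat.prime_five).1
  exact ⟨h35, fun x hx hk hx2 => mb_fifteen h35 (hz.2 x hx) hk (key2 x hx hx2)⟩

/-- Order 3 is impossible.  Let `P = pCoreOf 3 D` (normalised by `S` and `F`; it contains `z`).  By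
`invz` the inverted elements of `P` are the 3 elements of `⟨z⟩`, so `|P| = 3 |C_P(b)|`
(`card_inv_mul`), and `b` acts on the set `P` as an involution with `(|P| - |C|)/2 = |C|` (odd)
transpositions: sign `-1` (`Equiv.Perm.sign_of_pow_two_eq_one`).  Let `σ : 𝐍[P] →* ℤˣ` be the sign of
conjugation on `P` and `N = S ⊓ ker σ` (mapped to `G`); `F ≤ 𝐍[N]` and `b⁻¹ (f b f⁻¹) ∈ N` as `ℤˣ` is
commutative; `fq` gives `b ∈ N`, absurd. -/
theorem Md.three (h : Md V S D F) (hb : Sm V S b) {z : G} (hz : z ∈ D ⊓ 𝐂[D])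
    (h3 : orderOf z = 3) (hi : b * z * b⁻¹ = z⁻¹) : False := by
  classical
  have hiv := (h.invz hb hz (h3 ▸ Nat.prime_three) hi).2
  obtain ⟨P, hP⟩ : ∃ P, P = pCoreOf 3 D := ⟨_, rfl⟩
  have PD : P ≤ D := hP ▸ pCoreOf_le 3 D
  have nP : 𝐍[D] ≤ 𝐍[P] := hP ▸ normalizer_le_normalizer_pCoreOf 3 D
  have zP : zpowers z ≤ P := hP ▸ le_pCoreOf (isPGroup_zpowers ⟨1, by rw [pow_one, ← h3, pow_orderOf_eq_one]⟩)
    (zpowers_le.2 hz.1) ((le_centralizer_iff.1 (zpowers_le.2 hz.2)).trans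
      (centralizer_le_normalizer' _))
  have oP : Odd (Nat.card P) := h.odd.of_dvd_nat (card_dvd_of_le PD)
  have bP := nP (h.SD hb.mem)
  have a1 := card_inv_mul oP hb.sq bP
  have a2 : Nat.card {y // y ∈ P ∧ b * y * b⁻¹ = y⁻¹} = 3 := by
    rw [← h3, ← Nat.card_zpowers]
    refine Nat.card_congr (Equiv.subtypeEquivRight fun y => ⟨fun hy => hiv y (PD hy.1) ?_ hy.2,
      fun hy => ⟨zP hy, mb_inv hi hy⟩⟩)
    obtain ⟨k, hk⟩ := isPGroup_iff.1 (hP ▸ isPGroup_pCoreOf 3 D : IsPGroup 3 P) y hy.1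
    obtain ⟨j, -, hj⟩ := (Nat.dvd_prime_pow Nat.prime_three).1 (orderOf_dvd_of_pow_eq_one hk)
    exact ⟨j, h3 ▸ hj⟩
  have := Fintype.ofFinite P
  let τ : 𝐍[P] →* Equiv.Perm P := (MulAut.toPerm P).comp P.normalizerMonoidHom
  let σ : 𝐍[P] →* ℤˣ := Equiv.Perm.sign.comp τ
  have a3 : σ ⟨b, bP⟩ = -1 := by
    have e : Fintype.card (Function.fixedPoints (τ ⟨b, bP⟩)) = Nat.card ↥(P ⊓ 𝐜[b]) := by
      rw [← Nat.card_eq_fintype_card, ← map_subgroupOf_of_le (inf_le_left (a := P) (b := 𝐜[b])),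
        card_subtype, inf_subgroupOf_left]
      exact Nat.card_congr (Equiv.subtypeEquivRight fun y => Subtype.ext_iff.trans
        (mul_inv_eq_iff_eq_mul.trans (eq_comm.trans mem_centralizer_singleton_iff.symm)))
    change Equiv.Perm.sign (τ ⟨b, bP⟩) = -1
    rw [Equiv.Perm.sign_of_pow_two_eq_one (by
      rw [← map_pow, show (⟨b, bP⟩ : 𝐍[P]) ^ 2 = 1 from Subtype.ext ((pow_two b).trans hb.sq),
        map_one]), e, ← Nat.card_eq_fintype_card, ← a1, a2]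
    rw [← a1, a2] at oP
    rw [show (3 * Nat.card ↥(P ⊓ 𝐜[b]) - Nat.card ↥(P ⊓ 𝐜[b])) / 2 = Nat.card ↥(P ⊓ 𝐜[b]) by omega]
    exact (Nat.odd_mul.1 oP).2.neg_one_pow
  have a4 := h.fq (S ⊓ σ.ker.map (𝐍[P]).subtype) inf_le_left (le_normalizer_inf h.FS
    ((h.FD.trans nP).trans (le_normalizer_map_subtype _))) b hb.mem fun f hf =>
      ⟨S.mul_mem (S.inv_mem hb.mem) (conj_mem_of_mem_normalizer (h.FS hf) hb.mem),
        (⟨b, bP⟩ : 𝐍[P])⁻¹ * (⟨f, nP (h.FD hf)⟩ * ⟨b, bP⟩ * (⟨f, nP (h.FD hf)⟩ : 𝐍[P])⁻¹), by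
          rw [SetLike.mem_coe, MonoidHom.mem_ker, map_mul, map_mul, map_mul, map_inv, map_inv,
            mul_inv_cancel_comm, inv_mul_cancel], rfl⟩
  have a5 : σ ⟨b, bP⟩ = 1 := (mem_map_subtype (x := ⟨b, bP⟩)).1 a4.2
  exact absurd (a3.symm.trans a5) (by decide)

theorem Md.mb_irr (h : Md V S D F) {z : G} (hz : z ∈ D) (h5 : orderOf z = 5)
    (hc : Nat.card ↥⁅V, zpowers z⁆ = 16) {Y : Subgroup G} (hY : Y ≤ ⁅V, zpowers z⁆) (hn : z ∈ 𝐍[Y]) :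
    Y = ⊥ ∨ Y = ⁅V, zpowers z⁆ := by
  have a1 := card_dvd_of_fpf (zpowers_le.2 hn) fun y hy h1 => by
    rw [← Amb.centralizer_zpowers, mb_zp (h5 ▸ Nat.prime_five) hy h1, Amb.centralizer_zpowers]
    exact eq_bot_iff.2 ((inf_le_inf_right _ hY).trans (h.mb_split hz).2.le)
  rw [Nat.card_zpowers, h5] at a1
  obtain ⟨k, hk, e⟩ := (Nat.dvd_prime_pow Nat.prime_two (m := 4)).1 (hc ▸ card_dvd_of_le hY :)
  rw [e] at a1
  interval_cases k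
  · exact Or.inl (card_eq_one.1 e)
  · omega
  · omega
  · omega
  · exact Or.inr (eq_of_le_of_card_ge hY (by omega))

theorem Md.mb_gen (h : Md V S D F) {z t : G} (hz : z ∈ D ⊓ 𝐂[D]) (h5 : orderOf z = 5)
    (hc : Nat.card ↥⁅V, zpowers z⁆ = 16) (ht : t ∈ D) :
    ⁅V, zpowers z⁆ ≤ ⁅V, zpowers t⁆ ∨ ⁅V, zpowers z⁆ ≤ 𝐜[t] :=
  (h.mb_irr hz.1 h5 hc inf_le_left (mb_inf (mb_nc (h.DV hz.1) rfl)
    (mb_nc (h.DV hz.1) (hz.2 t ht).symm))).symm.imp inf_eq_left.1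
    (mb_cen (mb_nc (h.DV ht) (hz.2 t ht)) (commutator_mono (h.mb_le hz.1) le_rfl))

theorem Md.mb_not (h : Md V S D F) {z : G} (hz : z ∈ D) (hc : Nat.card ↥⁅V, zpowers z⁆ = 16) :
    ¬ ⁅V, zpowers z⁆ ≤ 𝐜[z] := fun h1 => by
  rw [← inf_eq_left.2 h1, (h.mb_split hz).2, card_bot] at hc
  omega

theorem Md.mb_eq (h : Md V S D F) (hb : Sm V S b) {b' z z' : G} (hb' : Sm V S b')
    (hz : z ∈ D ⊓ 𝐂[D]) (h5 : orderOf z = 5) (hi : b * z * b⁻¹ = z⁻¹) (hz' : z' ∈ D ⊓ 𝐂[D])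
    (h5' : orderOf z' = 5) (hi' : b' * z' * b'⁻¹ = z'⁻¹) (e : ⁅V, zpowers z⁆ = ⁅V, zpowers z'⁆) :
    b' = b := by
  have z1 : z ≠ 1 := fun e => by simp [e] at h5
  have c1 := (h.mb_six hb hz.1 z1 hi).1
  have nC : ∀ g ∈ 𝐍[V], g ∈ 𝐍[zpowers z] → g ∈ 𝐍[V ⊓ 𝐜[z]] := fun g h1 h2 =>
    mb_inf h1 (Amb.centralizer_zpowers z ▸ normalizer_le_normalizer_centralizer _ h2)
  have hC : ∀ g ∈ 𝐍[V], g ∈ 𝐍[zpowers z] → ⁅V, zpowers g⁆ ≤ ⁅V, zpowers z⁆ → V ⊓ 𝐜[z] ≤ 𝐜[g] :=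
    fun g h1 h2 h3 => mb_cen (nC g h1 h2) ((commutator_mono inf_le_left le_rfl).trans h3)
      (eq_bot_iff.2 ((le_inf inf_le_right (inf_le_left.trans inf_le_right)).trans
        (h.mb_split hz.1).2.le))
  have hX : zpowers z ⊔ zpowers z' ≤ D := sup_le (zpowers_le.2 hz.1) (zpowers_le.2 hz'.1)
  have a1 : z ∈ zpowers z' := by
    refine mb_fifteen (Or.inr h5') (hz'.2 z hz.1) ⟨1, by rw [h5, h5', pow_one]⟩ ?_
    rw [← c1]
    refine card_dvd_of_fpf (fun y hy => mb_nc (h.DV (hX hy)) (hz.2 y (hX hy))) fun y hy y1 => ?_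
    refine (h.mb_irr hz.1 h5 c1 inf_le_left (mb_inf (mb_nc (h.DV hz.1) rfl)
      (mb_ncc (hz.2 y (hX hy)).symm))).resolve_right fun h1 => y1 (mem_bot.1 (h.fD ▸ mem_inf.2
        ⟨hX hy, h.mb_cent hz.1 (inf_eq_left.1 h1) ?_⟩))
    have : zpowers z ⊔ zpowers z' ≤ 𝐂[V ⊓ 𝐜[z]] := by
      rw [le_centralizer_iff, Amb.centralizer_sup, Amb.centralizer_zpowers, Amb.centralizer_zpowers]
      refine le_inf inf_le_right (hC z' (h.DV hz'.1) (centralizer_le_normalizer' _ ?_) e.ge)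
      rw [Amb.centralizer_zpowers]
      exact mem_centralizer_singleton_iff.2 (hz.2 z' hz'.1)
    exact fun v hv => mem_centralizer_singleton_iff.2 (this hy v hv)
  have a2 := mb_inv hi' a1
  have nz : ∀ g : G, g * z * g⁻¹ = z⁻¹ → g ∈ 𝐍[zpowers z] := fun g hg => by
    rw [← cj_eq_iff, MonoidHom.map_zpowers]
    exact (congrArg zpowers hg).trans zpowers_inv
  have a3 : b * b' * z = z * (b * b') := by
    rw [← mul_inv_eq_iff_eq_mul, mul_inv_rev]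
    calc _ = b * (b' * z * b'⁻¹) * b⁻¹ := by group
      _ = z := by rw [a2, ← conj_inv, hi, inv_inv]
  have cS := mul_mem hb.mem hb'.mem
  have a4 : ⁅V, zpowers z⁆ ≤ 𝐜[b * b'] := by
    refine inf_eq_left.1 ((h.mb_irr hz.1 h5 c1 inf_le_left (mb_inf (mb_nc (h.DV hz.1) rfl)
      (mb_ncc a3.symm))).resolve_left ?_)
    rw [← Amb.centralizer_zpowers]
    refine inf_centralizer_ne_bot (h.pg.to_le (zpowers_le.2 cS))
      (elemAb_isPGroup (elemAb_mono h.ea (h.mb_le hz.1))) (zpowers_le.2 (mb_nc (h.SV cS) a3))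
      fun h0 => ?_
    rw [h0, card_bot] at c1
    omega
  have a5 : b * b' = 1 := mem_bot.1 (h.fS ▸ mem_inf.2 ⟨cS, h.mb_cent hz.1 a4 fun v hv => by
    have e1 := mem_centralizer_singleton_iff.1
      (hC b (h.SV hb.mem) (nz b hi) (h.mb_I hb hz.1 z1 hi) hv)
    have e2 := mem_centralizer_singleton_iff.1
      (hC b' (h.SV hb'.mem) (nz b' a2) (h.mb_I hb' hz.1 z1 a2) hv)
    rw [mem_centralizer_singleton_iff, ← mul_assoc, e1, mul_assoc, e2, mul_assoc]⟩)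
  exact mul_left_cancel (a5.trans hb.sq.symm)

/-- Order 5.  Apply `ind` to `𝔅 = {b | Sm V S b ∧ ∃ z ∈ D ⊓ 𝐂[D], orderOf z = 5 ∧ b inverts z}` with
`U = U_z` (`I_b ≤ U_z` and `¬ U_z ≤ 𝐜[b]` by `sixteen`).  Let `b' ≠ b` with `z'`.
Irreducibility: a `z`-invariant subgroup `1 ≠ Y ≤ U_z` has `5 ∣ |Y| - 1`, so `Y = U_z`.
* `U_z ⊓ U_{z'} ≠ ⊥`: then `U_z = U_{z'}`; `⟨z, z'⟩` is elementary abelian; for `1 ≠ y` in it
  `U_z ⊓ 𝐜[y]` is `z`-invariant; if it is `U_z` then `y` centralises `U_z` and `C_V(z)`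
  (`[C_V(z), z'] ≤ C_V(z) ⊓ U_{z'} = ⊥`), so `y = 1`; hence `|⟨z, z'⟩|` divides 15 and `z' ∈ ⟨z⟩`.
  Then `b, b'` both invert `z`, `c = b b' ∈ S` centralises `z`; `U_z ⊓ 𝐜[c] ≠ ⊥` (2-element) is
  `z`-invariant, so `c` centralises `U_z`; `[C_V(z), b] ≤ I_b ⊓ 𝐜[z] = ⊥`, same for `b'`; so
  `c ∈ S ⊓ 𝐂[V] = ⊥`, `b = b'`, absurd.
* `U_z ⊓ U_{z'} = ⊥`: `w = z⁻¹ (b' z b'⁻¹)` lies in `Z(D)`, has order 1 or 5 and is inverted by `b'`, so
  `w ∈ ⟨z'⟩` (`invz`).  If `w ≠ 1` then `b' z b'⁻¹ = z w` has `[V, z w] ≥ U_z ⊔ U_{z'}` (`z'`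
  centralises `U_z`: `[U_z, z'] ≤ U_z ⊓ U_{z'}`; so `[U_z, z w] = [U_z, z] = U_z`; same for `U_{z'}`), of
  order `> 16`, but it is `cj(b', U_z)` of order 16.  So `b'` centralises `z`, normalises `U_z` and
  `[U_z, b'] ≤ U_z ⊓ I_{b'} ≤ U_z ⊓ U_{z'} = ⊥`. -/
theorem Md.five (h : Md V S D F) (hb : Sm V S b) {z : G} (hz : z ∈ D ⊓ 𝐂[D])
    (h5 : orderOf z = 5) (hi : b * z * b⁻¹ = z⁻¹) : False := by
  refine h.ind (𝔅 := {b | Sm V S b ∧ ∃ z ∈ D ⊓ 𝐂[D], orderOf z = 5 ∧ b * z * b⁻¹ = z⁻¹})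
    ⟨b, hb, z, hz, h5, hi⟩ (fun b hb => hb.1.mem) ?_ ?_
  · rintro f hf b ⟨hb, z, hz, h5, hi⟩
    refine ⟨⟨conj_mem_of_mem_normalizer (h.FS hf) hb.mem, by rw [conj_mul, hb.sq]; simp,
      fun e => hb.ne (by simpa [mul_inv_eq_one] using e), ?_⟩, f * z * f⁻¹,
      conj_mem_of_mem_normalizer (mb_inf (h.FD hf)
        (normalizer_le_normalizer_centralizer _ (h.FD hf))) hz, ?_, ?_⟩
    · rw [centralizer_singleton_conj, ← cj_of_mem_normalizer (h.FV hf),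
        relIndex_map_map_of_injective _ _ (MulAut.conj f).injective]
      exact hb.le
    · exact h5 ▸ (MulAut.conj f).orderOf_eq z
    · rw [conj_inv (a := z), ← hi]; group
  rintro b ⟨hb, z, hz, h5, hi⟩
  have z1 : z ≠ 1 := fun e => by simp [e] at h5
  obtain ⟨c1, c2, c3, -⟩ := h.mb_six hb hz.1 z1 hi
  refine ⟨_, h.mb_I hb hz.1 z1 hi, fun h1 => ?_, ?_⟩
  · rw [← c3, inf_eq_left.2 h1] at c2
    omega
  rintro b' ⟨hb', z', hz', h5', hi'⟩ ne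
  have z1' : z' ≠ 1 := fun e => by simp [e] at h5'
  have c1' := (h.mb_six hb' hz'.1 z1' hi').1
  have a1 := (h.mb_gen hz h5 c1 hz'.1).resolve_left fun h1 =>
    ne (h.mb_eq hb hb' hz h5 hi hz' h5' hi' (eq_of_le_of_card_ge h1 (by omega)))
  have a2 := (h.mb_gen hz' h5' c1' hz.1).resolve_left fun h1 =>
    ne (h.mb_eq hb hb' hz h5 hi hz' h5' hi' (eq_of_le_of_card_ge h1 (by omega)).symm)
  have tD := conj_mem_of_mem_normalizer (h.SD hb'.mem) hz.1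
  have c4 : Nat.card ↥⁅V, zpowers (b' * z * b'⁻¹)⁆ = 16 := by
    rw [← mb_cj (h.SV hb'.mem), card_cj, c1]
  have a3 : z⁻¹ * (b' * z * b'⁻¹) ∈ zpowers z' := by
    refine (h.invz hb' hz' (h5' ▸ Nat.prime_five) hi').2 _ (mul_mem (inv_mem hz.1) tD) ?_ ?_
    · have : (z⁻¹ * (b' * z * b'⁻¹)) ^ 5 ^ 1 = 1 := by
        rw [pow_one, (Commute.inv_left (hz.2 _ tD).symm).mul_pow, conj_pow, inv_pow, ← h5,
          pow_orderOf_eq_one]
        simp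
      obtain ⟨j, -, hj⟩ := (Nat.dvd_prime_pow Nat.prime_five).1 (orderOf_dvd_of_pow_eq_one this)
      exact ⟨j, h5' ▸ hj⟩
    · calc _ = b' * z⁻¹ * b'⁻¹ * ((b' * b') * z * (b' * b')⁻¹) := by group
        _ = _ := by rw [hb'.sq]; group
  have a4 : z⁻¹ * (b' * z * b'⁻¹) = 1 := by
    by_contra w1
    have e1 := (h.mb_gen hz h5 c1 tD).resolve_right fun h1 => h.mb_not hz.1 c1 fun u hu => by
      have f1 : Commute u (b' * z * b'⁻¹) := mem_centralizer_singleton_iff.1 (h1 hu)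
      have f2 : Commute u (z⁻¹ * (b' * z * b'⁻¹)) :=
        ((Amb.centralizer_zpowers z').ge (a1 hu) _ a3).symm
      exact mem_centralizer_singleton_iff.2 (by
        simpa only [mul_inv_rev (z⁻¹), inv_inv, mul_inv_cancel_left] using
          (f1.mul_right f2.inv_right).eq)
    have e2 := (h.mb_gen hz' h5' c1' tD).resolve_right fun h1 => h.mb_not hz'.1 c1' fun u hu => by
      have f1 : Commute u (b' * z * b'⁻¹) := mem_centralizer_singleton_iff.1 (h1 hu)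
      have f2 : Commute u z := mem_centralizer_singleton_iff.1 (a2 hu)
      rw [← Amb.centralizer_zpowers, ← mb_zp (h5' ▸ Nat.prime_five) a3 w1, Amb.centralizer_zpowers]
      exact mem_centralizer_singleton_iff.2 (f2.inv_right.mul_right f1).eq
    exact h.mb_not hz'.1 c1' ((e2.trans (eq_of_le_of_card_ge e1 (by omega)).ge).trans a1)
  exact mb_cen (mb_nc (h.SV hb'.mem) (mul_inv_eq_iff_eq_mul.1 (inv_mul_eq_one.1 a4).symm))
    ((commutator_mono (h.mb_le hz.1) le_rfl).trans (h.mb_I hb' hz'.1 z1' hi'))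
    (eq_bot_iff.2 ((le_inf inf_le_right (inf_le_left.trans a1)).trans (h.mb_split hz'.1).2.le))

end Cfsg.Agent.NFS
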