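import Cfsg.Agent.NFS.MdB

/-!
# Module lemma (ii): type B 

`b` small and centralising `Z(D) = D ⊓ 𝐂[D]`.  `E_b = ⁅D, zpowers b⁆`, `I_b = ⁅V, zpowers b⁆`,
`U_b = ⁅V, E_b⁆`, `U_x = ⁅V, zpowers x⁆`.
-/

set_option autoImplicit false
set_option linter.unusedSectionVars false

namespace Cfsg.Agent.NFS

open Cfsg.Agent.PLocal hiding centralizer_anti
open Subgroup Cfsg Cfsg.Agent.PLocal.Amb Cfsg.Agent.PLocal.TV
open Cfsg.Agent.PLocal.SL2Nat Cfsg.Agent.PLocal.Bk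
open Cfsg.Agent.PLocal.CP (IsCharP MinOver ncl secCent)
open Cfsg.Agent.Solv.Ext (Inv)
open Cfsg.Agent.QT.Qrc (P2)
open scoped commutatorElement MatrixGroups Cfsg.Agent.PLocal.CP

variable {G : Type*} [Group G] [Finite G] {V S D F : Subgroup G} {b b' : G}

namespace MdC

theorem ex_center {E : Subgroup G} (hD : Group.IsNilpotent D) (hE : E ≤ D) (hn : D ≤ 𝐍[E])
    (h1 : E ≠ ⊥) : ∃ z ∈ E, z ≠ 1 ∧ z ∈ 𝐂[D] := by
  by_contra hc
  push Not at hc
  obtain ⟨n, hn0⟩ := (isNilpotent_iff_lowerCentralSeries D).1 hD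
  have key : ∀ n, E ⊓ D.lowerCentralSeries n = ⊥ → E = ⊥ := by
    intro n
    induction n with
    | zero => intro e; rwa [Subgroup.lowerCentralSeries_zero, inf_eq_left.2 hE] at e
    | succ n ih =>
      intro e
      refine ih ((eq_bot_iff_forall _).2 fun x hx => ?_)
      by_contra x1
      refine hc x hx.1 x1 fun d hd => ?_
      have : ⁅x, d⁆ ∈ E ⊓ D.lowerCentralSeries (n + 1) :=
        ⟨le_normalizer_iff_commutator_le_left.1 hn (commutator_mem_commutator hx.1 hd),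
          commutator_mem_commutator hx.2 hd⟩
      rw [e, mem_bot, commutatorElement_eq_one_iff_mul_comm] at this
      exact this.symm
  exact h1 (key n (by rw [hn0, inf_bot_eq]))

theorem mem_c {x y : G} : y ∈ 𝐜[x] ↔ y * x = x * y := mem_centralizer_singleton_iff

theorem c_symm {x y : G} (h : y ∈ 𝐜[x]) : x ∈ 𝐜[y] := mem_c.2 (mem_c.1 h).symm

theorem nz {x g : G} (h : g * x * g⁻¹ ∈ zpowers x) : g ∈ 𝐍[zpowers x] :=
  mem_normalizer_of_cj_le (by rw [MonoidHom.map_zpowers]; exact zpowers_le.2 h)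

theorem nz_c {x g : G} (h : g ∈ 𝐜[x]) : g ∈ 𝐍[zpowers x] :=
  nz (by rw [mem_c.1 h, mul_inv_cancel_right]; exact mem_zpowers x)

theorem nz_i {x g : G} (h : g * x * g⁻¹ = x⁻¹) : g ∈ 𝐍[zpowers x] :=
  nz (by rw [h]; exact inv_mem (mem_zpowers x))

theorem n_comm {A B : Subgroup G} {g : G} (hA : g ∈ 𝐍[A]) (hB : g ∈ 𝐍[B]) : g ∈ 𝐍[⁅A, B⁆] :=
  le_normalizer_commutator (zpowers_le.2 hA) (zpowers_le.2 hB) (mem_zpowers g)

theorem n_inf {A B : Subgroup G} {g : G} (hA : g ∈ 𝐍[A]) (hB : g ∈ 𝐍[B]) : g ∈ 𝐍[A ⊓ B] :=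
  le_normalizer_inf (zpowers_le.2 hA) (zpowers_le.2 hB) (mem_zpowers g)

theorem n_c {x g : G} (h : g ∈ 𝐍[zpowers x]) : g ∈ 𝐍[𝐜[x]] := by
  rw [← Amb.centralizer_zpowers]; exact normalizer_le_normalizer_centralizer _ h

/-- a normalised subgroup of order two is centralised -/
theorem two_cent {K : Subgroup G} {z : G} (hK : Nat.card K = 2) (hz : z ∈ 𝐍[K]) : K ≤ 𝐜[z] := by
  intro k hk
  by_cases k1 : k = 1
  · rw [k1]; exact one_mem _
  obtain ⟨y, -, hy⟩ := (Nat.card_eq_two_iff' (1 : K)).1 hK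
  have a := hy ⟨k, hk⟩ fun e => k1 (congrArg Subtype.val e)
  have c := hy ⟨z * k * z⁻¹, conj_mem_of_mem_normalizer hz hk⟩ fun e => k1 (by
    have : z * k * z⁻¹ = 1 := congrArg Subtype.val e
    simpa using this)
  have : z * k * z⁻¹ = k := congrArg Subtype.val (c.trans a.symm)
  exact mem_c.2 (mul_inv_eq_iff_eq_mul.1 this).symm

/-- invariant subgroups of a four-group -/
theorem four {I K : Subgroup G} {z : G} (hI : Nat.card I = 4) (hK : K ≤ I) (hz : z ∈ 𝐍[K])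
    (hf : K ⊓ 𝐜[z] = ⊥) : K = ⊥ ∨ K = I := by
  have hd : Nat.card K ∣ 2 ^ 2 := by
    have := card_dvd_of_le hK
    rwa [hI] at this
  obtain ⟨i, hi, e⟩ := (Nat.dvd_prime_pow Nat.prime_two).1 hd
  interval_cases i
  · exact .inl (card_eq_one.1 e)
  · exact .inl (by rw [← hf, inf_eq_left.2 (two_cent e hz)])
  · exact .inr (eq_of_le_of_card_ge hK (by rw [hI, e]; norm_num))

theorem odd_le {X : Subgroup G} (hD : Odd (Nat.card D)) (h : X ≤ D) : Odd (Nat.card X) :=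
  hD.of_dvd_nat (card_dvd_of_le h)

theorem odd_ord {x : G} (hD : Odd (Nat.card D)) (h : x ∈ D) : Odd (orderOf x) := by
  rw [← Nat.card_zpowers]; exact odd_le hD (zpowers_le.2 h)

theorem ex_half {x : G} (h : Odd (orderOf x)) : ∃ j : ℕ, x ^ j * x ^ j = x := by
  obtain ⟨k, hk⟩ := h
  refine ⟨k + 1, ?_⟩
  rw [← pow_add, show k + 1 + (k + 1) = orderOf x + 1 by omega, pow_succ, pow_orderOf_eq_one, one_mul]

/-- no real elements in a group of odd order -/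
theorem not_real {g w : G} (hg : Odd (orderOf g)) (hw : Odd (orderOf w))
    (h : g * w * g⁻¹ = w⁻¹) : w = 1 := by
  have a : Commute (g * g) w := by
    have : g * g * w * (g * g)⁻¹ = w := by
      calc _ = g * (g * w * g⁻¹) * g⁻¹ := by group
        _ = g * w⁻¹ * g⁻¹ := by rw [h]
        _ = (g * w * g⁻¹)⁻¹ := by group
        _ = w := by rw [h, inv_inv]
    exact mul_inv_eq_iff_eq_mul.1 this
  obtain ⟨j, hj⟩ := ex_half hg
  have c : Commute g w := by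
    rw [← hj, ← (Commute.refl g).mul_pow]; exact a.pow_left j
  rw [c.eq, mul_inv_cancel_right] at h
  obtain ⟨i, hi⟩ := ex_half hw
  rw [← hi, ← (Commute.refl w).mul_pow, eq_inv_iff_mul_eq_one.1 h, one_pow]

/-- Step (3): if `C_D(b b') ≤ C(b')` then `b'` centralises the elements inverted by `b`. -/
theorem inv_cent (hD : Odd (Nat.card D)) (b2 : b * b = 1) (c2 : b' * b' = 1)
    (hbb : b * b' = b' * b) (nb : b ∈ 𝐍[D]) (nc : b' ∈ 𝐍[D]) (hC : D ⊓ 𝐜[b * b'] ≤ 𝐜[b'])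
    {x : G} (hx : x ∈ D) (hi : b * x * b⁻¹ = x⁻¹) : x ∈ 𝐜[b'] := by
  have ib : b⁻¹ = b := inv_eq_of_mul_eq_one_right b2
  have ic : b'⁻¹ = b' := inv_eq_of_mul_eq_one_right c2
  set y := b' * x * b'⁻¹ with hy
  have yD : y ∈ D := conj_mem_of_mem_normalizer nc hx
  set w := x * y⁻¹ with hw
  have wD : w ∈ D := mul_mem hx (inv_mem yD)
  have hyx : b' * y * b'⁻¹ = x := by
    calc _ = b' * b' * x * (b' * b')⁻¹ := by rw [hy]; group
      _ = x := by rw [c2]; group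
  have wi : b' * w * b'⁻¹ = w⁻¹ := by
    calc _ = y * (b' * y * b'⁻¹)⁻¹ := by rw [hw, hy]; group
      _ = _ := by rw [hyx, hw]; group
  set c := b * b' with hc
  have cc : c * c = 1 := by
    calc c * c = b * (b' * b) * b' := by rw [hc]; group
      _ = b * b * (b' * b') := by rw [← hbb, hc]; group
      _ = 1 := by rw [b2, c2, one_mul]
  have icc : c⁻¹ = c := inv_eq_of_mul_eq_one_right cc
  have ncD : c ∈ 𝐍[D] := mul_mem nb nc
  have cy : c * y * c⁻¹ = x⁻¹ := by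
    calc _ = b * (b' * y * b'⁻¹) * b⁻¹ := by rw [hc]; group
      _ = _ := by rw [hyx, hi]
  -- `t = y c`, `t² = w⁻¹`
  have tt : y * c * (y * c) = w⁻¹ := by
    calc _ = y * (c * y * c⁻¹) := by rw [icc]; group
      _ = _ := by rw [cy, hw]; group
  have tw : Commute (y * c) w := by
    have : Commute (y * c) w⁻¹ := by rw [← tt]; exact (Commute.refl _).mul_right (Commute.refl _)
    simpa using this.inv_right
  obtain ⟨j, hj⟩ := ex_half (odd_ord hD wD)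
  -- the involution `s = w^j t = u c`
  set u := w ^ j * y with hu
  have uD : u ∈ D := mul_mem (pow_mem wD j) yD
  have sw : Commute (u * c) w := by
    rw [hu, mul_assoc]; exact ((Commute.refl w).pow_left j).mul_left tw
  have ss : u * c * (u * c) = 1 := by
    calc _ = w ^ j * (y * c * w ^ j) * (y * c) := by rw [hu]; group
      _ = w ^ j * w ^ j * (y * c * (y * c)) := by rw [(tw.pow_right j).eq]; group
      _ = 1 := by rw [hj, tt, mul_inv_cancel]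
  have cu : c * u * c⁻¹ = u⁻¹ := by
    rw [icc, eq_inv_iff_mul_eq_one]
    calc _ = u⁻¹ * (u * c * (u * c)) * u := by group
      _ = 1 := by rw [ss]; group
  obtain ⟨i, hi'⟩ := ex_half (odd_ord hD uD)
  set g := u ^ i with hg
  have gD : g ∈ D := pow_mem uD i
  have cg : c * g * c⁻¹ = g⁻¹ := by rw [hg, ← conj_pow, cu, inv_pow]
  have gc : g * c * g⁻¹ = u * c := by
    calc _ = g * (c * g * c⁻¹)⁻¹ * c := by group
      _ = _ := by rw [cg, inv_inv, hi']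
  have a1 : g⁻¹ * w * g ∈ 𝐜[b'] := hC ⟨D.mul_mem (D.mul_mem (D.inv_mem gD) wD) gD, mem_c.2 (by
    calc _ = g⁻¹ * (w * (g * c * g⁻¹)) * g := by group
      _ = _ := by rw [gc, ← sw.eq, ← gc]; group)⟩
  have a2 := mem_c.1 a1
  have w1 : w = 1 := not_real (g := b' * g * b'⁻¹ * g⁻¹)
    (odd_ord hD (mul_mem (conj_mem_of_mem_normalizer nc gD) (inv_mem gD))) (odd_ord hD wD) (by
      calc _ = b' * g * b'⁻¹ * (g⁻¹ * w * g * b') * g⁻¹ * b'⁻¹ := by group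
        _ = b' * w * b'⁻¹ := by rw [a2]; group
        _ = _ := wi)
  have : x = y := mul_inv_eq_one.1 w1
  exact mem_c.2 (mul_inv_eq_iff_eq_mul.1 (hy.symm.trans this.symm)).symm

theorem ex_four {y : G} (k : ℕ) (h : y ^ 2 ^ k = 1) (h2 : y * y ≠ 1) :
    ∃ f ∈ zpowers y, f * f ≠ 1 ∧ f * f * (f * f) = 1 := by
  induction k generalizing y with
  | zero => exact absurd (by rw [show y = 1 by simpa using h, one_mul]) h2
  | succ k ih =>
    by_cases e : y * y * (y * y) = 1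
    · exact ⟨y, mem_zpowers y, h2, e⟩
    · obtain ⟨f, hf, a⟩ := ih (y := y * y) (by rw [← pow_two, ← pow_mul, ← pow_succ', h]) e
      exact ⟨f, zpowers_le.2 (mul_mem (mem_zpowers y) (mem_zpowers y)) hf, a⟩

end MdC

open MdC

theorem Md.splitz (h : Md V S D F) {x : G} (hx : x ∈ D) :
    ⁅V, zpowers x⁆ ⊔ (V ⊓ 𝐜[x]) = V ∧ ⁅V, zpowers x⁆ ⊓ 𝐜[x] = ⊥ := by
  have := odd_split h.ea (odd_le h.odd (zpowers_le.2 hx)) ((zpowers_le.2 hx).trans h.DV)
  rw [Amb.centralizer_zpowers] at this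
  exact ⟨this.1, this.2.1⟩

theorem Md.ex_inv (h : Md V S D F) (hb : Sm V S b) :
    ∃ x ∈ D, x ≠ 1 ∧ b * x * b⁻¹ = x⁻¹ := by
  obtain ⟨x, hx, hp, hi⟩ := exists_inv_prime hb.sq (h.SD hb.mem) fun e => hb.ne (by
    have : b ∈ S ⊓ 𝐂[D] := ⟨hb.mem, fun d hd => mem_c.1 (e hd)⟩
    rwa [h.cD, mem_bot] at this)
  exact ⟨x, hx, fun e => by rw [e, orderOf_one] at hp; exact Nat.not_prime_one hp, hi⟩

theorem Md.card_I (h : Md V S D F) (hb : Sm V S b) : Nat.card ↥⁅V, zpowers b⁆ = 4 := by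
  obtain ⟨x, hx, x1, hi⟩ := h.ex_inv hb
  exact (h.sixteen hb hx x1 hi).2.1

theorem Md.mem_E (h : Md V S D F) (hb : Sm V S b) {x : G} (hx : x ∈ D) (hi : b * x * b⁻¹ = x⁻¹) :
    x ∈ ⁅D, zpowers b⁆ := by
  rw [comm_eq_closure_inv h.odd hb.sq (h.SD hb.mem)]
  exact subset_closure ⟨hx, hi⟩

theorem Md.E_le (h : Md V S D F) (hb : b ∈ S) : ⁅D, zpowers b⁆ ≤ D :=
  le_normalizer_iff_commutator_le_left.1 (zpowers_le.2 (h.SD hb))

/-- The structure of `U_b` (see the outline: `N = ncl I_b E_b`, `z ∈ E_b ⊓ Z(D)`). -/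
theorem Md.zb (h : Md V S D F) (hb : Sm V S b) (hc : D ⊓ 𝐂[D] ≤ 𝐜[b]) :
    ⁅V, ⁅D, zpowers b⁆⁆ = ncl ⁅V, zpowers b⁆ ⁅D, zpowers b⁆ ∧ ¬ ⁅V, ⁅D, zpowers b⁆⁆ ≤ 𝐜[b] ∧
    (∃ z ∈ D ⊓ 𝐂[D], ⁅V, ⁅D, zpowers b⁆⁆ = ⁅V, zpowers z⁆) ∧
    ∀ y ∈ D ⊓ 𝐂[D], ⁅V, ⁅D, zpowers b⁆⁆ ≤ 𝐜[y] ∨ ⁅V, ⁅D, zpowers b⁆⁆ ≤ ⁅V, zpowers y⁆ := by
  obtain ⟨x, hx, x1, hi⟩ := h.ex_inv hb
  obtain ⟨c16, c4, hU⟩ := h.sixteen hb hx x1 hi
  have xE := h.mem_E hb hx hi
  have ED := h.E_le hb.mem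
  have hE := comm_eq_closure_inv h.odd hb.sq (h.SD hb.mem)
  set E := ⁅D, zpowers b⁆
  set I := ⁅V, zpowers b⁆
  have IV : I ≤ V := le_normalizer_iff_commutator_le_left.1 (zpowers_le.2 (h.SV hb.mem))
  have xU : ⁅V, zpowers x⁆ ≤ ⁅V, E⁆ := commutator_mono le_rfl (zpowers_le.2 xE)
  have e1 : ⁅V, E⁆ = ncl I E := by
    refine le_antisymm (commutator_le.2 fun v hv g hg => ?_)
      (CP.ncl_le (le_sup_left.trans (hU.ge.trans xU)) (normalizer_commutator_ge_right _ _))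
    have hN := CP.le_normalizer_ncl I E
    have hg' := hg
    rw [hE] at hg
    suffices g ∈ E ∧ ∀ v ∈ V, ⁅v, g⁆ ∈ ncl I E from this.2 v hv
    clear hg' hv v
    induction hg using closure_induction with
    | mem y hy =>
      have yE := h.mem_E hb hy.1 hy.2
      refine ⟨yE, fun v hv => ?_⟩
      by_cases y1 : y = 1
      · rw [y1, commutatorElement_one_right]; exact one_mem _
      · refine (sup_le (CP.le_ncl _ _) (CP.cj_le_ncl _ yE) : I ⊔ cj(y, I) ≤ _) ?_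
        rw [← (h.sixteen hb hy.1 y1 hy.2).2.2]
        exact commutator_mem_commutator hv (mem_zpowers y)
    | one => exact ⟨one_mem _, fun v _ => by rw [commutatorElement_one_right]; exact one_mem _⟩
    | mul p q _ _ hp hq =>
      refine ⟨mul_mem hp.1 hq.1, fun v hv => ?_⟩
      rw [show ⁅v, p * q⁆ = ⁅v, p⁆ * (p * ⁅v, q⁆ * p⁻¹) by simp only [commutatorElement_def]; group]
      exact mul_mem (hp.2 v hv) (conj_mem_of_mem_normalizer (hN hp.1) (hq.2 v hv))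
    | inv p _ hp =>
      refine ⟨inv_mem hp.1, fun v hv => ?_⟩
      rw [show ⁅v, p⁻¹⁆ = p⁻¹ * ⁅v, p⁆⁻¹ * p⁻¹⁻¹ by simp only [commutatorElement_def]; group]
      exact conj_mem_of_mem_normalizer (hN (inv_mem hp.1)) (inv_mem (hp.2 v hv))
  have e4 : ∀ y ∈ D ⊓ 𝐂[D], ⁅V, E⁆ ≤ 𝐜[y] ∨ ⁅V, E⁆ ≤ ⁅V, zpowers y⁆ := by
    intro y hy
    have Ey : E ≤ 𝐜[y] := fun e he => mem_c.2 (hy.2 e (ED he))
    have yI : y ∈ 𝐍[I] := n_comm (h.DV hy.1) (nz_c (hc hy))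
    have JU : ⁅I, zpowers y⁆ ≤ ⁅V, zpowers y⁆ := commutator_mono IV le_rfl
    rw [e1]
    rcases four c4 (le_normalizer_iff_commutator_le_left.1 (zpowers_le.2 yI))
      (normalizer_commutator_ge_right I _ (mem_zpowers y))
      (eq_bot_iff.2 ((inf_le_inf_right _ JU).trans (h.splitz hy.1).2.le)) with e | e
    · rw [commutator_eq_bot_iff_le_centralizer, Amb.centralizer_zpowers] at e
      exact .inl (CP.ncl_le e (Ey.trans le_normalizer))
    · exact .inr (CP.ncl_le (e.ge.trans JU) fun g hg => n_comm (h.DV (ED hg)) (nz_c (Ey hg)))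
  refine ⟨e1, fun e => ?_, ?_, e4⟩
  · have a := (free_inv (isEA_mono h.ea (le_normalizer_iff_commutator_le_left.1
      (zpowers_le.2 (h.DV hx)))) hb.sq (odd_ord h.odd hx) hi (n_comm (h.SV hb.mem) (nz_i hi))
      (normalizer_commutator_ge_right _ _ (mem_zpowers x)) (h.splitz hx).2).1
    rw [inf_eq_left.2 (xU.trans e), c16] at a
    omega
  · obtain ⟨z, zE, z1, zC⟩ := ex_center h.nil ED (normalizer_commutator_ge_left _ _)
      fun e => x1 (by rwa [e, mem_bot] at xE)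
    refine ⟨z, ⟨ED zE, zC⟩, le_antisymm ((e4 z ⟨ED zE, zC⟩).resolve_left fun e => z1 ?_)
      (commutator_mono le_rfl (zpowers_le.2 zE))⟩
    have a : V ≤ 𝐜[z] := by
      rw [← (odd_split h.ea (odd_le h.odd ED) (ED.trans h.DV)).1]
      exact sup_le e fun v hv => mem_c.2 (hv.2 z zE).symm
    have : z ∈ D ⊓ 𝐂[V] := ⟨ED zE, fun v hv => mem_c.1 (a hv)⟩
    rwa [h.fD, mem_bot] at this

theorem Md.I_le (h : Md V S D F) (hb : Sm V S b) (hc : D ⊓ 𝐂[D] ≤ 𝐜[b]) :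
    ⁅V, zpowers b⁆ ≤ ⁅V, ⁅D, zpowers b⁆⁆ := by
  rw [(h.zb hb hc).1]; exact CP.le_ncl _ _

/-- `b` centralises `C_V(w)` -/
theorem Md.fix_le (h : Md V S D F) (hb : Sm V S b) {w : G} (hw : w ∈ D) (w1 : w ≠ 1)
    (hi : b * w * b⁻¹ = w⁻¹) : V ⊓ 𝐜[w] ≤ 𝐜[b] := fun v hv => by
  have : ⁅v, b⁆ ∈ ⁅V, zpowers w⁆ ⊓ 𝐜[w] := by
    refine ⟨?_, ?_⟩
    · rw [(h.sixteen hb hw w1 hi).2.2]
      exact mem_sup_left (commutator_mem_commutator hv.1 (mem_zpowers b))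
    · exact le_normalizer_iff_commutator_le_left.1 (zpowers_le.2 (n_c (nz_i hi)))
        (commutator_mem_commutator hv.2 (mem_zpowers b))
  rw [(h.splitz hw).2, mem_bot, commutatorElement_eq_one_iff_mul_comm] at this
  exact mem_c.2 this

/-- Two commuting type B involutions with the same `U = U_z` are equal. -/
theorem Md.same (h : Md V S D F) (hb : Sm V S b) (hc : D ⊓ 𝐂[D] ≤ 𝐜[b]) (hb' : Sm V S b')
    (hc' : D ⊓ 𝐂[D] ≤ 𝐜[b']) (hU : ⁅V, ⁅D, zpowers b⁆⁆ = ⁅V, ⁅D, zpowers b'⁆⁆)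
    (hbb : b * b' = b' * b) : b = b' := by
  by_contra hne
  haveI : Fact (Nat.Prime 2) := ⟨Nat.prime_two⟩
  obtain ⟨e1, -, ⟨z, hz, hUz⟩, -⟩ := h.zb hb hc
  have IV : ⁅V, zpowers b⁆ ≤ V :=
    le_normalizer_iff_commutator_le_left.1 (zpowers_le.2 (h.SV hb.mem))
  have c4 := h.card_I hb
  have bb : b' ∈ 𝐜[b] := mem_c.2 hbb.symm
  -- (4') `b'` centralises `I_b`
  have Ic : ⁅V, zpowers b⁆ ≤ 𝐜[b'] := by
    have hne := inf_centralizer_ne_bot (T := zpowers b') (h.pg.to_le (zpowers_le.2 hb'.mem))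
      (isEA_isPGroup (isEA_mono h.ea IV)) (zpowers_le.2 (n_comm (h.SV hb'.mem) (nz_c bb)))
      fun e => by rw [e, card_bot] at c4; omega
    rw [Amb.centralizer_zpowers] at hne
    refine inf_eq_left.1 ((four c4 inf_le_left (z := z)
      (n_inf (n_comm (h.DV hz.1) (nz_c (hc hz))) (n_c (nz_c (hc' hz)))) ?_).resolve_left hne)
    exact eq_bot_iff.2 ((inf_le_inf_right _ (inf_le_left.trans ((h.I_le hb hc).trans hUz.le))).trans
      (h.splitz hz.1).2.le)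
  have Ib : ⁅V, zpowers b⁆ ≤ 𝐜[b] := (card_comm_inv h.ea hb.sq (h.SV hb.mem)).2.trans inf_le_right
  have cm : ∀ {v : G}, v ∈ 𝐜[b] → v ∈ 𝐜[b'] → v ∈ 𝐜[b * b'] := fun p q =>
    c_symm (mul_mem (c_symm p) (c_symm q))
  -- (1), (2)
  have hC : D ⊓ 𝐜[b * b'] ≤ 𝐜[b'] := by
    by_contra hn
    obtain ⟨w, hw, hp, i'⟩ := exists_inv_prime hb'.sq (n_inf (h.SD hb'.mem)
      (n_c (nz_c (cm bb (mem_c.2 rfl))))) hn
    have w1 : w ≠ 1 := fun e => by rw [e, orderOf_one] at hp; exact Nat.not_prime_one hp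
    have i : b * w * b⁻¹ = w⁻¹ := by
      have a : b * b' * w * (b * b')⁻¹ = w := mul_inv_eq_iff_eq_mul.2 (mem_c.1 hw.2).symm
      calc _ = (b * (b' * w * b'⁻¹) * b⁻¹)⁻¹ := by rw [i']; group
        _ = (b * b' * w * (b * b')⁻¹)⁻¹ := by group
        _ = _ := by rw [a]
    have a : V ≤ 𝐜[b * b'] := by
      rw [← (h.splitz hw.1).1]
      refine sup_le ?_ fun v hv => cm (h.fix_le hb hw.1 w1 i hv) (h.fix_le hb' hw.1 w1 i' hv)
      rw [(h.sixteen hb hw.1 w1 i).2.2]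
      have : ⁅V, zpowers b⁆ ≤ 𝐜[b * b'] := fun v hv => cm (Ib hv) (Ic hv)
      exact sup_le this (cj_le_of_mem this hw.2)
    have : b * b' ∈ S ⊓ 𝐂[V] := ⟨mul_mem hb.mem hb'.mem, fun v hv => mem_c.1 (a hv)⟩
    rw [h.fS, mem_bot] at this
    exact hne (mul_left_cancel (hb.sq.trans this.symm))
  -- (3)
  have Ec : ⁅D, zpowers b⁆ ≤ 𝐜[b'] := by
    rw [comm_eq_closure_inv h.odd hb.sq (h.SD hb.mem), closure_le]
    exact fun x hx => inv_cent h.odd hb.sq hb'.sq hbb (h.SD hb.mem) (h.SD hb'.mem) hC hx.1 hx.2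
  exact (h.zb hb' hc').2.1 (by rw [← hU, e1]; exact CP.ncl_le Ic (Ec.trans le_normalizer))

theorem typeB_cj (hb : Sm V S b) (hc : D ⊓ 𝐂[D] ≤ 𝐜[b]) {g : G} (hV : g ∈ 𝐍[V]) (hS : g ∈ 𝐍[S])
    (hD : g ∈ 𝐍[D]) : Sm V S (g * b * g⁻¹) ∧ D ⊓ 𝐂[D] ≤ 𝐜[g * b * g⁻¹] := by
  refine ⟨⟨conj_mem_of_mem_normalizer hS hb.mem, ?_, by simpa using hb.ne, ?_⟩, ?_⟩
  · calc _ = g * (b * b) * g⁻¹ := by group
      _ = 1 := by rw [hb.sq]; group
  · rw [centralizer_singleton_conj, ← cj_of_mem_normalizer hV,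
      relIndex_map_map_of_injective _ _ (MulAut.conj g).injective]
    exact hb.le
  · rw [centralizer_singleton_conj,
      ← cj_of_mem_normalizer (n_inf hD (normalizer_le_normalizer_centralizer _ hD))]
    exact cj_mono g hc

/-- Type B involutions do not exist (`Md.ind`). -/
theorem Md.typeB (h : Md V S D F) (hb : Sm V S b) (hc : D ⊓ 𝐂[D] ≤ 𝐜[b]) : False := by
  refine h.ind (𝔅 := {b | Sm V S b ∧ D ⊓ 𝐂[D] ≤ 𝐜[b]}) ⟨b, hb, hc⟩ (fun _ a => a.1.mem)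
    (fun f hf c a => typeB_cj a.1 a.2 (h.FV hf) (h.FS hf) (h.FD hf)) ?_
  clear hb hc
  rintro b ⟨hb, hc⟩
  obtain ⟨-, e2, ⟨z, hz, hUz⟩, e4⟩ := h.zb hb hc
  refine ⟨_, h.I_le hb hc, e2, ?_⟩
  rintro b' ⟨hb', hc'⟩ hne
  obtain ⟨-, -, ⟨z', hz', hUz'⟩, e4'⟩ := h.zb hb' hc'
  have nU : ∀ {g : G}, g ∈ S → g ∈ 𝐜[z] → g ∈ 𝐍[⁅V, ⁅D, zpowers b⁆⁆] := fun p q => by
    rw [hUz]; exact n_comm (h.SV p) (nz_c q)
  have hbb : b * b' = b' * b := by
    by_contra hn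
    obtain ⟨k, hk⟩ := isPGroup_iff.1 h.pg _ (mul_mem hb.mem hb'.mem)
    have ib : b⁻¹ = b := inv_eq_of_mul_eq_one_right hb.sq
    have ic : b'⁻¹ = b' := inv_eq_of_mul_eq_one_right hb'.sq
    obtain ⟨f, hf, f2, f4⟩ := ex_four k hk fun e => hn (by
      rw [eq_inv_of_mul_eq_one_left e, mul_inv_rev, ib, ic])
    have fS : f ∈ S := zpowers_le.2 (mul_mem hb.mem hb'.mem) hf
    have fz : f ∈ 𝐜[z] := zpowers_le.2 (mul_mem (c_symm (hc hz)) (c_symm (hc' hz))) hf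
    have bf : b * f * b⁻¹ = f⁻¹ := by
      obtain ⟨i, rfl⟩ := hf
      have : b * (b * b') * b⁻¹ = (b * b')⁻¹ := by
        rw [← mul_assoc, hb.sq, one_mul, mul_inv_rev, ic]
      show b * (b * b') ^ i * b⁻¹ = ((b * b') ^ i)⁻¹
      rw [← conj_zpow, this, inv_zpow]
    have e : f * b * f⁻¹ = f * f * b := by
      calc _ = f * (b * f * b⁻¹)⁻¹ * b := by group
        _ = _ := by rw [bf, inv_inv]
    obtain ⟨p, q⟩ := typeB_cj hb hc (h.SV fS) (le_normalizer fS) (h.SD fS)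
    have := h.same hb hc p q (by
      have a : zpowers (f * b * f⁻¹) = cj(f, zpowers b) := by
        rw [MonoidHom.map_zpowers]; rfl
      rw [a]
      conv_rhs => rw [← cj_of_mem_normalizer (h.SD fS), commutator_cj,
        ← cj_of_mem_normalizer (h.SV fS), commutator_cj]
      exact (cj_of_mem_normalizer (nU fS fz)).symm) (by
      rw [e]
      calc _ = (b * f * b⁻¹) * (b * f * b⁻¹) * (b * b) := by group
        _ = (f * f)⁻¹ * (b * b) := by rw [bf]; group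
        _ = _ := by rw [inv_eq_of_mul_eq_one_right f4]; group)
    rw [e] at this
    exact f2 (by simpa using this)
  have dis : ⁅V, ⁅D, zpowers b⁆⁆ ⊓ ⁅V, ⁅D, zpowers b'⁆⁆ = ⊥ := by
    rcases e4 z' hz' with a | a
    · rw [hUz', eq_bot_iff, ← (h.splitz hz'.1).2, inf_comm]; exact inf_le_inf_left _ a
    rcases e4' z hz with a' | a'
    · rw [hUz, eq_bot_iff, ← (h.splitz hz.1).2]; exact inf_le_inf_left _ a'
    exact absurd (h.same hb hc hb' hc' (le_antisymm (a.trans hUz'.ge) (a'.trans hUz.ge)) hbb).symm hne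
  intro u hu
  have uV : u ∈ V := le_normalizer_iff_commutator_le_left.1 ((h.E_le hb.mem).trans h.DV) hu
  have : ⁅u, b'⁆ ∈ ⁅V, ⁅D, zpowers b⁆⁆ ⊓ ⁅V, ⁅D, zpowers b'⁆⁆ :=
    ⟨le_normalizer_iff_commutator_le_left.1 (zpowers_le.2 (nU hb'.mem (c_symm (hc' hz))))
      (commutator_mem_commutator hu (mem_zpowers b')),
      h.I_le hb' hc' (commutator_mem_commutator uV (mem_zpowers b'))⟩
  rw [dis, mem_bot, commutatorElement_eq_one_iff_mul_comm] at this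
  exact mem_c.2 this

end Cfsg.Agent.NFS
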