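import Cfsg.Agent.NFS.Api
import Cfsg.Agent.NFS.Env

/-!
# Relative Alperin lemma, maximal bad locals

`Z = 𝐙[S]`, `V = VV S`, `M = 𝐍[V]`; basic facts `vv_basic` (NFS/Env).  Elements of `M` are good.
-/

set_option autoImplicit false
set_option linter.unusedSectionVars false

namespace Cfsg.Agent.NFS

open Cfsg.Agent.PLocal hiding centralizer_anti
open Subgroup Cfsg Cfsg.Agent.PLocal.Amb Cfsg.Agent.PLocal.TV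
open Cfsg.Agent.PLocal.SL2Nat Cfsg.Agent.PLocal.Bk
open Cfsg.Agent.PLocal.CP (IsCharP MinOver ncl secCent)
open Cfsg.Agent.Solv.Ext (Inv)
open Cfsg.Agent.QT.Qrc (P2)
open scoped commutatorElement MatrixGroups Cfsg.Agent.PLocal.CP

variable {G : Type*} [Group G] [Finite G] {S Q : Subgroup G}

namespace MxA

theorem gd_M {g : G} (hg : g ∈ 𝐍[VV S]) : Gd S g := cj_le_of_mem_normalizer (vv_basic S).1 hg

theorem ag_gd {X : Subgroup G} {g : G} (h : Ag S X g) (hZ : 𝐙[S] ≤ X) : Gd S g := by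
  obtain ⟨m, hm, e⟩ := h
  exact cj_le_iff_forall.2 fun z hz => e z (hZ hz) ▸
    Amb.conj_mem_of_mem_normalizer hm ((vv_basic S).1 hz)

theorem ag_mono {X Y : Subgroup G} {g : G} (h : Ag S Y g) (hX : X ≤ Y) : Ag S X g :=
  h.imp fun _ h => ⟨h.1, fun x hx => h.2 x (hX hx)⟩

theorem ag_mul {X : Subgroup G} {g g' : G} (h : Ag S X g) (h' : Ag S cj(g, X) g') :
    Ag S X (g' * g) := by
  obtain ⟨m, hm, e⟩ := h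
  obtain ⟨m', hm', e'⟩ := h'
  refine ⟨m' * m, mul_mem hm' hm, fun x hx => ?_⟩
  calc _ = g' * (g * x * g⁻¹) * g'⁻¹ := by group
    _ = _ := by rw [e' _ (conj_mem_cj g hx), e x hx]; group

theorem ag_inv {X : Subgroup G} {g : G} (h : Ag S X g) : Ag S cj(g, X) g⁻¹ := by
  obtain ⟨m, hm, e⟩ := h
  refine ⟨m⁻¹, inv_mem hm, fun y hy => ?_⟩
  obtain ⟨x, hx, rfl⟩ := mem_cj_iff_exists.1 hy
  conv_rhs => rw [e x hx]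
  group

theorem ag_cent {X : Subgroup G} {c : G} (h : c ∈ 𝐂[X]) : Ag S X c :=
  ⟨1, one_mem _, fun x hx => by rw [← h x hx]; group⟩

theorem ag_S {g : G} (h : cj(g, S) ≤ S) : Ag S S g :=
  ⟨g, (vv_basic S).2.2.2.1 (normalizer_le_normalizer_thompsonSubgroupOf S
    (mem_normalizer_of_cj_le h)), fun _ _ => rfl⟩

theorem gd_mul {X : Subgroup G} {g c : G} (h : Gd S g) (hZ : 𝐙[S] ≤ X) (hc : c ∈ 𝐂[X]) :
    Gd S (g * c) := by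
  unfold Gd
  rwa [cj_mul, cj_of_mem_normalizer (centralizer_le_normalizer' _ (centralizer_anti hZ hc))]

/-- Frattini argument for `C(Y)` -/
theorem fr {Y T : Subgroup G} (hT : IsSyl 2 T 𝐍[Y]) {k : G} (hk : k ∈ 𝐍[Y]) :
    ∃ n ∈ 𝐍[Y], n ∈ 𝐍[Y ⊔ (T ⊓ 𝐂[Y])] ∧ ∃ c ∈ 𝐂[Y], k = n * c := by
  obtain ⟨n, hn, c, hc, rfl⟩ := (hT.inf_of_le (centralizer_le_normalizer' Y)
    (normalizer_le_normalizer_centralizer Y)).frattini' (normalizer_le_normalizer_centralizer Y hk)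
  have h1 := (mul_mem_cancel_right (centralizer_le_normalizer' Y hc)).1 hk
  exact ⟨n, h1, zpowers_le.1 (le_normalizer_sup (zpowers_le.2 h1) (zpowers_le.2 hn)), c, hc, rfl⟩

theorem nfr {Y T : Subgroup G} (hT : T ≤ 𝐍[Y]) : T ≤ 𝐍[Y ⊔ (T ⊓ 𝐂[Y])] :=
  le_normalizer_sup hT (le_normalizer_inf le_normalizer (le_normalizer_centralizer hT))

theorem Z_le_J {Y : Subgroup G} (h1 : 𝐙[S] ≤ Y) (h2 : Y ≤ S) : 𝐙[S] ≤ 𝐉[2, Y] :=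
  (CP.omegaZ_le_omegaZ h2 h1).trans (omegaOne_center_le_thompsonSubgroupOf Y)

theorem bau_le {X Y : Subgroup G} (h : X ≤ Y) (hn : nu Y ≤ nu X) : 𝐁[2, X] ≤ 𝐁[2, Y] := by
  rw [baumann_eq, baumann_eq, J_eq_of_nu h hn]
  exact inf_le_inf_right _ h

end MxA

open MxA

/-- The good elements of `N(Q)` form the subgroup `𝐍[Q] ⊓ (𝐂[Q] ⊔ (M ⊓ 𝐍[Q]))`: by `g1` a good
`g ∈ N(Q)` agrees on `Q` with `m ∈ M`, so `m ∈ N(Q)`, `m⁻¹ g ∈ C(Q)`; conversely `M ⊓ 𝐍[Q]` normalises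
`𝐂[Q] ≤ 𝐂[Z]`, so an element is `m c` and `cj(m c, Z) = cj(m, Z) ≤ V`. -/
theorem En.good (h : En S) (h1 : 𝐙[S] ≤ Q) (h2 : Q ≤ S) :
    ∃ K : Subgroup G, ∀ g, g ∈ K ↔ g ∈ 𝐍[Q] ∧ Gd S g := by
  have e : ∀ g ∈ 𝐍[Q], Gd S g → Ag S Q g := fun g hg =>
    h.g1 Q g h1 h2 ((cj_of_mem_normalizer hg).le.trans h2)
  refine ⟨⟨⟨⟨{g | g ∈ 𝐍[Q] ∧ Gd S g}, fun {a b} ha hb => ⟨mul_mem ha.1 hb.1, ?_⟩⟩,
    one_mem _, gd_M (one_mem _)⟩, fun {a} ha => ⟨inv_mem ha.1, ?_⟩⟩, fun _ => Iff.rfl⟩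
  · exact ag_gd (ag_mul (e b hb.1 hb.2) (ag_mono (e a ha.1 ha.2) (cj_of_mem_normalizer hb.1).le)) h1
  · exact ag_gd (ag_inv (e a ha.1 ha.2)) (h1.trans (cj_of_mem_normalizer ha.1).ge)

/-- Downward induction on `|X|` (for all `g`).  `Ag` is closed under composition and inverses in the
obvious way.  `X = S`: `g ∈ 𝐍[S] ≤ 𝐍[J] ≤ M`.  `X < S`: put `X' = cj(g, X) < S`.  Choose a Sylow `T*` of
`𝐍[X]` containing `S ⊓ 𝐍[X]` and `a` with `cj(a, T*) ≤ S`; `Y = cj(a, X)`, `S ⊓ 𝐍[Y] = cj(a, T*)` is Sylow in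
`𝐍[Y]`.  `cj(a g⁻¹, S ⊓ 𝐍[X'])` is a 2-subgroup of `𝐍[Y]`, so there is `k' ∈ 𝐍[Y]` with
`a' = k' a g⁻¹` mapping `S ⊓ 𝐍[X']` into `S`.  By induction (`X < S ⊓ 𝐍[X]`, `Pp` is closed upwards
and under conjugation) `a` and `a'` are `Ag` on `S ⊓ 𝐍[X]`, `S ⊓ 𝐍[X']`.  `g = a'⁻¹ k' a`, so it remains
to treat `k' ∈ 𝐍[Y]`: `Y⁺ = Y ⊔ (S ⊓ 𝐂[Y])` is Sylow in `Y 𝐂[Y] ⊴ 𝐍[Y]`; Frattini: `k' = n c` with
`c ∈ 𝐂[Y]`, `n ∈ 𝐍[Y⁺]` (absorb the `Y`-part into `n`); `Z ≤ Y⁺ ≤ S`, `Pp Y⁺`, so `n` is good and `g1`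
applies to `Y⁺`. -/
theorem En.alp (h : En S) (Pp : Subgroup G → Prop) (up : ∀ X Y, Pp X → X ≤ Y → Pp Y)
    (hcj : ∀ X (g : G), Pp X → Pp cj(g, X))
    (hg : ∀ Y, Pp Y → 𝐙[S] ≤ Y → Y ≤ S → ∀ k ∈ 𝐍[Y], Gd S k) (X : Subgroup G) (g : G) (hX : Pp X)
    (h1 : X ≤ S) (h2 : cj(g, X) ≤ S) : Ag S X g := by
  induction hn : Nat.card G - Nat.card X using Nat.strong_induction_on generalizing X g with
  | _ n ih =>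
  obtain ⟨T, hT, XT⟩ := exists_isSyl_ge (h.syl.pgrp.to_le h1) (le_normalizer (H := X))
  obtain ⟨a, -, ha⟩ := h.syl.exists_cj_le hT.pgrp le_top
  have YS := (cj_mono a XT).trans ha
  have s1 := hT.cj a
  rw [← normalizer_cj, ← s1.eq (h.syl.pgrp.to_le (inf_le_left : S ⊓ 𝐍[cj(a, X)] ≤ S))
    (le_inf ha (normalizer_cj a X ▸ s1.le)) (normalizer_cj a X ▸ inf_le_right)] at s1
  have loc : ∀ k ∈ 𝐍[cj(a, X)], Ag S cj(a, X) k := fun k hk => by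
    obtain ⟨n, -, hn, c, hc, rfl⟩ := fr s1 hk
    have c1 := (CP.omegaZ_le_centralizer (p := 2) S).trans (centralizer_anti YS)
    have z1 : 𝐙[S] ≤ cj(a, X) ⊔ (S ⊓ 𝐍[cj(a, X)] ⊓ 𝐂[cj(a, X)]) := le_sup_of_le_right (le_inf
      (le_inf (CP.omegaZ_le S) (c1.trans (centralizer_le_normalizer' _))) c1)
    have z2 : cj(a, X) ⊔ (S ⊓ 𝐍[cj(a, X)] ⊓ 𝐂[cj(a, X)]) ≤ S :=
      sup_le YS (inf_le_left.trans inf_le_left)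
    exact ag_mul (ag_cent hc) (ag_mono (h.g1 _ n z1 z2 ((cj_of_mem_normalizer hn).le.trans z2)
      (hg _ (up _ _ (hcj X a hX) le_sup_left) z1 z2 n hn))
      ((cj_of_mem_normalizer (centralizer_le_normalizer' _ hc)).le.trans le_sup_left))
  have step : ∀ (X' : Subgroup G) (b : G), X' ≤ S → Pp X' → cj(b, X') = cj(a, X) → Ag S X' b := by
    intro X' b k1 k2 e
    rcases k1.eq_or_lt with rfl | lt
    · exact ag_S (e.le.trans YS)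
    obtain ⟨k, hk, k3⟩ := s1.exists_cj_le (isPGroup_cj b (h.syl.pgrp.to_le
      (inf_le_left : S ⊓ 𝐍[X'] ≤ S))) (by rw [← e, normalizer_cj]; exact cj_mono b inf_le_right)
    have l1 := lt_inf_normalizer h.syl.pgrp lt
    have l2 : Nat.card X < Nat.card ↥(S ⊓ 𝐍[X']) := by
      rw [← card_cj a, ← e, card_cj]
      exact not_le.1 fun c => l1.ne (PLocal.eq_of_le_of_card_le l1.le c)
    have l3 := Subgroup.card_le_card_group (S ⊓ 𝐍[X'])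
    have k4 := ag_mono (ih _ (by omega) _ (k * b) (up _ _ k2 l1.le) inf_le_left
      (by rw [cj_mul]; exact k3.trans inf_le_left) rfl) l1.le
    have k5 := ag_mul k4 (ag_mono (loc _ (inv_mem hk))
      (by rw [cj_mul, e, cj_of_mem_normalizer hk]))
    rwa [inv_mul_cancel_left] at k5
  have e : cj(a * g⁻¹, cj(g, X)) = cj(a, X) := by rw [cj_mul, cj_inv_cj]
  have k := ag_mul (step X a h1 hX rfl) (e ▸ ag_inv (step _ _ h2 (hcj X g hX) e))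
  rwa [mul_inv_rev, inv_inv, inv_mul_cancel_right] at k

/-- `alp` with `Pp = True`, `X = zpowers v`. -/
theorem En.closed (h : En S) (hn : ∀ Q, ¬ Bq S Q) : IsStronglyClosed (VV S) S := by
  have VS : VV S ≤ S := (vv_basic S).2.1.trans ((CP.omegaZ_le _).trans (thompsonSubgroupOf_le S))
  refine ⟨VS, fun x hx g hg => ?_⟩
  obtain ⟨m, hm, e⟩ := h.alp (fun _ => True) (fun _ _ _ _ => trivial) (fun _ _ _ => trivial)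
    (fun Y _ h1 h2 k hk => by_contra fun c => hn Y ⟨h1, h2, k, hk, c⟩) (zpowers x) g trivial
    (zpowers_le.2 (VS hx)) (cj_le_iff.2 (zpowers_le.2 (mem_cj.2 (by rwa [inv_inv]))))
  exact e x (mem_zpowers x) ▸ Amb.conj_mem_of_mem_normalizer hm hx

/-- (A1)  Suppose `nu T ≤ nu Q'`, `k ∈ 𝐍[Q']` bad.  `J' = 𝐉[2, Q']` contains `Z`, `k ∈ 𝐍[J']`, so `Bq S J'`.
`T' = S ⊓ 𝐍[J'] ≥ Q'`, `nu T' ≤ nu T ≤ nu Q'`, so `𝐉[2, T'] = J'` (`J_eq_of_nu`), `J' = 𝐉[2, S]`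
(`eq_J_of_J_norm`), and `k ∈ 𝐍[J(S)] ≤ M` is good. -/
theorem Mx.a1 (h : En S) (m : Mx S Q) {Q' : Subgroup G} (h' : Bq S Q') :
    nu Q' < nu (S ⊓ 𝐍[Q]) := by
  obtain ⟨h1, h2, k, hk, c⟩ := h'
  have hk' := normalizer_le_normalizer_thompsonSubgroupOf (p := 2) Q' hk
  refine not_le.1 fun hn => c (gd_M ((vv_basic S).2.2.2.1 ?_))
  rwa [eq_J_of_J_norm h.syl.pgrp (J_eq_of_nu (le_inf h2 (le_normalizer_thompsonSubgroupOf Q'))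
    ((m.m1 _ ⟨Z_le_J h1 h2, (thompsonSubgroupOf_le Q').trans h2, k, hk', c⟩).trans hn))]

/-- all elements of `N(Y)` are good if `J(T) ≤ Y ≤ S` (`a1`, `nu_J`, `nu_mono`; `Z ≤ J(T)`) -/
theorem Mx.gd (h : En S) (m : Mx S Q) {Y : Subgroup G} (h1 : 𝐉[2, S ⊓ 𝐍[Q]] ≤ Y) (h2 : Y ≤ S) :
    ∀ k ∈ 𝐍[Y], Gd S k := by
  refine fun k hk => by_contra fun c => (m.a1 h ⟨(Z_le_J (le_inf (CP.omegaZ_le S)
    (m.bq.1.trans le_normalizer)) inf_le_left).trans h1, h2, k, hk, c⟩).not_ge ?_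
  rw [← nu_J]
  exact nu_mono h1

/-- `alp` with `Pp X := nu T ≤ nu X` -/
theorem Mx.fu (h : En S) (m : Mx S Q) {X : Subgroup G} {g : G} (hX : nu (S ⊓ 𝐍[Q]) ≤ nu X)
    (h1 : X ≤ S) (h2 : cj(g, X) ≤ S) : Ag S X g := by
  exact h.alp (fun X => nu (S ⊓ 𝐍[Q]) ≤ nu X) (fun _ _ a b => a.trans (nu_mono b))
    (fun X g a => a.trans (nu_cj g X).ge)
    (fun Y a h1 h2 k hk => by_contra fun c => (m.a1 h ⟨h1, h2, k, hk, c⟩).not_ge a) X g hX h1 h2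

/-- `B = 𝐁[2, T] ≤ T' = S ⊓ 𝐍[Q']`, `nu T = nu B ≤ nu T' ≤ nu T`, so `J(T') = J(B) = J(T)`, and
`𝐁[2, T'] = T' ⊓ 𝐂[𝐙[J(T)]] ≥ B`; `m2` gives equality. -/
theorem Mx.eqB (m : Mx S Q) {Q' : Subgroup G} (h' : Bq S Q') (hB : 𝐁[2, S ⊓ 𝐍[Q]] ≤ 𝐍[Q']) :
    𝐉[2, S ⊓ 𝐍[Q']] = 𝐉[2, S ⊓ 𝐍[Q]] ∧ 𝐁[2, S ⊓ 𝐍[Q']] = 𝐁[2, S ⊓ 𝐍[Q]] := by
  have h1 : 𝐁[2, S ⊓ 𝐍[Q]] ≤ S ⊓ 𝐍[Q'] := le_inf ((baumann_le _).trans inf_le_left) hB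
  have h2 : nu (S ⊓ 𝐍[Q]) ≤ nu 𝐁[2, S ⊓ 𝐍[Q]] := (nu_J _).ge.trans (nu_mono (thompson_le_baumann _))
  have h3 := (m.m1 _ h').trans h2
  have h4 := bau_le h1 h3
  rw [baumann_eq_of_le le_rfl (baumann_le _)] at h4
  exact ⟨(J_eq_of_nu h1 h3).trans
      (thompsonSubgroupOf_eq_of_le (thompson_le_baumann _) (baumann_le _)),
    (PLocal.eq_of_le_of_card_le h4 (m.m2 _ h' (h2.trans (nu_mono h1)))).symm⟩

/-- `eqB`, then `m3` gives `Q' = Q ⊓ B`, which is normalised by `T`; `m4` gives `N_S(Q') = T`. -/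
theorem Mx.eqQ (m : Mx S Q) {Q' : Subgroup G} (h' : Bq S Q') (hB : 𝐁[2, S ⊓ 𝐍[Q]] ≤ 𝐍[Q'])
    (h1 : Q ⊓ 𝐁[2, S ⊓ 𝐍[Q]] ≤ Q') (h2 : Q' ≤ 𝐁[2, S ⊓ 𝐍[Q]]) :
    Q' = Q ⊓ 𝐁[2, S ⊓ 𝐍[Q]] ∧ S ⊓ 𝐍[Q'] = S ⊓ 𝐍[Q] := by
  obtain ⟨e1, e2⟩ := m.eqB h' hB
  have n1 : nu (S ⊓ 𝐍[Q]) ≤ nu (S ⊓ 𝐍[Q']) := by rw [← nu_J, ← e1, nu_J]
  have c1 := m.m3 _ h' n1 (by rw [e2])
  have c2 := m.m4 _ h' n1 (by rw [e2])
  rw [e2, inf_eq_left.2 h2] at c1 c2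
  have e := PLocal.eq_of_le_of_card_le h1 c1
  refine ⟨e.symm, (PLocal.eq_of_le_of_card_le (le_inf inf_le_left ?_) (c2 (by rw [e]))).symm⟩
  rw [← e]
  exact le_normalizer_inf inf_le_right (le_normalizer.trans (normalizer_le_normalizer_baumann _))

/-- `T ≤ T*` Sylow in `𝐍[Q]`, `cj(g, T*) ≤ S`.  `Q₁ = Q ⊔ (T* ⊓ 𝐂[Q])`; Frattini as in `alp`: the bad `k` is
`n c`, `c ∈ 𝐂[Q] ≤ 𝐂[Z]`, `n ∈ 𝐍[Q] ⊓ 𝐍[Q₁]` bad.  `Q' = cj(g, Q₁) ≤ S` contains `Z` (`Z` centralises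
`cj(g, T*)`, Sylow in `𝐍[cj(g, Q)]`).  `n' = g n g⁻¹ ∈ 𝐍[Q']` is bad: else `n'` agrees with `m' ∈ M` on
`Q'` (`g1`), `g` with `m ∈ M` on `T` (`fu`); for `z ∈ Z`, `n z n⁻¹ ∈ Q ≤ T` and
`m (n z n⁻¹) m⁻¹ = n' (g z g⁻¹) n'⁻¹ = m' m z m⁻¹ m'⁻¹ ∈ V`, so `n` is good.  So `Bq S Q'` with
`T' = S ⊓ 𝐍[Q'] ≥ cj(g, T*) ≥ cj(g, T)`; `J(T') = cj(g, J(T))`, `𝐁[T'] ≥ cj(g, 𝐁[T])`,
`Q' ⊓ 𝐁[T'] ≥ cj(g, Q ⊓ 𝐁[T])`; `m4`: `|T*| ≤ |T'| ≤ |T|`. -/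
theorem Mx.syl (h : En S) (m : Mx S Q) : IsSyl 2 (S ⊓ 𝐍[Q]) 𝐍[Q] := by
  obtain ⟨h1, h2, k, hk, c⟩ := m.bq
  obtain ⟨T, hT, t1⟩ := exists_isSyl_ge (h.syl.pgrp.to_le (inf_le_left : S ⊓ 𝐍[Q] ≤ S)) inf_le_right
  obtain ⟨g, -, hg⟩ := h.syl.exists_cj_le hT.pgrp le_top
  obtain ⟨n, n1, n2, d, hd, rfl⟩ := fr hT hk
  have q0 : Q ≤ S ⊓ 𝐍[Q] := le_inf h2 le_normalizer
  have q1 : cj(g, Q ⊔ (T ⊓ 𝐂[Q])) ≤ S := (cj_mono g (sup_le (q0.trans t1) inf_le_left)).trans hg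
  have q2 : 𝐙[S] ≤ cj(g, Q ⊔ (T ⊓ 𝐂[Q])) := by
    have z1 := (CP.omegaZ_le_centralizer (p := 2) S).trans (centralizer_anti hg)
    have z2 := z1.trans (centralizer_anti (cj_mono g (q0.trans t1)))
    refine le_trans ?_ (cj_mono g le_sup_right)
    rw [cj_inf, ← centralizer_cj]
    exact le_inf ((hT.cj g).le_of_normalizes (CP.isPGroup_omegaZ S) (by
      rw [← normalizer_cj]; exact z2.trans (centralizer_le_normalizer' _))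
      (z1.trans (centralizer_le_normalizer' _))) z2
  have n3 : g * n * g⁻¹ ∈ 𝐍[cj(g, Q ⊔ (T ⊓ 𝐂[Q]))] := by
    rw [normalizer_cj]; exact conj_mem_cj g n2
  have b : Bq S cj(g, Q ⊔ (T ⊓ 𝐂[Q])) := ⟨q2, q1, _, n3, fun c' => c (gd_mul (ag_gd ?_ h1) h1 hd)⟩
  · have t2 : cj(g, T) ≤ S ⊓ 𝐍[cj(g, Q ⊔ (T ⊓ 𝐂[Q]))] := le_inf hg (by
      rw [normalizer_cj]; exact cj_mono g (nfr hT.le))
    have t3 := (cj_mono g t1).trans t2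
    have t4 := bau_le t3 ((m.m1 _ b).trans (nu_cj g _).ge)
    rw [baumann_cj] at t4
    have t5 := m.m4 _ b ((nu_cj g _).ge.trans (nu_mono t3))
      ((card_cj g _).ge.trans (card_le_card_of_le t4))
      ((card_cj g _).ge.trans (card_le_card_of_le (by
        rw [cj_inf]; exact inf_le_inf (cj_mono g le_sup_left) t4)))
    rwa [PLocal.eq_of_le_of_card_le t1 ((card_cj g _).ge.trans ((card_le_card_of_le t2).trans t5))]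
  · have a1 := ag_mono (m.fu h le_rfl inf_le_left ((cj_mono g t1).trans hg)) q0
    have a2 := ag_mul (ag_mul a1 (ag_mono (h.g1 _ _ q2 q1 ((cj_of_mem_normalizer n3).le.trans q1) c')
      (cj_mono g le_sup_left))) (ag_mono (ag_inv a1)
        (by rw [inv_mul_cancel_right, cj_mul, cj_of_mem_normalizer n1]))
    rwa [inv_mul_cancel_right, inv_mul_cancel_left] at a2

/-- Successive maximisation gives `Mx S Q`.  Replace `Q` by `Q₁ = Q ⊔ (T ⊓ 𝐂[Q])`: `Bq S Q₁` by the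
Frattini argument (`T` is Sylow by `Mx.syl`), `S ⊓ 𝐍[Q₁] = T` by `eqB`, `m4`; then `Mx S Q₁`. -/
theorem En.exists_mx (h : En S) (hn : ∃ Q, Bq S Q) :
    ∃ Q, Mx S Q ∧ S ⊓ 𝐍[Q] ⊓ 𝐂[Q] ≤ Q := by
  obtain ⟨Q, hQ, hm⟩ := Set.exists_max_image {Q | Bq S Q} (fun Q => toLex (nu (S ⊓ 𝐍[Q]),
    toLex (Nat.card 𝐁[2, S ⊓ 𝐍[Q]], toLex (Nat.card ↥(Q ⊓ 𝐁[2, S ⊓ 𝐍[Q]]),
      Nat.card ↥(S ⊓ 𝐍[Q]))))) (Set.toFinite _) hn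
  simp only [Prod.Lex.toLex_le_toLex, Set.mem_ofPred_eq] at hm
  have m : Mx S Q := ⟨hQ, fun Q' h' => by have := hm Q' h'; omega,
    fun Q' h' => by have := hm Q' h'; omega, fun Q' h' => by have := hm Q' h'; omega,
    fun Q' h' => by have := hm Q' h'; omega⟩
  obtain ⟨h1, h2, k, hk, c⟩ := m.bq
  obtain ⟨n, -, n2, d, hd, rfl⟩ := fr (m.syl h) hk
  have b : Bq S (Q ⊔ (S ⊓ 𝐍[Q] ⊓ 𝐂[Q])) := ⟨h1.trans le_sup_left,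
    sup_le h2 (inf_le_left.trans inf_le_left), n, n2, fun c' => c (gd_mul c' h1 hd)⟩
  have t1 := nfr (inf_le_right : S ⊓ 𝐍[Q] ≤ 𝐍[Q])
  have t2 := le_inf inf_le_left t1
  have e1 := (m.eqB b ((baumann_le _).trans t1)).2
  have c1 : Nat.card ↥(Q ⊓ 𝐁[2, S ⊓ 𝐍[Q]]) ≤
      Nat.card ↥((Q ⊔ (S ⊓ 𝐍[Q] ⊓ 𝐂[Q])) ⊓ 𝐁[2, S ⊓ 𝐍[Q]]) :=
    card_le_card_of_le (inf_le_inf_right _ le_sup_left)
  have e := PLocal.eq_of_le_of_card_le t2 (m.m4 _ b (nu_mono t2) (by rw [e1]) (by rwa [e1]))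
  refine ⟨_, ⟨b, ?_, ?_, ?_, ?_⟩, ?_⟩ <;> rw [← e]
  exacts [m.m1, m.m2, fun Q' h' a b => (m.m3 Q' h' a b).trans c1,
    fun Q' h' a b c => m.m4 Q' h' a b (c1.trans c),
    le_sup_of_le_right (inf_le_inf_left _ (centralizer_anti le_sup_left))]

end Cfsg.Agent.NFS
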