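import Cfsg.Agent.NFS.Api
import Cfsg.Agent.PLocal.SigCoprime

/-!
# `V ≤ O₂(G)` in a solvable group of characteristic 2
-/

set_option autoImplicit false
set_option linter.unusedSectionVars false

namespace Cfsg.Agent.NFS

open Cfsg.Agent.PLocal hiding centralizer_anti
open Subgroup Cfsg Cfsg.Agent.PLocal.Amb Cfsg.Agent.PLocal.TV
open Cfsg.Agent.PLocal.SL2Nat Cfsg.Agent.PLocal.Bk
open Cfsg.Agent.PLocal.CP (IsCharP MinOver ncl secCent)
open Cfsg.Agent.Solv.Ext (Inv)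
open Cfsg.Agent.QT.Qrc (P2)
open scoped commutatorElement MatrixGroups Cfsg.Agent.PLocal.CP

variable {G : Type*} [Group G] [Finite G]

theorem card_le_two_of_minOver [Group.IsSolvable G] {Y M : Subgroup G}
    (hY : IsElementaryAbelian 2 Y) (hO : pCore 2 G = ⊥) (h : MinOver Y M ⊤) (hM : M ≤ 𝐍[Y]) :
    Nat.card Y ≤ 2 := by
  have : Fact (Nat.Prime 2) := ⟨Nat.prime_two⟩
  by_contra hc
  have h4 : 2 ^ 2 ≤ Nat.card Y := by
    obtain ⟨n, hn⟩ := (isEA_isPGroup hY).exists_card_eq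
    rw [hn] at hc ⊢
    refine Nat.pow_le_pow_right two_pos ?_
    by_contra k
    have : n ≤ 1 := by omega
    exact hc ((Nat.pow_le_pow_right two_pos this).trans_eq (pow_one 2))
  have hD : ¬ 2 ∣ Nat.card (fittingSubgroup G) := fun k => Grp.not_dvd_card_pPrimeCore 2 G
    (k.trans (card_dvd_of_le (Grp.fitting_le_pPrimeCore_of_pCore_eq_bot hO)))
  have h1 : fittingSubgroup G ≤ 𝐍[Y] := by
    refine Sig.le_of_cent1_le hY h4 le_normalizer_of_normal hD fun y hy h1 => ?_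
    refine inf_le_right.trans (le_trans (h.le_of_le (fun x hx => ?_) le_top fun k => h1 ?_) hM)
    · exact mem_centralizer_singleton_iff.2 (isEA_comm hY hx hy)
    · have hn : (zpowers y).Normal := ⟨fun n hn g => by
        obtain ⟨i, rfl⟩ := mem_zpowers_iff.1 hn
        have e : Commute g y := mem_centralizer_singleton_iff.1 (k (mem_top g))
        rw [(e.zpow_right i).eq, mul_inv_cancel_right]
        exact hn⟩
      have := Grp.le_pCore hn ((isEA_isPGroup hY).to_le (zpowers_le.2 hy))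
      rw [hO] at this
      exact mem_bot.1 (this (mem_zpowers y))
  have hb : Y ⊓ fittingSubgroup G = ⊥ := Sig.inf_eq_bot_of_not_dvd (isEA_isPGroup hY) hD
  have h2 : Y ≤ 𝐂[fittingSubgroup G] := by
    rw [← commutator_eq_bot_iff_le_centralizer, eq_bot_iff, ← hb]
    exact WC.commutator_le_inf_of le_normalizer_of_normal h1
  have h3 : Y = ⊥ := by
    rw [← hb, inf_eq_left.2 (h2.trans (Grp.centralizer_fitting_le G))]
  rw [h3, card_bot] at hc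
  omega

/-- `Q = O₂(L)`; `L` is not a 2-group (`MinOver.not_le_pCoreOf`).  In `L̄ = L / Q` let `D̄ = O_{2'}(L̄)`
(or `F(L̄)`, odd, self-centralising as `L̄` is solvable with `O₂ = 1`).  `Ȳ ≠ 1` acts faithfully on `D̄`.
If `|Ȳ| ≥ 4`: `D̄` is generated by the `C_D̄(Ȳ₁)`, `|Ȳ : Ȳ₁| = 2` (or by the `C_D̄(y)`, `1 ≠ y ∈ Ȳ`).  Each
`Ȳ C_D̄(y)` is proper in `L̄` (otherwise `y` is central in `L̄`, so in `O₂(L̄) = 1`), so its preimage
lies in `L ⊓ 𝐍[Y]`; then `D̄` normalises `Ȳ`, `[D̄, Ȳ] ≤ D̄ ⊓ Ȳ = 1`, absurd.  So `|Y : Y ⊓ Q| ≤ 2`.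
`Y Q` is a proper (2-)subgroup of `L`, so `Q ≤ 𝐍[Y]`. -/
theorem minOver_two {Y L : Subgroup G} (hY : IsElementaryAbelian 2 Y) (hs : Group.IsSolvable L)
    (h : MinOver Y (L ⊓ 𝐍[Y]) L) : (pCoreOf 2 L).relIndex Y ≤ 2 ∧ pCoreOf 2 L ≤ 𝐍[Y] := by
  have : Fact (Nat.Prime 2) := ⟨Nat.prime_two⟩
  have hQ : pCoreOf 2 L ≤ L ⊓ 𝐍[Y] := h.pCoreOf_le (isEA_isPGroup hY)
  refine ⟨?_, hQ.trans inf_le_right⟩
  have h1 : MinOver (Y.subgroupOf L) ((L ⊓ 𝐍[Y]).subgroupOf L) ⊤ := by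
    rw [← CP.minOver_map_subtype, map_subgroupOf_of_le h.le_top, map_subgroupOf_of_le inf_le_left]
    exact h
  let f := QuotientGroup.mk' (pCore 2 L)
  have hf : Function.Surjective f := QuotientGroup.mk'_surjective _
  have h2 := h1.map f (by
    rw [QuotientGroup.ker_mk']
    exact inf_le_right.trans (map_le_iff_le_comap.1 hQ))
  rw [← MonoidHom.range_eq_map, MonoidHom.range_eq_top.2 hf] at h2
  have hY' : IsElementaryAbelian 2 (Y.subgroupOf L) := by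
    refine isEA_iff.2 ⟨fun a ha b hb => Subtype.ext (isEA_comm hY ha hb), fun a ha => ?_⟩
    exact Subtype.ext (hY.2 a ha)
  have h3 := card_le_two_of_minOver (isEA_map hY' f) (Grp.pCore_quotient_pCore 2 L) h2 (by
    refine le_trans (map_mono ?_) (le_normalizer_map f)
    intro x hx
    rw [mem_normalizer_iff]
    intro y
    exact (mem_normalizer_iff.1 hx.2 y).trans (by simp [mem_subgroupOf]))
  rw [← relIndex_ker, QuotientGroup.ker_mk'] at h3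
  rw [← map_subgroupOf_of_le h.le_top, pCoreOf,
    relIndex_map_map_of_injective _ _ L.subtype_injective]
  exact h3

/-- Copy `cubic_of_minOver` (`W = cj(g, Y)`, `B = W ⊓ 𝐍[Y]`), but bound
`(Y ⊓ 𝐍[W]).relIndex Y ≤ 2` by `minOver_two` (`O₂(L) = cj(g, O₂(L)) ≤ 𝐍[W]`) instead of `k1`. -/
theorem two_of_minOver {Y L Q : Subgroup G} (hY : IsElementaryAbelian 2 Y) (hs : Group.IsSolvable L)
    (h : MinOver Y (L ⊓ 𝐍[Y]) L) (hQ : IsPGroup 2 Q) (hLQ : L ≤ 𝐍[Q]) (hQY : Q ≤ 𝐍[Y])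
    (hC : 𝐂[Q] ≤ Q) : ∃ B : Subgroup G, B ≤ 𝐍[Y] ∧ IsElementaryAbelian 2 B ∧ ¬ B ≤ 𝐂[Y] ∧
      (𝐂[B]).relIndex Y ≤ 2 * (𝐂[Y]).relIndex B := by
  have : Fact (Nat.Prime 2) := ⟨Nat.prime_two⟩
  obtain ⟨g₀, hg₀, hg₀'⟩ := SetLike.exists_of_lt h.lt
  obtain ⟨g, hg1, hg'⟩ := SetLike.not_le_iff_exists.1 fun k => hg₀' (h.mem_of_cj_le hg₀ k)
  have hg : g ∈ L := cj_le_of_mem h.le_top hg₀ hg1
  have g2 : g * g = 1 := by rw [← pow_two]; exact (isEA_map hY _).2 g hg1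
  have hL := h.sup_cj hg hg'
  have h' := h.cj_of_mem hg
  rw [cj_inf, cj_of_mem hg, ← normalizer_cj] at h'
  set W := cj(g, Y) with hWe
  have hW : IsElementaryAbelian 2 W := isEA_map hY _
  have eW : cj(g, W) = Y := by rw [hWe, ← cj_mul, g2, cj_one]
  have hYL := h.le_top
  have hWL := h'.le_top
  have hZ : Y ⊓ W ≤ 𝐂[L] := by
    rw [← hL, Amb.centralizer_sup]
    exact inf_le_inf (isEA_le_centralizer hY) (isEA_le_centralizer hW)
  have hLZ : L ≤ 𝐍[Y ⊓ W] := (WC.le_centralizer_comm.1 hZ).trans (centralizer_le_normalizer' _)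
  have c1 := QT.Qrc.comm_le_of_minOver hY hW h hWL
  have c2 := QT.Qrc.comm_le_of_minOver hW hY h' hYL
  have eA : cj(g, Y ⊓ 𝐍[W]) = W ⊓ 𝐍[Y] := by rw [cj_inf, ← normalizer_cj, eW]
  have eA' : cj(g, W ⊓ 𝐍[Y]) = Y ⊓ 𝐍[W] := by rw [cj_inf, ← normalizer_cj, eW]
  have eZ : cj(g, Y ⊓ W) = Y ⊓ W := cj_of_mem_normalizer (hLZ hg)
  have hCZ : 𝐂[Y] ⊓ (W ⊓ 𝐍[Y]) = Y ⊓ W ⊓ (W ⊓ 𝐍[Y]) := by
    refine le_antisymm (fun w hw => ⟨⟨?_, hw.2.1⟩, hw.2⟩) (inf_le_inf_right _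
      (inf_le_left.trans (isEA_le_centralizer hY)))
    have k : w ∈ 𝐂[L] := by
      rw [← hL, Amb.centralizer_sup]; exact ⟨hw.1, isEA_le_centralizer hW hw.2.1⟩
    have k2 := conj_mem_cj g hw.2.1
    rwa [eW, k g hg, mul_inv_cancel_right] at k2
  have hne : ¬ W ⊓ 𝐍[Y] ≤ Y ⊓ W := fun k => by
    have k' : Y ⊓ 𝐍[W] ≤ Y ⊓ W := by rw [← eA', ← eZ]; exact cj_mono g k
    have hQW : Q ≤ 𝐍[W] := by
      rw [hWe, normalizer_cj, ← cj_of_mem_normalizer (hLQ hg)]; exact cj_mono g hQY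
    have a1 : ⁅Q, L⁆ ≤ Y ⊓ W := by
      rw [← hL]
      refine CommMod.commutator_sup_le' (hYL.trans hLZ) (hWL.trans hLZ) (le_trans ?_ k')
        (le_trans ?_ k)
      · exact (WC.commutator_le_inf_of hQY (hYL.trans hLQ)).trans
          (le_inf inf_le_right (inf_le_left.trans hQW))
      · exact (WC.commutator_le_inf_of hQW (hWL.trans hLQ)).trans
          (le_inf inf_le_right (inf_le_left.trans hQY))
    have a2 : 𝐎[2, L] ≤ 𝐂[Q] := CP.pRes_le_centralizer_of_commutator_le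
      ((isEA_isPGroup hY).to_le inf_le_left) ((pRes_le 2 L).trans (WC.le_centralizer_comm.1 hZ))
      (by rw [commutator_comm]; exact a1)
    have a3 : IsPGroup 2 L := isPGroup_of_pRes_le hQ (a2.trans hC)
    exact h.not_le_pCoreOf (isEA_isPGroup hY) (by rw [pCoreOf_eq_self a3]; exact hYL)
  have ea : (𝐂[Y]).relIndex (W ⊓ 𝐍[Y]) = (Y ⊓ W).relIndex (W ⊓ 𝐍[Y]) := by
    rw [← inf_relIndex_right 𝐂[Y], hCZ, inf_relIndex_right]
  have eb : (Y ⊓ W).relIndex (Y ⊓ 𝐍[W]) = (Y ⊓ W).relIndex (W ⊓ 𝐍[Y]) := by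
    rw [← eA]
    conv_rhs => rw [← eZ]
    exact (relIndex_map_map_of_injective _ _ (MulAut.conj g).injective).symm
  refine ⟨W ⊓ 𝐍[Y], inf_le_right, isEA_mono hW inf_le_left, fun k => hne ?_, ?_⟩
  · exact ((le_inf k le_rfl).trans hCZ.le).trans inf_le_left
  obtain ⟨m1, m2⟩ := minOver_two hY hs h
  have k1 : (Y ⊓ 𝐍[W]).relIndex Y ≤ 2 := by
    rw [inf_comm, inf_relIndex_right]
    refine le_trans (relIndex_le_of_le_left ?_ Subgroup.index_ne_zero_of_finite) m1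
    rw [hWe, normalizer_cj, ← cj_of_mem_normalizer (le_normalizer_pCoreOf 2 L hg)]
    exact cj_mono g m2
  rw [ea, ← eb, mul_comm]
  calc (𝐂[W ⊓ 𝐍[Y]]).relIndex Y ≤ (Y ⊓ W).relIndex Y := relIndex_le_of_le_left
        (hZ.trans (centralizer_anti (inf_le_left.trans hWL))) Subgroup.index_ne_zero_of_finite
    _ = (Y ⊓ W).relIndex (Y ⊓ 𝐍[W]) * (Y ⊓ 𝐍[W]).relIndex Y :=
        (relIndex_mul_relIndex _ _ _ (inf_le_inf_left _ le_normalizer) inf_le_left).symm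
    _ ≤ _ := Nat.mul_le_mul_left _ k1

theorem isWC_J {T : Subgroup G} (hT : IsSyl 2 T ⊤) : WC.IsWC 2 𝐉[2, T] := by
  have : Fact (Nat.Prime 2) := ⟨Nat.prime_two⟩
  refine ⟨hT.pgrp.to_le (thompsonSubgroupOf_le T), fun g R hR h1 h2 => ?_⟩
  have key : ∀ x : G, cj(x, 𝐉[2, T]) ≤ R → cj(x, 𝐉[2, T]) = 𝐉[2, R] := fun x hx => by
    obtain ⟨y, -, hy⟩ := hT.exists_cj_le hR le_top
    have e : ∀ (z : G) (X : Subgroup G), cj(z, 𝐉[2, X]) = 𝐉[2, cj(z, X)] := fun z X =>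
      map_thompsonSubgroupOf X (MulAut.conj z).injective
    have m1 : mx R ≤ mx T := by rw [← mx_cj y R]; exact mx_mono hy
    have m2 : mx cj(x, 𝐉[2, T]) = mx T := by rw [mx_cj, mx_J]
    have a1 : 𝐉[2, cj(x, 𝐉[2, T])] = cj(x, 𝐉[2, T]) := by
      rw [← e, thompsonSubgroupOf_eq_of_le le_rfl (thompsonSubgroupOf_le T)]
    have a2 : cj(x, 𝐉[2, T]) ≤ 𝐉[2, R] := a1.ge.trans (J_le_of_mx hx (m1.trans m2.ge))
    refine PLocal.eq_of_le_of_card_le a2 ?_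
    rw [card_cj, ← card_cj y, e]
    refine PLocal.card_le_card_of_le (J_le_of_mx hy ?_)
    rw [mx_cj, ← m2]
    exact mx_mono hx
  rw [key g h2, ← key 1 (by rwa [cj_one]), cj_one]

/-- Copy `exists_cub` with `P = 𝐉[2, T]` (weakly closed: `WC.IsWC 2 𝐉[2, T]`, `ca find isWC`).  In the
symmetric case `B = cj(g^{±1}, V)` even has `|V : C_V(B)| ≤ |B : C_B(V)|`.  Conjugate `B` into `T` by
`𝐍[V]`; `P4` gives `4 x ≤ 2 x` with `x > 0`. -/
theorem s1a {T V : Subgroup G} (hs : Group.IsSolvable G) (hG : IsCharP 2 (⊤ : Subgroup G))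
    (hT : IsSyl 2 T ⊤) (hV : IsElementaryAbelian 2 V) (h1 : V ≤ 𝐉[2, T]) (h2 : 𝐉[2, T] ≤ 𝐂[V])
    (h3 : 𝐍[𝐉[2, T]] ≤ 𝐍[V]) (h4 : P4 V T) : V ≤ pCoreOf 2 (⊤ : Subgroup G) := by
  have : Fact (Nat.Prime 2) := ⟨Nat.prime_two⟩
  by_contra hn
  have hw := isWC_J hT
  have hPT : 𝐉[2, T] ≤ T := thompsonSubgroupOf_le T
  have hTY : T ≤ 𝐍[V] := (le_normalizer_thompsonSubgroupOf T).trans h3
  have : ∃ B : Subgroup G, B ≤ 𝐍[V] ∧ IsElementaryAbelian 2 B ∧ ¬ B ≤ 𝐂[V] ∧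
      (𝐂[B]).relIndex V ≤ 2 * (𝐂[V]).relIndex B := by
    by_cases ha : IsSymmetricIn V
    · obtain ⟨g, g1, g2⟩ := ha
      change ⁅V, cj(g, V)⁆ ≠ ⊥ at g1
      change ⁅V, cj(g, V)⁆ ≤ V ⊓ cj(g, V) at g2
      have hW : ∀ x : G, IsElementaryAbelian 2 cj(x, V) := fun x => isEA_map hV _
      rw [Ne, commutator_eq_bot_iff_le_centralizer] at g1
      rcases le_total ((𝐂[cj(g, V)]).relIndex V) ((𝐂[V]).relIndex cj(g, V)) with k | k
      · exact ⟨_, le_normalizer_iff_commutator_le_left.2 (g2.trans inf_le_left), hW g,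
          fun k => g1 (WC.le_centralizer_comm.1 k), by omega⟩
      · refine ⟨cj(g⁻¹, V), ?_, hW _, fun k => g1 ?_, ?_⟩
        · rw [cj_le_iff, inv_inv, ← normalizer_cj]
          exact le_normalizer_iff_commutator_le_right.2 (g2.trans inf_le_right)
        · rwa [cj_le_iff, inv_inv, ← centralizer_cj] at k
        · rw [← QT.Qrc.relIndex_cent_cj g _ V, ← QT.Qrc.relIndex_cent_cj g V, cj_cj_inv]
          omega
    obtain ⟨L, hL⟩ := QT.Qrc.Asy.exists_minOver ⟨hw, hV, h1, h2, h3, ha⟩ hG hn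
    exact two_of_minOver hV inferInstance hL (isPGroup_pCoreOf 2 ⊤)
      (le_top.trans (le_normalizer_pCoreOf 2 ⊤)) (hT.pCoreOf_le.trans hTY)
      ((le_inf le_top le_rfl).trans hG)
  obtain ⟨B, b1, b2, b3, b4⟩ := this
  obtain ⟨n, hn, k⟩ := (hT.mono hTY le_top).exists_cj_le (isEA_isPGroup b2) b1
  have e := cj_of_mem_normalizer hn
  have k1 := h4 _ k (isEA_map b2 _) (fun c => b3 (by
    rwa [← e, centralizer_cj, cj_le_cj_iff] at c))
  conv at k1 => lhs; rw [← e, QT.Qrc.relIndex_cent_cj]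
  conv at k1 => rhs; rw [← e, QT.Qrc.relIndex_cent_cj]
  have k2 : 0 < (𝐂[V]).relIndex B := Nat.pos_of_ne_zero Subgroup.index_ne_zero_of_finite
  omega

end Cfsg.Agent.NFS
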