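import Cfsg.Agent.NFS.RkB
import Cfsg.Agent.NFS.MdA

/-!
# The torus of a rank one datum

`H = HH J L = O²(L ⊓ 𝐍[J])`, `Bo = SL ⊓ 𝐍[Ui F]`; `D.im (L ⊓ 𝐍[J]) = Bo` (`sd`; `≤` as `D.im J = Ui F`),
`D.im H = O²(Bo)` (`im_pRes`).  The preimage of `Ui F` in `L ⊓ 𝐍[J]` is `J (L ⊓ D.ker) ≤ J 𝐂[W]`.
Use `borel_facts`.
-/

set_option autoImplicit false
set_option linter.unusedSectionVars false

namespace Cfsg.Agent.NFS

open Cfsg.Agent.PLocal hiding centralizer_anti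
open Subgroup Cfsg Cfsg.Agent.PLocal.Amb Cfsg.Agent.PLocal.TV
open Cfsg.Agent.PLocal.SL2Nat Cfsg.Agent.PLocal.Bk
open Cfsg.Agent.PLocal.CP (IsCharP MinOver ncl secCent)
open Cfsg.Agent.Solv.Ext (Inv)
open Cfsg.Agent.QT.Qrc (P2)
open scoped commutatorElement MatrixGroups Cfsg.Agent.PLocal.CP

variable {G : Type*} [Group G] [Finite G] {J W L W' L' : Subgroup G} {q : ℕ}

theorem Tr.up {H A A₀ U₀ : Subgroup G} (h : Tr H A A₀) (h0 : A₀ ≤ U₀) (hH : H ≤ 𝐍[U₀])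
    (hA : A ≤ 𝐍[U₀]) : Tr H (A ⊔ U₀) U₀ := by
  have h1 : ⁅H, H⁆ ≤ 𝐍[U₀] := (le_normalizer_iff_commutator_le_left.1 le_normalizer).trans hH
  refine ⟨CP.le_secCent_iff.2 ⟨h1, CP.commutator_sup_le hA le_normalizer
    ((CP.le_secCent_iff.1 h.ab).2.trans h0) (le_normalizer_iff_commutator_le_right.1 h1)⟩, fun u hu u0 v hv v0 => ?_⟩
  obtain ⟨a, ha, k, hk, rfl⟩ := (mem_sup_of_le_normalizer_right hA).1 hu
  obtain ⟨a', ha', k', hk', rfl⟩ := (mem_sup_of_le_normalizer_right hA).1 hv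
  obtain ⟨x, hx, e⟩ := h.tr a ha (fun c => u0 (mul_mem (h0 c) hk)) a' ha'
    fun c => v0 (mul_mem (h0 c) hk')
  refine ⟨x, hx, ?_⟩
  convert mul_mem (h0 e) (Amb.conj_mem_of_mem_normalizer (hA ha')
    (mul_mem (Amb.conj_mem_of_mem_normalizer (hH hx) hk) (inv_mem hk'))) using 1
  group

theorem Tr.down {H A A₀ U U₀ : Subgroup G} (h : Tr H U U₀) (h0 : A ≤ U) (h1 : A ⊓ U₀ ≤ A₀)
    (hH : H ≤ 𝐍[A]) (hH' : H ≤ 𝐍[A₀]) : Tr H A A₀ := by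
  have h2 : ⁅H, H⁆ ≤ H := le_normalizer_iff_commutator_le_left.1 le_normalizer
  refine ⟨CP.le_secCent_iff.2 ⟨h2.trans hH', (le_inf (le_normalizer_iff_commutator_le_right.1 (h2.trans hH))
    ((commutator_mono le_rfl h0).trans (CP.le_secCent_iff.1 h.ab).2)).trans h1⟩,
    fun u hu u0 v hv v0 => ?_⟩
  obtain ⟨x, hx, e⟩ := h.tr u (h0 hu) (fun c => u0 (h1 ⟨hu, c⟩)) v (h0 hv) fun c => v0 (h1 ⟨hv, c⟩)
  exact ⟨x, hx, h1 ⟨A.mul_mem (Amb.conj_mem_of_mem_normalizer (hH hx) hu) (A.inv_mem hv), e⟩⟩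

theorem tor_im {F : Type} [Field F] [Fintype F] [CharP F 2] {W₀ : Subgroup G}
    (D : SD (Fin 2 → F) W W₀) (hN : L ≤ D.N) (hL : D.im L = (slG F).range) (hB : D.im J = Ui F)
    (hH : (slG F).range ⊓ 𝐍[Ui F] ≤ D.im (L ⊓ 𝐍[J])) :
    D.im (L ⊓ 𝐍[J]) = (slG F).range ⊓ 𝐍[Ui F] ∧ ∀ s ∈ 𝐎[2, (slG F).range ⊓ 𝐍[Ui F]],
      ∃ x ∈ HH J L, x ∈ D.N ∧ D.act x = s := by
  have h1 : D.im (L ⊓ 𝐍[J]) = (slG F).range ⊓ 𝐍[Ui F] := le_antisymm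
    (le_inf (hL ▸ D.im_mono inf_le_left) (hB ▸ D.im_le_normalizer inf_le_right)) hH
  refine ⟨h1, fun s hs => D.mem_im.1 ?_⟩
  rwa [HH, D.im_pRes (inf_le_left.trans hN), h1]

theorem Rk.tor_ab (h : Rk J W L q) : ⁅L ⊓ 𝐍[J], L ⊓ 𝐍[J]⁆ ≤ J ⊔ (𝐍[J] ⊓ 𝐂[W]) := by
  obtain ⟨F, _, _, _, D, -, hN, hL, hB, hk, hH⟩ := h.sd
  have h1 : ⁅L ⊓ 𝐍[J], L ⊓ 𝐍[J]⁆ ≤ L ⊓ 𝐍[J] := le_normalizer_iff_commutator_le_left.1 le_normalizer
  have h2 : J ≤ L ⊓ 𝐍[J] := le_inf h.JL le_normalizer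
  intro x hx
  obtain ⟨y, hy, k, hk', rfl⟩ := rkA_dec D hN hk (X := ⁅L ⊓ 𝐍[J], L ⊓ 𝐍[J]⁆ ⊔ J)
    ((sup_le h1 h2).trans inf_le_left) le_sup_right (by
      rw [D.im_sup (h1.trans (inf_le_left.trans hN)) (h.JL.trans hN), D.im_commutator
        (inf_le_left.trans hN) (inf_le_left.trans hN), (tor_im D hN hL hB hH).1, hB]
      exact sup_le borel_facts.1 le_rfl) (mem_sup_left hx)
  exact mul_mem_sup hy ⟨(sup_le h1 h2 hk'.1).2, hk'.2⟩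

/-- an element of `L = E J` centralises `𝐙[J] ⊓ 𝐂[E]` -/
theorem Rk.hh (h : Rk J W L q) : HH J L ≤ L ⊓ 𝐍[J] ∧ 𝐎[2, HH J L] = HH J L ∧
    𝐙[J] ⊓ 𝐂[𝐎[2, L]] ≤ 𝐂[HH J L] :=
  ⟨pRes_le 2 _, pRes_pRes 2 _, ((le_inf inf_le_right (inf_le_left.trans
    (CP.omegaZ_le_centralizer J))).trans (Amb.centralizer_sup _ _).ge).trans
    (Amb.centralizer_anti ((pRes_le 2 _).trans (inf_le_left.trans h.gen)))⟩

theorem Rk.tor_nl (h : Rk J W L q) : L ⊓ 𝐍[J] ≤ 𝐍[W ⊓ 𝐂[J]] :=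
  le_normalizer_inf (inf_le_left.trans h.nW) (le_normalizer_centralizer inf_le_right)

/-- section `W Z₀ / Z₀ ≅ W / ℓ̂ ≅ F² / ℓ` (`W ⊓ Z₀ = ℓ̂`); elements of `J 𝐂[W] ⊓ 𝐍[J]` normalise
`Z₀` and `⁅j c, w z⁆ ∈ Z₀` -/
theorem Rk.tr1 (h : Rk J W L q) : Tr (HH J L) (W ⊔ 𝐙[J]) 𝐙[J] := by
  refine Tr.up ⟨((commutator_mono h.hh.1 h.hh.1).trans h.tor_ab).trans (sup_le
    (CP.le_secCent_iff'.2 ⟨(le_inf h.JL le_normalizer).trans h.tor_nl, le_sup_left.trans h.zw.2.2.1.le⟩)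
    (CP.le_secCent_iff.2 ⟨le_normalizer_inf (inf_le_right.trans (centralizer_le_normalizer' W))
      (le_normalizer_centralizer inf_le_left), ?_⟩)), fun u hu u0 v hv v0 => ?_⟩ h.zw.2.2.2
    ((h.hh.1.trans inf_le_right).trans (CP.normalizer_le_normalizer_omegaZ J))
    ((h.WJ.trans le_normalizer).trans (CP.normalizer_le_normalizer_omegaZ J))
  · rw [commutator_eq_bot_iff_le_centralizer.2 inf_le_right]
    exact bot_le
  obtain ⟨F, _, _, _, D, -, hN, hL, hB, hk, hH⟩ := h.sd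
  rw [rkA_pre h D hN hB hk] at u0 v0 ⊢
  obtain ⟨s, hs, e⟩ := borel_facts.2.2.1 _ (fun c => u0 ⟨hu, c⟩) _ fun c => v0 ⟨hv, c⟩
  obtain ⟨x, hx, hxN, rfl⟩ := (tor_im D hN hL hB hH).2 s hs
  refine ⟨x, hx, mul_mem (D.conj_mem hxN hu) (inv_mem hv), ?_⟩
  rwa [D.ψ_mul (D.conj_mem hxN hu) (inv_mem hv), D.ψ_inv hv, ← D.act_ψ hxN hu, ← sub_eq_add_neg]

/-- section `J / Q₀ ≅ Ui F` (abelian; for `x ∈ L ⊓ 𝐍[J]` with `D.act x ∈ Ui F`, `⁅x, j⁆ ∈ J ⊓ D.ker`) -/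
theorem Rk.tr2 (h : Rk J W L q) : Tr (HH J L) J (J ⊓ 𝐂[W]) := by
  obtain ⟨F, _, _, _, D, -, hN, hL, hB, hk, hH⟩ := h.sd
  have hJ := h.JL.trans hN
  have h1 : ⁅J, J⁆ ≤ J := le_normalizer_iff_commutator_le_left.1 le_normalizer
  refine ⟨((commutator_mono h.hh.1 h.hh.1).trans h.tor_ab).trans (sup_le
    (CP.le_secCent_iff.2 ⟨h.nQ, le_inf h1 ((le_inf (h1.trans h.JL) ?_).trans hk)⟩)
    (CP.le_secCent_iff.2 ⟨le_normalizer_inf inf_le_left (inf_le_right.trans le_normalizer),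
      le_inf (le_normalizer_iff_commutator_le_right.1 inf_le_left) ((commutator_mono inf_le_right le_rfl).trans
        (le_normalizer_iff_commutator_le_left.1 (le_normalizer_centralizer (h.JL.trans h.nW))))⟩)),
    fun u hu u0 v hv v0 => ?_⟩
  · rw [← D.im_eq_bot_iff (h1.trans hJ), D.im_commutator hJ hJ, hB,
      commutator_eq_bot_iff_le_centralizer]
    exact isEA_le_centralizer (isEA_Ui 2)
  obtain ⟨s, hs, e⟩ := borel_facts.2.2.2.1 _ (hB.le (D.act_mem_im hu))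
    (rkA_ne D hN hk (h.JL hu) fun c => u0 ⟨hu, c⟩) _ (hB.le (D.act_mem_im hv))
    (rkA_ne D hN hk (h.JL hv) fun c => v0 ⟨hv, c⟩)
  obtain ⟨x, hx, hxN, rfl⟩ := (tor_im D hN hL hB hH).2 s hs
  have h2 := Amb.conj_mem_of_mem_normalizer (h.hh.1 hx).2 hu
  have h3 := mul_mem h2 (inv_mem hv)
  refine ⟨x, hx, h3, hk ⟨h.JL h3, D.mem_ker.2 ⟨hJ h3, ?_⟩⟩⟩
  rw [D.act_mul (hJ h2) (hJ (inv_mem hv)), D.act_conj hxN (hJ hu), e, D.act_inv, mul_inv_cancel]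

/-- `H` acts on `Z_W ≤ ℓ̂` through the odd order group `Bo / U` (the preimage of `U` centralises `ℓ̂`),
so `Z_W = Y × C_{Z_W}(H)` (coprime action; e.g. average over `h` of odd order generating `H` modulo
`C_H(ℓ̂)`, or `MdA.odd_split` after Schur-Zassenhaus).  For `q > 2`, `H` has no fixed point on `ℓ \ 0`,
so `C_{Z_W}(H) = Z_W ⊓ W₀` (`W₀ ≤ 𝐂[L]`), `Y ≅ ℓ` via `D.ψ`, equivariantly. -/
theorem Rk.yy (h : Rk J W L q) (hq : 2 < q) : YY J W L ≤ ⁅W, J⁆ ∧ YY J W L ≠ ⊥ ∧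
    YY J W L ⊓ 𝐂[HH J L] = ⊥ ∧
    ∀ y ∈ YY J W L, y ≠ 1 → ∀ y' ∈ YY J W L, y' ≠ 1 → ∃ x ∈ HH J L, x * y * x⁻¹ = y' := by
  obtain ⟨F, _, _, _, D, hq', hN, hL, hB, hk, hH⟩ := h.sd
  obtain ⟨i1, i2⟩ := tor_im D hN hL hB hH
  have pre := rkA_pre h D hN hB hk
  have zl : ⁅W, J⁆ ≤ W ⊓ 𝐂[J] := le_sup_left.trans h.zw.2.2.1.le
  have hY : YY J W L ≤ ⁅W, J⁆ := le_normalizer_iff_commutator_le_left.1 (h.hh.1.trans
    (le_normalizer_commutator (inf_le_left.trans h.nW) inf_le_right))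
  obtain ⟨x, hx, ox, v, hv, nv⟩ : ∃ x ∈ L ⊓ 𝐍[J], (orderOf x).Coprime 2 ∧ ∃ v ∈ ln F,
      D.act x • v ≠ v := by
    by_contra! c
    have c1 : HH J L ≤ D.cmp (cent _ (ln F)) := pRes_le_iff.2 fun x hx ox =>
      D.mem_cmp.2 ⟨hN hx.1, c x hx ox⟩
    obtain ⟨a, a0, a1⟩ : ∃ a : F, a ≠ 0 ∧ a ≠ 1 := by
      by_contra! c
      have := Set.ncard_le_ncard (s := Set.univ) (t := {(0 : F), 1}) fun a _ => (em _).imp_right (c a)
      rw [Set.ncard_univ, Set.ncard_pair zero_ne_one] at this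
      omega
    obtain ⟨s, hs, e⟩ := borel_facts.2.1 (![1, 0] : Fin 2 → F) rfl PL.e0_ne ![a, 0] rfl
      fun c => a0 (congrFun c 0)
    obtain ⟨y, hy, -, rfl⟩ := i2 s hs
    exact a1 (congrFun (e.symm.trans ((D.mem_cmp.1 (c1 hy)).2 _ rfl)) 0)
  have xH : zpowers x ≤ HH J L := zpowers_le.2 (mem_pRes hx ox)
  have fix : W ⊓ 𝐂[J] ⊓ 𝐂[zpowers x] ≤ W ⊓ 𝐂[L] := fun w hw => by
    by_contra c
    have c1 := (pre.le hw.1).2
    obtain ⟨s, hs, rfl⟩ := borel_facts.2.1 _ c1 (mt (D.eq_zero hw.1.1).1 c) v hv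
      (by rintro rfl; exact nv (smul_zero _))
    have c2 : D.act x • D.ψ w = D.ψ w := by
      rw [D.act_ψ (hN hx.1) hw.1.1, hw.2 x (mem_zpowers x), mul_inv_cancel_right]
    have c3 := fx_Ui.ge c1 _ (borel_facts.1 (commutator_mem_commutator (inv_mem (pRes_le 2 _ hs))
      (i1.le (D.act_mem_im hx))))
    refine nv ?_
    conv_rhs => rw [← c3]
    conv_lhs => rw [← inv_smul_eq_iff.2 c2.symm]
    simp only [smul_smul, commutatorElement_def, inv_inv, mul_assoc, mul_inv_cancel_left]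
  obtain ⟨s1, s2, -⟩ := odd_split (isEA_mono h.ea (inf_le_left (b := 𝐂[J]))) (X := zpowers x)
    (by rw [Nat.card_zpowers]; exact Nat.coprime_two_right.1 ox) (zpowers_le.2 (h.tor_nl hx))
  have nY : L ⊓ 𝐍[J] ≤ 𝐍[⁅W ⊓ 𝐂[J], zpowers x⁆] := by
    have c1 := zpowers_le.2 (normalizer_le_normalizer_centralizer _ (h.tor_nl hx))
    rw [← rkb_comm le_sup_left le_rfl fun _ => (mem_sup_of_le_normalizer_right c1).1]
    refine le_normalizer_commutator h.tor_nl (le_normalizer_iff_cj.2 fun y hy => ?_)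
    rw [cj_sup, cj_of_mem_normalizer (normalizer_le_normalizer_centralizer _ (h.tor_nl hy)),
      MonoidHom.map_zpowers]
    refine sup_le (zpowers_le.2 ?_) le_sup_right
    have := mul_mem (mem_sup_right (sup_le (le_centralizer_iff.1 inf_le_right)
      (inf_le_right.trans (Amb.centralizer_anti inf_le_left))
      (h.tor_ab (commutator_mem_commutator hy hx))) : _ ∈ zpowers x ⊔ 𝐂[W ⊓ 𝐂[J]])
      (mem_sup_left (mem_zpowers x))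
    rwa [commutatorElement_def, inv_mul_cancel_right] at this
  have W0 : W ⊓ 𝐂[L] ≤ 𝐂[HH J L] :=
    inf_le_right.trans (Amb.centralizer_anti (h.hh.1.trans inf_le_left))
  have h3 : YY J W L ⊓ 𝐂[HH J L] = ⊥ := by
    refine eq_bot_iff.2 (le_trans (inf_le_inf ?_ (Amb.centralizer_anti xH)) s2.le)
    rw [YY, Subgroup.commutator_comm]
    refine (commutator_mono le_rfl (zl.trans s1.ge)).trans (CP.commutator_sup_le le_normalizer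
      ((inf_le_left.trans inf_le_left).trans ?_) (le_normalizer_iff_commutator_le_right.1 (h.hh.1.trans nY)) ?_)
    · exact (isEA_le_centralizer h.ea).trans ((Amb.centralizer_anti ((le_normalizer_iff_commutator_le_left.1
        (zpowers_le.2 (h.tor_nl hx))).trans inf_le_left)).trans (centralizer_le_normalizer' _))
    · rw [Subgroup.commutator_comm, commutator_eq_bot_iff_le_centralizer.2 (fix.trans W0)]
      exact bot_le
  refine ⟨hY, fun c => h.zw.2.1 (((le_inf zl ((commutator_eq_bot_iff_le_centralizer.1 c).trans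
    (Amb.centralizer_anti xH))).trans fix).trans (inf_le_right.trans
      (Amb.centralizer_anti (pRes_le 2 L)))), h3, fun y hy y1 y' hy' y1' => ?_⟩
  have k : ∀ y ∈ YY J W L, y ∈ W ⊓ 𝐂[L] → y = 1 := fun y hy c => mem_bot.1 (h3.le ⟨hy, W0 c⟩)
  have a := pre.le (zl (hY hy))
  have a' := pre.le (zl (hY hy'))
  obtain ⟨s, hs, e⟩ := borel_facts.2.1 _ a.2 (fun c => y1 (k y hy ((D.eq_zero a.1).1 c))) _ a'.2
    fun c => y1' (k y' hy' ((D.eq_zero a'.1).1 c))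
  obtain ⟨g, hg, hgN, rfl⟩ := i2 s hs
  rw [D.act_ψ hgN a.1, D.ψ_eq_iff' (D.conj_mem hgN a.1) a'.1] at e
  exact ⟨g, hg, mul_inv_eq_one.1 (k _ (mul_mem (Amb.conj_mem_of_mem_normalizer
    (normalizer_commutator_ge_right _ _ hg) hy) (inv_mem hy')) e)⟩

/-- Transfer to a partner.  `W' ≰ 𝐂[W]`, `H' = HH J L'` normalises `Q₀` (`two_types`), so
`Ŵ = W ⊔ Z₀ = 𝐙[Q₀]` (`hat`), and `Q₀'`.  `J = W Q₀'` (`nc`) and `Ŵ ⊓ Q₀' = Z₀` (`cent_elt`), so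
`Ŵ / Z₀ ≅ J / Q₀'` equivariantly: `tr2` for `h'` gives the first claim.  Symmetrically
`J / Q₀ ≅ Ŵ' / Z₀`, and `tr1` for `h'` gives the second. -/
theorem Rk.tr_nc (h : Rk J W L q) (h' : Rk J W' L' q) (hn : ¬ W' ≤ 𝐂[W]) :
    Tr (HH J L') (W ⊔ 𝐙[J]) 𝐙[J] ∧ Tr (HH J L') J (J ⊓ 𝐂[W]) := by
  obtain ⟨n1, n2⟩ := h.nc h' hn
  have hQ : HH J L' ≤ 𝐍[J ⊓ 𝐂[W]] := (h.two_types inf_le_right
    (n2 ▸ le_normalizer_commutator (inf_le_left.trans h'.nW) inf_le_right)).2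
  have ZQ : 𝐙[J] ≤ J ⊓ 𝐂[W] := le_inf (CP.omegaZ_le J)
    ((CP.omegaZ_le_centralizer J).trans (Amb.centralizer_anti h.WJ))
  constructor
  · refine h'.tr2.down (sup_le h.WJ (CP.omegaZ_le J)) (fun u hu => ?_)
      (h.hat ▸ hQ.trans (CP.normalizer_le_normalizer_omegaZ _))
      ((h'.hh.1.trans inf_le_right).trans (CP.normalizer_le_normalizer_omegaZ J))
    obtain ⟨w, hw, z, hz, rfl⟩ := (mem_sup_of_le_normalizer_right
      ((h.WJ.trans le_normalizer).trans (CP.normalizer_le_normalizer_omegaZ J))).1 hu.1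
    obtain ⟨w', hw', c⟩ := SetLike.not_le_iff_exists.1 hn
    have h1 : w ∈ 𝐂[W'] := (mul_mem_cancel_right
      (Amb.centralizer_anti h'.WJ (CP.omegaZ_le_centralizer J hz))).1 hu.2.2
    refine mul_mem (h.zw.2.2.2 ⟨hw, h.cent_elt (h'.WJ hw') c hw ?_⟩) hz
    rw [commutatorElement_eq_one_iff_mul_comm.2 (h1 w' hw')]
    exact one_mem _
  · have := h'.tr1.up ZQ hQ ((sup_le h'.WJ (CP.omegaZ_le J)).trans h.nQ)
    rwa [sup_assoc, sup_eq_right.2 ZQ, n1] at this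

end Cfsg.Agent.NFS
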